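import Groth.Agent.Lib.AlgSt.Axes.Base
import Groth.Agent.Lib.UnivThick.Affine
import Mathlib.AlgebraicGeometry.OpenImmersion
import Mathlib.RingTheory.Localization.Away.Basic
import Mathlib.Algebra.Polynomial.Laurent

/-!
# An affine line attached at its origin along a morphism of affine schemes
-/

set_option backward.isDefEq.respectTransparency false
set_option backward.isDefEq.respectTransparency.types false

universe u

open CategoryTheory AlgebraicGeometry Polynomial

namespace GrothLib.IsoNat

variable {R A : Type u} [CommRing R] [CommRing A] (ψ : R →+* A)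

/-- The ring of the line over `A` attached at the origin to `Spec R`. -/
def extRing : Subring (R × A[X]) where
  carrier := {e | ψ e.1 = e.2.eval 0}
  one_mem' := by simp
  zero_mem' := by simp
  add_mem' {a b} ha hb := by
    change ψ (a.1 + b.1) = (a.2 + b.2).eval 0
    rw [map_add, Polynomial.eval_add]; exact congrArg₂ (· + ·) ha hb
  mul_mem' {a b} ha hb := by
    change ψ (a.1 * b.1) = (a.2 * b.2).eval 0
    rw [map_mul, Polynomial.eval_mul]; exact congrArg₂ (· * ·) ha hb
  neg_mem' {a} ha := by
    change ψ (-a.1) = (-a.2).eval 0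
    rw [map_neg, Polynomial.eval_neg]; exact congrArg (-·) ha

/-- The value at the origin. -/
noncomputable def extFst : extRing ψ →+* R := (RingHom.fst R A[X]).comp (extRing ψ).subtype

/-- The restriction to the line. -/
noncomputable def extSnd : extRing ψ →+* A[X] := (RingHom.snd R A[X]).comp (extRing ψ).subtype

/-- The retraction. -/
noncomputable def extRet : R →+* extRing ψ :=
  ((RingHom.id R).prod (Polynomial.C.comp ψ)).codRestrict _ fun r => by
    change ψ r = (Polynomial.C (ψ r)).eval 0
    rw [Polynomial.eval_C]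

theorem extFst_extRet : (extFst ψ).comp (extRet ψ) = RingHom.id R := RingHom.ext fun _ => rfl

theorem extSnd_extRet : (extSnd ψ).comp (extRet ψ) = Polynomial.C.comp ψ := RingHom.ext fun _ => rfl

theorem eval_extSnd : (Polynomial.evalRingHom 0).comp (extSnd ψ) = ψ.comp (extFst ψ) :=
  RingHom.ext fun e => e.2.symm

theorem extSnd_surjective (h : Function.Surjective ψ) : Function.Surjective (extSnd ψ) := fun p => by
  obtain ⟨r, hr⟩ := h (p.eval 0)
  exact ⟨⟨(r, p), hr⟩, rfl⟩

theorem ker_extSnd_sq (h : RingHom.ker ψ ^ 2 = ⊥) : RingHom.ker (extSnd ψ) ^ 2 = ⊥ := by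
  rw [eq_bot_iff, pow_two, Ideal.mul_le]
  intro a ha b hb
  have ha2 : a.1.2 = 0 := ha
  have hb2 : b.1.2 = 0 := hb
  have ha1 : ψ a.1.1 = 0 := a.2.trans (by rw [ha2, Polynomial.eval_zero])
  have hb1 : ψ b.1.1 = 0 := b.2.trans (by rw [hb2, Polynomial.eval_zero])
  have : a.1.1 * b.1.1 ∈ RingHom.ker ψ ^ 2 := by
    rw [pow_two]; exact Ideal.mul_mem_mul ha1 hb1
  rw [h, Ideal.mem_bot] at this
  rw [Ideal.mem_bot]
  exact Subtype.ext (Prod.ext this (by
    change a.1.2 * b.1.2 = 0
    rw [ha2, zero_mul]))

/-- The punctured line in the extended scheme. -/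
noncomputable def extOverlap : extRing ψ →+* LaurentPolynomial A := Polynomial.toLaurent.comp (extSnd ψ)

theorem isOpenImmersion_extOverlap :
    IsOpenImmersion (Spec.map (CommRingCat.ofHom (extOverlap ψ))) := by
  let f : extRing ψ := ⟨(0, Polynomial.X), by change ψ 0 = _; simp⟩
  letI := (extOverlap ψ).toAlgebra
  have hf : algebraMap (extRing ψ) (LaurentPolynomial A) f = LaurentPolynomial.T 1 := Polynomial.toLaurent_X
  have : IsLocalization.Away f (LaurentPolynomial A) := by
    refine IsLocalization.Away.mk f (by rw [hf]; exact LaurentPolynomial.isUnit_T 1) (fun s => ?_) fun a b e => ?_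
    · obtain ⟨n, p, hp⟩ := LaurentPolynomial.exists_T_pow s
      refine ⟨n + 1, ⟨(0, p * Polynomial.X), by change ψ 0 = _; simp⟩, ?_⟩
      rw [hf, LaurentPolynomial.T_pow]
      change _ = Polynomial.toLaurent (p * Polynomial.X)
      rw [map_mul, Polynomial.toLaurent_X, hp, mul_assoc, ← LaurentPolynomial.T_add]
      congr 1
      push_cast
      ring_nf
    · have e' : a.1.2 = b.1.2 := Polynomial.toLaurent_injective e
      exact ⟨1, Subtype.ext (Prod.ext (by simp [f]) (by simp [f, e']))⟩
  exact IsOpenImmersion.of_isLocalization (S := LaurentPolynomial A) f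

variable (A) in
theorem dominant_toLaurent :
    IsSchemeTheoreticallyDominant (Spec.map (CommRingCat.ofHom (Polynomial.toLaurent (R := A)))) :=
  GrothLib.Axes.isSchemeTheoreticallyDominant_specMap _ Polynomial.toLaurent_injective

end GrothLib.IsoNat
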