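import Groth.Agent.Lib.AlgSt.IsoNat.TwoGlue
import Groth.Agent.Lib.AlgSt.IsoNat.Extension
import Groth.Agent.Lib.AlgSt.Axes.Transfer
import Groth.Agent.Lib.AlgSp.FormalLift
import Groth.Agent.Lib.AlgSp.SmoothGlue

/-!
# Infinitesimal lifting of morphisms into an object, read on isomorphism classes
-/

set_option backward.isDefEq.respectTransparency false
set_option backward.isDefEq.respectTransparency.types false

universe u

open CategoryTheory CategoryTheory.Limits AlgebraicGeometry Opposite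

namespace GrothLib.IsoNat

open _root_.AlgSt GrothLib.FibCat GrothLib.AlgSt GrothLib.AlgSp GrothLib.Axes

variable {S : Scheme.{u}} {𝒳 𝒴 : _root_.AlgSt.Cat S}

/-- Morphisms into `y` lift along affine first order thickenings. -/
def Lifts (y : 𝒴.obj) : Prop :=
  ∀ {T₀ T : Over S} (t : T₀ ⟶ T), FOT t → IsAffine T.left → ∀ {η z₀ : 𝒴.obj} (j : z₀ ⟶ η) (u₀ : z₀ ⟶ y),
    𝒴.p.IsHomLift t j → ∃ μ : η ⟶ y, j ≫ μ = u₀

/-- Lifts of morphisms into `y` have one base morphism. -/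
def UniqBase (y : 𝒴.obj) : Prop :=
  ∀ {T₀ T : Over S} (t : T₀ ⟶ T), FOT t → IsAffine T.left → ∀ {η z₀ : 𝒴.obj} (j : z₀ ⟶ η) (μ μ' : η ⟶ y),
    𝒴.p.IsHomLift t j → j ≫ μ = j ≫ μ' → 𝒴.p.map μ = 𝒴.p.map μ'

/-- Vertical endomorphisms of objects over `y` are determined on thickenings. -/
def KerTriv (y : 𝒴.obj) : Prop :=
  ∀ {T₀ T : Over S} (t : T₀ ⟶ T), FOT t → IsAffine T.left → ∀ {η z₀ : 𝒴.obj} (j : z₀ ⟶ η) (_ : η ⟶ y) (k : η ⟶ η),
    𝒴.p.IsHomLift t j → 𝒴.p.map k = 𝟙 _ → j ≫ k = j → k = 𝟙 η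

/-- Lifts of morphisms into `y` are unique. -/
def Uniq (y : 𝒴.obj) : Prop :=
  ∀ {T₀ T : Over S} (t : T₀ ⟶ T), FOT t → IsAffine T.left → ∀ {η z₀ : 𝒴.obj} (j : z₀ ⟶ η) (μ μ' : η ⟶ y),
    𝒴.p.IsHomLift t j → j ≫ μ = j ≫ μ' → μ = μ'

theorem uniq_iff (hG : _root_.FibCat.IsFibGrpd 𝒴.p) (y : 𝒴.obj) : Uniq y ↔ UniqBase y ∧ KerTriv y := by
  refine ⟨fun h => ⟨fun t ht hT η z₀ j μ μ' hj e => by rw [h t ht hT j μ μ' hj e],
    fun t ht hT η z₀ j μ k hj hk e => ?_⟩, fun h T₀ T t ht hT η z₀ j μ μ' hj e => ?_⟩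
  · exact IsFibGrpd.hom_ext' hG μ (hk.trans (𝒴.p.map_id η).symm)
      ((h t ht hT j (k ≫ μ) μ hj (by rw [reassoc_of% e])).trans (Category.id_comp μ).symm)
  · obtain ⟨k, hk, hkμ⟩ := exists_vert hG μ μ' (𝟙 _) (by rw [Category.id_comp]; exact h.1 t ht hT j μ μ' hj e)
    have hjk : j ≫ k = j := IsFibGrpd.hom_ext' hG μ (by rw [𝒴.p.map_comp, hk, Category.comp_id])
      (by rw [Category.assoc, hkμ, e])
    rw [← hkμ, h.2 t ht hT j μ k hj hk hjk, Category.id_comp]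

/-- The line over `T₀` with its punctured line. -/
structure LineData (T₀ : Over S) where
  L : Over S
  G : Over S
  g : G ⟶ L
  pL : L ⟶ T₀
  o₀ : T₀ ⟶ L
  o₀_pL : o₀ ≫ pL = 𝟙 T₀
  dominant : IsSchemeTheoreticallyDominant g.left
  openImm : IsOpenImmersion g.left

/-- The line attached at its origin along `φ`. -/
structure PieceData {T₀ : Over S} (Λ : LineData T₀) {X : Over S} (φ : T₀ ⟶ X) where
  E : Over S
  r : E ⟶ X
  o : X ⟶ E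
  i : Λ.L ⟶ E
  o_r : o ≫ r = 𝟙 X
  i_r : i ≫ r = Λ.pL ≫ φ
  o₀_i : Λ.o₀ ≫ i = φ ≫ o
  openImm : IsOpenImmersion (Λ.g ≫ i).left
  affine : IsAffine E.left
  fot : FOT φ → FOT i

theorem exists_lineData (A : CommRingCat.{u}) (s₀ : Spec A ⟶ S) :
    ∃ Λ : LineData (Over.mk s₀), ∀ {R : CommRingCat.{u}} (s : Spec R ⟶ S) (ψ : R ⟶ A)
      (w : Spec.map ψ ≫ s = s₀), Nonempty (PieceData Λ (Over.homMk (U := Over.mk s₀) (V := Over.mk s) (Spec.map ψ) w)) := by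
  let C : A ⟶ CommRingCat.of (Polynomial A) := CommRingCat.ofHom Polynomial.C
  let ev : CommRingCat.of (Polynomial A) ⟶ A := CommRingCat.ofHom (Polynomial.evalRingHom 0)
  let lau : CommRingCat.of (Polynomial A) ⟶ CommRingCat.of (LaurentPolynomial A) :=
    CommRingCat.ofHom (Polynomial.toLaurent (R := A))
  have hev : C ≫ ev = 𝟙 A := CommRingCat.hom_ext (RingHom.ext fun a => Polynomial.eval_C)
  let Λ : LineData (Over.mk s₀) :=
    { L := Over.mk (Spec.map C ≫ s₀)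
      G := Over.mk (Spec.map lau ≫ Spec.map C ≫ s₀)
      g := Over.homMk (Spec.map lau) rfl
      pL := Over.homMk (Spec.map C) rfl
      o₀ := Over.homMk (Spec.map ev) (by
        change Spec.map ev ≫ Spec.map C ≫ s₀ = s₀
        rw [← Spec.map_comp_assoc, hev, Spec.map_id, Category.id_comp])
      o₀_pL := Over.OverMorphism.ext (by
        change Spec.map ev ≫ Spec.map C = 𝟙 _
        rw [← Spec.map_comp, hev, Spec.map_id])
      dominant := dominant_toLaurent A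
      openImm := IsOpenImmersion.of_isLocalization (S := LaurentPolynomial A) (Polynomial.X : Polynomial A) }
  refine ⟨Λ, fun {R} s ψ w => ?_⟩
  let E : CommRingCat.{u} := CommRingCat.of (extRing ψ.hom)
  let fE : E ⟶ R := CommRingCat.ofHom (extFst ψ.hom)
  let sE : E ⟶ CommRingCat.of (Polynomial A) := CommRingCat.ofHom (extSnd ψ.hom)
  let rE : R ⟶ E := CommRingCat.ofHom (extRet ψ.hom)
  have h1 : rE ≫ fE = 𝟙 R := CommRingCat.hom_ext (extFst_extRet ψ.hom)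
  have h2 : rE ≫ sE = ψ ≫ C := CommRingCat.hom_ext (extSnd_extRet ψ.hom)
  have h3 : sE ≫ ev = fE ≫ ψ := CommRingCat.hom_ext (eval_extSnd ψ.hom)
  refine ⟨{ E := Over.mk (Spec.map rE ≫ s)
            r := Over.homMk (Spec.map rE) rfl
            o := Over.homMk (Spec.map fE) ?_
            i := Over.homMk (Spec.map sE) ?_
            o_r := Over.OverMorphism.ext ?_
            i_r := Over.OverMorphism.ext ?_
            o₀_i := Over.OverMorphism.ext ?_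
            openImm := ?_
            affine := inferInstanceAs (IsAffine (Spec E))
            fot := fun hφ => ?_ }⟩
  · change Spec.map fE ≫ Spec.map rE ≫ s = s
    rw [← Spec.map_comp_assoc, h1, Spec.map_id, Category.id_comp]
  · change Spec.map sE ≫ Spec.map rE ≫ s = Spec.map C ≫ s₀
    rw [← Spec.map_comp_assoc, h2, Spec.map_comp_assoc, w]
  · change Spec.map fE ≫ Spec.map rE = 𝟙 _
    rw [← Spec.map_comp, h1, Spec.map_id]
  · change Spec.map sE ≫ Spec.map rE = Spec.map C ≫ Spec.map ψ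
    rw [← Spec.map_comp, ← Spec.map_comp, h2]
  · change Spec.map ev ≫ Spec.map sE = Spec.map ψ ≫ Spec.map fE
    rw [← Spec.map_comp, ← Spec.map_comp, h3]
  · change IsOpenImmersion (Spec.map lau ≫ Spec.map sE)
    rw [← Spec.map_comp, show sE ≫ lau = CommRingCat.ofHom (extOverlap ψ.hom) from rfl]
    exact isOpenImmersion_extOverlap ψ.hom
  · have hφ' : MoreMor.IsFirstOrderThickening (Spec.map ψ) := hφ
    have := hφ'.1.1
    have hs := surjective_of_isClosedImmersion_specMap ψ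
    have hk := ker_sq_of_fot_specMap ψ hφ'
    exact GrothLib.UnivThick.fot_spec sE (extSnd_surjective ψ.hom hs) (ker_extSnd_sq ψ.hom hk)

theorem base_eq {R R' : Over S} {a b : 𝒴.obj} {f g : R ⟶ R'} (χ : a ⟶ b) (hf : 𝒴.p.IsHomLift f χ)
    (hg : 𝒴.p.IsHomLift g χ) : f = g := by
  rw [IsHomLift.fac 𝒴.p f χ, IsHomLift.fac 𝒴.p g χ]

section Transfer

variable {φ : _root_.IsoNat.FIso 𝒳 𝒴} (hst : _root_.Stk.IsStack (AlgSp.J S) 𝒳)
  (hst' : _root_.Stk.IsStack (AlgSp.J S) 𝒴)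
  (hd' : RepByAlgSpWith AlgSp.IsSeparatedMor (_root_.FibCat.diag (_root_.FibCat.toSelf 𝒴)))
  {T₀ T U : Over S} {t : T₀ ⟶ T} {a₀ : T₀ ⟶ U} {Λ : LineData T₀}
  {x : 𝒳.obj} {y η z₀ : 𝒴.obj} {j : z₀ ⟶ η} {u₀ : z₀ ⟶ y}

omit hst hst' in
/-- Morphisms over one base morphism agreeing on the punctured line agree on the line. -/
theorem eq_of_agree_line {𝒵 : _root_.AlgSt.Cat S} (hG : _root_.FibCat.IsFibGrpd 𝒵.p)
    (hd : RepByAlgSpWith AlgSp.IsSeparatedMor (_root_.FibCat.diag (_root_.FibCat.toSelf 𝒵)))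
    {T₀ : Over S} {Λ : LineData T₀} {zG zL q : 𝒵.obj} (κ : zG ⟶ zL) (hκ : 𝒵.p.IsHomLift Λ.g κ)
    (f f' : zL ⟶ q) (hp : 𝒵.p.map f = 𝒵.p.map f') (h : κ ≫ f = κ ≫ f') : f = f' := by
  obtain ⟨β, hβ, hβf⟩ := exists_vert hG f f' (𝟙 _) (by rw [Category.id_comp, hp])
  have : IsSchemeTheoreticallyDominant (𝒵.p.map κ).left := by
    have := hκ
    have := Λ.dominant
    rw [IsHomLift.fac' 𝒵.p Λ.g κ]
    simp only [Over.comp_left]
    have : IsIso (eqToHom (IsHomLift.domain_eq 𝒵.p Λ.g κ)).left := inferInstanceAs (IsIso ((Over.forget S).map _))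
    have : IsIso (eqToHom (IsHomLift.codomain_eq 𝒵.p Λ.g κ).symm).left :=
      inferInstanceAs (IsIso ((Over.forget S).map _))
    infer_instance
  have : β = 𝟙 zL := aut_eq_of_agree hd hG κ β (𝟙 zL) hβ (𝒵.p.map_id zL) (by
    refine IsFibGrpd.hom_ext' hG f ?_ ?_
    · rw [𝒵.p.map_comp, 𝒵.p.map_comp, hβ, 𝒵.p.map_id]
    · rw [Category.assoc, Category.assoc, hβf, Category.id_comp, h])
  rw [← hβf, this, Category.id_comp]

/-- The targets of two pieces. -/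
abbrev pieceE (P : PieceData Λ t) (Q : PieceData Λ a₀) : Bool → Over S
  | false => P.E
  | true => Q.E

/-- The punctured line in two pieces. -/
abbrev pieceJ (P : PieceData Λ t) (Q : PieceData Λ a₀) : ∀ b, Λ.G ⟶ pieceE P Q b
  | false => Λ.g ≫ P.i
  | true => Λ.g ≫ Q.i

/-- Objects glued from pullbacks to two pieces, read on both sides. -/
structure Setup (P : PieceData Λ t) (Q : PieceData Λ a₀) (ψ : _root_.IsoNat.FIso 𝒴 𝒳) (j : z₀ ⟶ η)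
    (u₀ : z₀ ⟶ y) where
  ηA : 𝒴.obj
  aA : ηA ⟶ η
  haA : 𝒴.p.IsHomLift P.r aA
  yR : 𝒴.obj
  rR : yR ⟶ y
  hrR : 𝒴.p.IsHomLift Q.r rR
  zL : 𝒴.obj
  pz : zL ⟶ z₀
  hpz : 𝒴.p.IsHomLift Λ.pL pz
  zG : 𝒴.obj
  gz : zG ⟶ zL
  hgz : 𝒴.p.IsHomLift Λ.g gz
  iA : zL ⟶ ηA
  hiA : 𝒴.p.IsHomLift P.i iA
  hiAa : iA ≫ aA = pz ≫ j
  iR : zL ⟶ yR
  hiR : 𝒴.p.IsHomLift Q.i iR
  hiRr : iR ≫ rR = pz ≫ u₀
  D : Glue Λ.G (pieceE P Q) (pieceJ P Q)
  Y : 𝒴.obj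
  hYW : 𝒴.p.obj Y = D.W
  vA : ηA ⟶ Y
  vR : yR ⟶ Y
  hvA : 𝒴.p.IsHomLift (D.c false) vA
  hvR : 𝒴.p.IsHomLift (D.c true) vR
  hkY : gz ≫ iA ≫ vA = gz ≫ iR ≫ vR
  XW : 𝒳.obj
  hXW : Corr ψ D.W Y XW
  ξA : 𝒳.obj
  hξA : Corr ψ P.E ηA ξA
  xR : 𝒳.obj
  hxR : Corr ψ Q.E yR xR
  vA' : ξA ⟶ XW
  vR' : xR ⟶ XW
  hvA' : 𝒳.p.IsHomLift (D.c false) vA'
  hvR' : 𝒳.p.IsHomLift (D.c true) vR'
  ξL : 𝒳.obj
  ξG : 𝒳.obj
  gξ : ξG ⟶ ξL
  hgξ : 𝒳.p.IsHomLift Λ.g gξ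
  lA : ξL ⟶ ξA
  lR : ξL ⟶ xR
  hlA : 𝒳.p.IsHomLift P.i lA
  hlR : 𝒳.p.IsHomLift Q.i lR
  hkX : gξ ≫ lA ≫ vA' = gξ ≫ lR ≫ vR'

include hst hst'

theorem exists_setup (P : PieceData Λ t) (Q : PieceData Λ a₀) (φ : _root_.IsoNat.FIso 𝒳 𝒴)
    (hyU : 𝒴.p.obj y = U) (hj : 𝒴.p.IsHomLift t j) (hu : 𝒴.p.IsHomLift a₀ u₀) :
    ∃ ψ : _root_.IsoNat.FIso 𝒴 𝒳, (∀ T, φ.toEquiv T = (ψ.toEquiv T).symm) ∧ Nonempty (Setup P Q ψ j u₀) := by
  have hG := hst.1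
  have hG' := hst'.1
  have hηT : 𝒴.p.obj η = T := IsHomLift.codomain_eq 𝒴.p t j
  have hz₀ : 𝒴.p.obj z₀ = T₀ := IsHomLift.domain_eq 𝒴.p t j
  obtain ⟨ηA, aA, haA⟩ := IsFibGrpd.exists_lift_of_eq hG' hηT P.r
  obtain ⟨yR, rR, hrR⟩ := IsFibGrpd.exists_lift_of_eq hG' hyU Q.r
  obtain ⟨zL, pz, hpz⟩ := IsFibGrpd.exists_lift_of_eq hG' hz₀ Λ.pL
  obtain ⟨zG, gz, hgz⟩ := IsFibGrpd.exists_lift_of_eq hG' (IsHomLift.domain_eq 𝒴.p Λ.pL pz) Λ.g
  obtain ⟨iA, hiA, hiAa⟩ := exists_over hG' P.i P.r aA haA (pz ≫ j) (by rw [P.i_r]; infer_instance)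
  obtain ⟨iR, hiR, hiRr⟩ := exists_over hG' Q.i Q.r rR hrR (pz ≫ u₀) (by rw [Q.i_r]; infer_instance)
  let E : Bool → Over S := pieceE P Q
  let jE : ∀ b, Λ.G ⟶ E b := pieceJ P Q
  have hjE : ∀ b, IsOpenImmersion (jE b).left := fun b => by cases b; exacts [P.openImm, Q.openImm]
  obtain ⟨D⟩ := exists_glue Λ.G E jE hjE
  let zE : Bool → 𝒴.obj := fun b => match b with
    | false => ηA
    | true => yR
  have hzE : ∀ b, 𝒴.p.obj (zE b) = E b := fun b => by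
    cases b
    exacts [IsHomLift.domain_eq 𝒴.p P.r aA, IsHomLift.domain_eq 𝒴.p Q.r rR]
  let kE : ∀ b, zG ⟶ zE b := fun b => match b with
    | false => gz ≫ iA
    | true => gz ≫ iR
  have hkE : ∀ b, 𝒴.p.IsHomLift (jE b) (kE b) := fun b => by
    cases b
    · exact (inferInstance : 𝒴.p.IsHomLift (Λ.g ≫ P.i) (gz ≫ iA))
    · exact (inferInstance : 𝒴.p.IsHomLift (Λ.g ≫ Q.i) (gz ≫ iR))
  obtain ⟨Y, vY, hYW, hvY, hkY⟩ := D.exists_obj hst' hzE hkE hjE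
  -- the doubled line
  obtain ⟨D₀⟩ := exists_glue Λ.G (fun _ => Λ.L) (fun _ => Λ.g) (fun _ => Λ.openImm)
  obtain ⟨pD, hpD⟩ := D₀.desc (fun _ => Λ.pL) rfl
  obtain ⟨d, hd⟩ := D₀.desc (fun b => match b with
    | false => P.i ≫ D.c false
    | true => Q.i ≫ D.c true) (by simpa [jE, Category.assoc] using D.w)
  obtain ⟨zD, qD, hqD⟩ := IsFibGrpd.exists_lift_of_eq hG' hz₀ pD
  have hzDW : 𝒴.p.obj zD = D₀.W := IsHomLift.domain_eq 𝒴.p pD qD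
  have hs : ∀ b, ∃ s : zL ⟶ zD, 𝒴.p.IsHomLift (D₀.c b) s ∧ s ≫ qD = pz := fun b =>
    exists_over hG' _ _ qD hqD pz (by rw [hpD]; exact hpz)
  choose s hs hsq using hs
  have hgs : gz ≫ s false = gz ≫ s true := by
    have := hs false
    have := hs true
    refine over_unique hG' _ qD hqD (g := Λ.g ≫ D₀.c false) inferInstance ?_ (by simp [hsq])
    rw [D₀.w]; infer_instance
  have hδ : ∃ δ : zD ⟶ Y, 𝒴.p.IsHomLift d δ := by
    have := hiA; have := hiR; have := hvY false; have := hvY true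
    have hl : ∀ b, 𝒴.p.IsHomLift (D₀.c b ≫ d)
        ((match b with | false => iA ≫ vY false | true => iR ≫ vY true : zL ⟶ Y)) := fun b => by
      rw [hd]
      cases b
      · exact (inferInstance : 𝒴.p.IsHomLift (P.i ≫ D.c false) (iA ≫ vY false))
      · exact (inferInstance : 𝒴.p.IsHomLift (Q.i ≫ D.c true) (iR ≫ vY true))
    let nD : Bool → (zL ⟶ Y) := fun b => match b with
      | false => iA ≫ vY false
      | true => iR ≫ vY true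
    have hl' : ∀ b, 𝒴.p.IsHomLift (D₀.c b ≫ d) (nD b) := fun b => by cases b; exacts [hl false, hl true]
    obtain ⟨δ, hδ, -⟩ := D₀.exists_hom hst' (a := zD) (b := Y) (eqToHom hzDW ≫ d ≫ eqToHom hYW.symm)
      (z := fun _ => zL) (v := s) hs (zV := zG) (k := fun _ => gz) (fun _ => hgz) hgs
      nD (fun b => by
        have := hl' b
        have := hs b
        rw [IsHomLift.fac' 𝒴.p (D₀.c b ≫ d) (nD b), IsHomLift.fac' 𝒴.p (D₀.c b) (s b)]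
        simp) (by simpa [kE, nD, Category.assoc] using hkY)
    exact ⟨δ, IsHomLift.of_fac' 𝒴.p _ _ hzDW hYW hδ⟩
  obtain ⟨δ, hδ⟩ := hδ
  -- the other side
  obtain ⟨ψ, hψ⟩ := exists_fiso_symm hG hG' φ
  have hψ' : ∀ T, φ.toEquiv T = (ψ.toEquiv T).symm := fun T => by rw [hψ, Equiv.symm_symm]
  obtain ⟨ξA, hξA⟩ := Corr.exists_right ψ (IsHomLift.domain_eq 𝒴.p P.r aA)
  obtain ⟨xR, hxR⟩ := Corr.exists_right ψ (IsHomLift.domain_eq 𝒴.p Q.r rR)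
  obtain ⟨ξ₀, hξ₀⟩ := Corr.exists_right ψ hz₀
  obtain ⟨ξD, hξD⟩ := Corr.exists_right ψ hzDW
  obtain ⟨XW, hXW⟩ := Corr.exists_right ψ hYW
  obtain ⟨vA', hvA'⟩ := hξA.transfer hXW _ _ (hvY false)
  obtain ⟨vR', hvR'⟩ := hxR.transfer hXW _ _ (hvY true)
  obtain ⟨qD', hqD'⟩ := hξD.transfer hξ₀ _ qD hqD
  obtain ⟨δ', hδ'⟩ := hξD.transfer hXW _ δ hδ
  obtain ⟨-, hξ₀T, -⟩ := id hξ₀
  obtain ⟨ξL, pξ, hpξ⟩ := IsFibGrpd.exists_lift_of_eq hG hξ₀T Λ.pL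
  obtain ⟨ξG, gξ, hgξ⟩ := IsFibGrpd.exists_lift_of_eq hG (IsHomLift.domain_eq 𝒳.p Λ.pL pξ) Λ.g
  have hσ : ∀ b, ∃ σ : ξL ⟶ ξD, 𝒳.p.IsHomLift (D₀.c b) σ ∧ σ ≫ qD' = pξ := fun b =>
    exists_over hG _ _ qD' hqD' pξ (by rw [hpD]; exact hpξ)
  choose σ hσ hσq using hσ
  have hgσ : gξ ≫ σ false = gξ ≫ σ true := by
    have := hσ false
    have := hσ true
    refine over_unique hG _ qD' hqD' (g := Λ.g ≫ D₀.c false) inferInstance ?_ (by simp [hσq])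
    rw [D₀.w]; infer_instance
  have := hσ false
  have := hσ true
  have := hδ'
  obtain ⟨lA, hlA, hlAv⟩ := exists_over hG P.i (D.c false) vA' hvA' (σ false ≫ δ')
    (by rw [← show D₀.c false ≫ d = P.i ≫ D.c false from hd false]; infer_instance)
  obtain ⟨lR, hlR, hlRv⟩ := exists_over hG Q.i (D.c true) vR' hvR' (σ true ≫ δ')
    (by rw [← show D₀.c true ≫ d = Q.i ≫ D.c true from hd true]; infer_instance)
  exact ⟨ψ, hψ', ⟨⟨ηA, aA, haA, yR, rR, hrR, zL, pz, hpz, zG, gz, hgz, iA, hiA, hiAa, iR, hiR, hiRr, D, Y,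
    hYW, vY false, vY true, hvY false, hvY true, by simpa [kE, Category.assoc] using hkY,
    XW, hXW, ξA, hξA, xR, hxR, vA', vR', hvA', hvR', ξL, ξG, gξ, hgξ, lA, lR, hlA, hlR,
    by rw [hlAv, hlRv]; exact (reassoc_of% hgσ) _⟩⟩⟩

include hd'

theorem lifts_piece (P : PieceData Λ t) (Q : PieceData Λ a₀) (hc : Corr φ U x y) (hx : Lifts x) (ht : FOT t)
    (hj : 𝒴.p.IsHomLift t j) (hu : 𝒴.p.IsHomLift a₀ u₀) : ∃ μ : η ⟶ y, j ≫ μ = u₀ := by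
  have hG := hst.1
  have hG' := hst'.1
  have hηT : 𝒴.p.obj η = T := IsHomLift.codomain_eq 𝒴.p t j
  have hz₀ : 𝒴.p.obj z₀ = T₀ := IsHomLift.domain_eq 𝒴.p t j
  obtain ⟨hxU, hyU, -⟩ := id hc
  obtain ⟨ψ, hψ', ⟨ηA, aA, haA, yR, rR, hrR, zL, pz, hpz, zG, gz, hgz, iA, hiA, hiAa, iR, hiR, hiRr, D, Y,
    hYW, vA, vR, hvA, hvR, hkY, XW, hXW, ξA, hξA, xR, hxR, vA', vR', hvA', hvR', ξL, ξG, gξ, hgξ, lA, lR, hlA,
    hlR, hkXv⟩⟩ := exists_setup hst hst' P Q φ hyU hj hu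
  have hx' := hc.symm ψ (fun T => by rw [hψ', Equiv.symm_symm])
  obtain ⟨rR', hrR'⟩ := hxR.transfer hx' _ rR hrR
  obtain ⟨fA, hfA⟩ := hx P.i (P.fot ht) P.affine lA (lR ≫ rR') hlA
  -- glue the lift
  let xE : Bool → 𝒳.obj := fun b => match b with
    | false => ξA
    | true => xR
  let vX : ∀ b, xE b ⟶ XW := fun b => match b with
    | false => vA'
    | true => vR'
  let kX : ∀ b, ξG ⟶ xE b := fun b => match b with
    | false => gξ ≫ lA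
    | true => gξ ≫ lR
  let nX : ∀ b, xE b ⟶ x := fun b => match b with
    | false => fA
    | true => rR'
  have hfAl : ∃ bA : P.E ⟶ U, 𝒳.p.IsHomLift bA fA :=
    ⟨eqToHom (hξA.2.1).symm ≫ 𝒳.p.map fA ≫ eqToHom hxU, IsHomLift.of_fac 𝒳.p _ _ hξA.2.1 hxU rfl⟩
  obtain ⟨bA, hbA⟩ := hfAl
  let bE : ∀ b, pieceE P Q b ⟶ U := fun b => match b with
    | false => bA
    | true => Q.r
  have hnX : ∀ b, 𝒳.p.IsHomLift (bE b) (nX b) := fun b => by cases b; exacts [hbA, hrR']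
  have hkX : ∀ b, 𝒳.p.IsHomLift (pieceJ P Q b) (kX b) := fun b => by
    cases b
    · exact (inferInstance : 𝒳.p.IsHomLift (Λ.g ≫ P.i) (gξ ≫ lA))
    · exact (inferInstance : 𝒳.p.IsHomLift (Λ.g ≫ Q.i) (gξ ≫ lR))
  have hkn : kX false ≫ nX false = kX true ≫ nX true := by
    simp only [kX, nX, Category.assoc, hfA]
  have hbE : pieceJ P Q false ≫ bE false = pieceJ P Q true ≫ bE true := by
    have := hkX false; have := hkX true; have := hnX false; have := hnX true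
    refine base_eq (kX false ≫ nX false) inferInstance ?_
    rw [hkn]; infer_instance
  obtain ⟨ω, hω⟩ := D.desc bE hbE
  have hvX : ∀ b, 𝒳.p.IsHomLift (D.c b) (vX b) := fun b => by cases b; exacts [hvA', hvR']
  obtain ⟨hXW0, -⟩ := id hXW
  have hXWW : 𝒳.p.obj XW = D.W := hXW.2.1
  obtain ⟨cX, hcX, hcXv⟩ := D.exists_hom hst (a := XW) (b := x) (eqToHom hXWW ≫ ω ≫ eqToHom hxU.symm)
    hvX hkX (by
      simpa only [kX, vX, Category.assoc] using hkXv) nX (fun b => by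
      have := hvX b
      have h := hnX b
      rw [← hω] at h
      rw [IsHomLift.fac' 𝒳.p (D.c b ≫ ω) (nX b), IsHomLift.fac' 𝒳.p (D.c b) (vX b)]
      simp) hkn
  have hcXl : 𝒳.p.IsHomLift ω cX := IsHomLift.of_fac' 𝒳.p _ _ hXWW hxU hcX
  -- back
  obtain ⟨c, hcl⟩ := (hXW.symm φ hψ').transfer hc ω cX hcXl
  obtain ⟨ζA, hζA, hζAa⟩ := exists_over hG' P.o P.r aA haA (𝟙 η) (by rw [P.o_r]; exact IsHomLift.id hηT)
  obtain ⟨ζR, hζR, hζRr⟩ := exists_over hG' Q.o Q.r rR hrR (𝟙 y) (by rw [Q.o_r]; exact IsHomLift.id hyU)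
  obtain ⟨ζ₀, hζ₀, hζ₀p⟩ := exists_over hG' Λ.o₀ Λ.pL pz hpz (𝟙 z₀) (by rw [Λ.o₀_pL]; exact IsHomLift.id hz₀)
  have h1 : j ≫ ζA = ζ₀ ≫ iA := by
    refine over_unique hG' P.r aA haA (g := t ≫ P.o) inferInstance ?_ ?_
    · rw [← P.o₀_i]; infer_instance
    · rw [Category.assoc, hζAa, Category.comp_id, Category.assoc, hiAa, reassoc_of% hζ₀p]
  have h2 : u₀ ≫ ζR = ζ₀ ≫ iR := by
    refine over_unique hG' Q.r rR hrR (g := a₀ ≫ Q.o) inferInstance ?_ ?_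
    · rw [← Q.o₀_i]; infer_instance
    · rw [Category.assoc, hζRr, Category.comp_id, Category.assoc, hiRr, reassoc_of% hζ₀p]
  have := hvA
  have := hvR
  have hωR : D.c true ≫ ω = Q.r := hω true
  have hl2 : 𝒴.p.IsHomLift (D.c true ≫ ω) (vR ≫ c) := inferInstance
  rw [hωR] at hl2
  have h3 : iA ≫ vA ≫ c = iR ≫ vR ≫ c := by
    refine eq_of_agree_line hG' hd' gz hgz _ _ ?_ ?_
    · have ha : 𝒴.p.IsHomLift (P.i ≫ D.c false ≫ ω) (iA ≫ vA ≫ c) := inferInstance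
      have hb : 𝒴.p.IsHomLift (Q.i ≫ D.c true ≫ ω) (iR ≫ vR ≫ c) := inferInstance
      have heq : P.i ≫ D.c false ≫ ω = Q.i ≫ D.c true ≫ ω := by
        rw [hω, hω]
        have hh : 𝒳.p.IsHomLift (P.i ≫ bA) (lA ≫ fA) := inferInstance
        exact base_eq _ hh (by rw [hfA]; infer_instance)
      rw [heq] at ha
      rw [IsHomLift.fac' 𝒴.p (Q.i ≫ D.c true ≫ ω) (iA ≫ vA ≫ c),
        IsHomLift.fac' 𝒴.p (Q.i ≫ D.c true ≫ ω) (iR ≫ vR ≫ c)]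
    · simpa [Category.assoc] using congrArg (· ≫ c) hkY
  let γ : y ⟶ y := ζR ≫ vR ≫ c
  have hγ : 𝒴.p.IsHomLift (𝟙 U) γ := by
    rw [← Q.o_r]
    exact (inferInstance : 𝒴.p.IsHomLift (Q.o ≫ Q.r) (ζR ≫ (vR ≫ c)))
  have := IsFibGrpd.isIso_of_isHomLift_id hG' (R := U) γ
  refine ⟨(ζA ≫ vA ≫ c) ≫ inv γ, ?_⟩
  rw [← Category.assoc, ← Category.assoc, IsIso.comp_inv_eq]
  simp only [Category.assoc, γ, reassoc_of% h1, reassoc_of% h2, h3]

theorem uniqBase_piece (hd : RepByAlgSpWith AlgSp.IsSeparatedMor (_root_.FibCat.diag (_root_.FibCat.toSelf 𝒳)))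
    (P : PieceData Λ t) (Q : PieceData Λ a₀) (hc : Corr φ U x y) (hx : UniqBase x) (ht : FOT t)
    (hT : IsAffine T.left) (μ : Bool → (η ⟶ y))
    (hj : 𝒴.p.IsHomLift t j) (hu : 𝒴.p.IsHomLift a₀ u₀) (hμ : ∀ b, j ≫ μ b = u₀) :
    𝒴.p.map (μ false) = 𝒴.p.map (μ true) := by
  have hG := hst.1
  have hG' := hst'.1
  have hηT : 𝒴.p.obj η = T := IsHomLift.codomain_eq 𝒴.p t j
  obtain ⟨hxU, hyU, -⟩ := id hc
  obtain ⟨ψ, hψ', ⟨ηA, aA, haA, yR, rR, hrR, zL, pz, hpz, zG, gz, hgz, iA, hiA, hiAa, iR, hiR, hiRr, D, Y,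
    hYW, vA, vR, hvA, hvR, hkY, XW, hXW, ξA, hξA, xR, hxR, vA', vR', hvA', hvR', ξL, ξG, gξ, hgξ, lA, lR, hlA,
    hlR, hkXv⟩⟩ := exists_setup hst hst' P Q φ hyU hj hu
  have hx' := hc.symm ψ (fun T => by rw [hψ', Equiv.symm_symm])
  let bμ : Bool → (T ⟶ U) := fun b => eqToHom hηT.symm ≫ 𝒴.p.map (μ b) ≫ eqToHom hyU
  have hμl : ∀ b, 𝒴.p.IsHomLift (bμ b) (μ b) := fun b => IsHomLift.of_fac 𝒴.p _ _ hηT hyU rfl
  have hbt : ∀ b, t ≫ bμ b = a₀ := fun b => by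
    have := hμl b
    refine base_eq u₀ ?_ hu
    rw [← hμ b]; infer_instance
  let zE : Bool → 𝒴.obj := fun e => match e with
    | false => ηA
    | true => yR
  let vE : ∀ e, zE e ⟶ Y := fun e => match e with
    | false => vA
    | true => vR
  let kE : ∀ e, zG ⟶ zE e := fun e => match e with
    | false => gz ≫ iA
    | true => gz ≫ iR
  have hvE : ∀ e, 𝒴.p.IsHomLift (D.c e) (vE e) := fun e => by cases e; exacts [hvA, hvR]
  have hkE : ∀ e, 𝒴.p.IsHomLift (pieceJ P Q e) (kE e) := fun e => by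
    cases e
    · exact (inferInstance : 𝒴.p.IsHomLift (Λ.g ≫ P.i) (gz ≫ iA))
    · exact (inferInstance : 𝒴.p.IsHomLift (Λ.g ≫ Q.i) (gz ≫ iR))
  have hc' : ∀ b, ∃ (ω : D.W ⟶ U) (c : XW ⟶ x), 𝒳.p.IsHomLift ω c ∧
      D.c false ≫ ω = P.r ≫ bμ b ∧ D.c true ≫ ω = Q.r := fun b => by
    let bE : ∀ e, pieceE P Q e ⟶ U := fun e => match e with
      | false => P.r ≫ bμ b
      | true => Q.r
    obtain ⟨ω, hω⟩ := D.desc bE (by
      simp only [bE, pieceJ, Category.assoc]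
      rw [reassoc_of% P.i_r, hbt b, Q.i_r])
    let nE : ∀ e, zE e ⟶ y := fun e => match e with
      | false => aA ≫ μ b
      | true => rR
    have hnE : ∀ e, 𝒴.p.IsHomLift (bE e) (nE e) := fun e => by
      have := hμl b
      cases e
      · exact (inferInstance : 𝒴.p.IsHomLift (P.r ≫ bμ b) (aA ≫ μ b))
      · exact hrR
    obtain ⟨c, hcp, -⟩ := D.exists_hom hst' (a := Y) (b := y) (eqToHom hYW ≫ ω ≫ eqToHom hyU.symm)
      hvE hkE (by simpa [kE, vE, Category.assoc] using hkY) nE (fun e => by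
        have := hvE e
        have h := hnE e
        rw [← hω] at h
        rw [IsHomLift.fac' 𝒴.p (D.c e ≫ ω) (nE e), IsHomLift.fac' 𝒴.p (D.c e) (vE e)]
        simp) (by simp [kE, nE, reassoc_of% hiAa, hμ b, hiRr])
    obtain ⟨c', hc'⟩ := hXW.transfer hx' ω c (IsHomLift.of_fac' 𝒴.p _ _ hYW hyU hcp)
    exact ⟨ω, c', hc', hω false, hω true⟩
  choose ω c hcl hωA hωR using hc'
  obtain ⟨-, hξAE, -⟩ := id hξA
  obtain ⟨-, hxRE, -⟩ := id hxR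
  obtain ⟨ξ, ζA, hζA⟩ := IsFibGrpd.exists_lift_of_eq hG hξAE P.o
  obtain ⟨xU, ζR, hζR⟩ := IsFibGrpd.exists_lift_of_eq hG hxRE Q.o
  obtain ⟨ξ₀, ζ₀, hζ₀⟩ := IsFibGrpd.exists_lift_of_eq hG (IsHomLift.domain_eq 𝒳.p P.i lA) Λ.o₀
  obtain ⟨j', hj', hj'A⟩ := exists_over hG t P.o ζA hζA (ζ₀ ≫ lA) (by rw [← P.o₀_i]; infer_instance)
  obtain ⟨u', hu', hu'R⟩ := exists_over hG a₀ Q.o ζR hζR (ζ₀ ≫ lR) (by rw [← Q.o₀_i]; infer_instance)
  have hγ : ∀ b, 𝒳.p.IsHomLift (𝟙 U) (ζR ≫ vR' ≫ c b) := fun b => by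
    have := hcl b
    have h : 𝒳.p.IsHomLift (Q.o ≫ D.c true ≫ ω b) (ζR ≫ vR' ≫ c b) := inferInstance
    rwa [hωR b, Q.o_r] at h
  have hA : ∀ b, lA ≫ vA' ≫ c b = lR ≫ vR' ≫ c b := fun b => by
    have := hcl b
    refine eq_of_agree_line hG hd gξ hgξ _ _ ?_ ?_
    · have ha : 𝒳.p.IsHomLift (P.i ≫ D.c false ≫ ω b) (lA ≫ vA' ≫ c b) := inferInstance
      have hb : 𝒳.p.IsHomLift (Q.i ≫ D.c true ≫ ω b) (lR ≫ vR' ≫ c b) := inferInstance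
      have heq : P.i ≫ D.c false ≫ ω b = Q.i ≫ D.c true ≫ ω b := by
        rw [hωA, hωR, reassoc_of% P.i_r, hbt b, Q.i_r]
      rw [heq] at ha
      rw [IsHomLift.fac' 𝒳.p (Q.i ≫ D.c true ≫ ω b) (lA ≫ vA' ≫ c b),
        IsHomLift.fac' 𝒳.p (Q.i ≫ D.c true ≫ ω b) (lR ≫ vR' ≫ c b)]
    · simpa [Category.assoc] using congrArg (· ≫ c b) hkXv
  have := hγ false
  have := hγ true
  have := IsFibGrpd.isIso_of_isHomLift_id hG (R := U) (ζR ≫ vR' ≫ c false)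
  have := IsFibGrpd.isIso_of_isHomLift_id hG (R := U) (ζR ≫ vR' ≫ c true)
  have key : ∀ b, 𝒳.p.IsHomLift (bμ b) (ζA ≫ vA' ≫ c b) ∧
      j' ≫ ζA ≫ vA' ≫ c b = u' ≫ ζR ≫ vR' ≫ c b := fun b => by
    have := hcl b
    refine ⟨?_, ?_⟩
    · have h : 𝒳.p.IsHomLift (P.o ≫ D.c false ≫ ω b) (ζA ≫ vA' ≫ c b) := inferInstance
      rwa [hωA, reassoc_of% P.o_r] at h
    · rw [reassoc_of% hj'A, reassoc_of% hu'R, hA b]
  have e := hx t ht hT j' (ζA ≫ vA' ≫ c false)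
    ((ζA ≫ vA' ≫ c true) ≫ inv (ζR ≫ vR' ≫ c true) ≫ ζR ≫ vR' ≫ c false) hj' (by
      rw [(key false).2]
      rw [← Category.assoc j', (key true).2, Category.assoc u', IsIso.hom_inv_id_assoc])
  have h1 := (key false).1
  have h2 := (key true).1
  have h3 : 𝒳.p.IsHomLift (bμ true) ((ζA ≫ vA' ≫ c true) ≫ inv (ζR ≫ vR' ≫ c true) ≫ ζR ≫ vR' ≫ c false) := by
    have : 𝒳.p.IsHomLift (asIso (𝟙 U)).inv (inv (ζR ≫ vR' ≫ c true)) := by
      have : 𝒳.p.IsHomLift (asIso (𝟙 U)).hom (asIso (ζR ≫ vR' ≫ c true)).hom := hγ true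
      exact IsHomLift.inv_lift_inv 𝒳.p (asIso (𝟙 U)) (asIso (ζR ≫ vR' ≫ c true))
    rw [show (asIso (𝟙 U)).inv = 𝟙 U by simp] at this
    have h : 𝒳.p.IsHomLift (bμ true ≫ 𝟙 U ≫ 𝟙 U)
      ((ζA ≫ vA' ≫ c true) ≫ inv (ζR ≫ vR' ≫ c true) ≫ ζR ≫ vR' ≫ c false) := inferInstance
    simpa using h
  have hb : bμ false = bμ true := by
    rw [IsHomLift.fac 𝒳.p (bμ false) (ζA ≫ vA' ≫ c false),
      IsHomLift.fac 𝒳.p (bμ true) ((ζA ≫ vA' ≫ c true) ≫ inv (ζR ≫ vR' ≫ c true) ≫ ζR ≫ vR' ≫ c false), e]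
  simp only [bμ, cancel_epi, cancel_mono] at hb
  exact hb

end Transfer

/-- Thickenings composed with isomorphisms. -/
theorem fot_iso {A B A' B' : Over S} {t : A ⟶ B} (ht : FOT t) (a : A' ≅ A) (b : B ≅ B') :
    FOT (a.hom ≫ t ≫ b.hom) := by
  have : IsIso a.hom.left := inferInstanceAs (IsIso ((Over.forget S).map _))
  have : IsIso b.inv.left := inferInstanceAs (IsIso ((Over.forget S).map _))
  exact GrothLib.UnivThick.fot_of_isPullback (g := b.inv.left) (k := a.hom.left) (IsPullback.of_horiz_isIso ⟨by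
    rw [← Over.comp_left, ← Over.comp_left, Category.assoc, Category.assoc, b.hom_inv_id, Category.comp_id]⟩) ht

/-- Lines with pieces over every morphism to an affine scheme. -/
theorem exists_line_pieces (T₀ : Over S) [IsAffine T₀.left] :
    ∃ Λ : LineData T₀, ∀ (X : Over S) [IsAffine X.left] (φ : T₀ ⟶ X), Nonempty (PieceData Λ φ) := by
  let e : T₀ ≅ Over.mk (T₀.left.isoSpec.inv ≫ T₀.hom) := Over.isoMk T₀.left.isoSpec (by simp)
  obtain ⟨Λ, hΛ⟩ := exists_lineData _ (T₀.left.isoSpec.inv ≫ T₀.hom)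
  refine ⟨⟨Λ.L, Λ.G, Λ.g, Λ.pL ≫ e.inv, e.hom ≫ Λ.o₀, ?_, Λ.dominant, Λ.openImm⟩, fun X _ φ => ?_⟩
  · rw [Category.assoc, reassoc_of% Λ.o₀_pL, e.hom_inv_id]
  let eX : X ≅ Over.mk (X.left.isoSpec.inv ≫ X.hom) := Over.isoMk X.left.isoSpec (by simp)
  obtain ⟨ψ, hψ⟩ : ∃ ψ, Spec.map ψ = (e.inv ≫ φ ≫ eX.hom).left := ⟨Spec.preimage _, Spec.map_preimage _⟩
  obtain ⟨P⟩ := hΛ (X.left.isoSpec.inv ≫ X.hom) ψ (by rw [hψ]; exact Over.w (e.inv ≫ φ ≫ eX.hom))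
  have hh : ∀ w, Over.homMk (U := Over.mk _) (V := Over.mk _) (Spec.map ψ) w = e.inv ≫ φ ≫ eX.hom :=
    fun w => Over.OverMorphism.ext hψ
  refine ⟨⟨P.E, P.r ≫ eX.inv, eX.hom ≫ P.o, P.i, ?_, ?_, ?_, P.openImm, P.affine, fun hφ => P.fot ?_⟩⟩
  · rw [Category.assoc, reassoc_of% P.o_r, eX.hom_inv_id]
  · rw [reassoc_of% P.i_r, hh]
    simp
  · rw [Category.assoc, P.o₀_i]
    exact (congrArg (fun f => e.hom ≫ f ≫ P.o) (hh _)).trans (by simp)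
  · rw [hh]
    exact fot_iso hφ e.symm eX

/-- Infinitesimal lifting passes to corresponding objects over affine schemes. -/
theorem lifts_of_corr {φ : _root_.IsoNat.FIso 𝒳 𝒴} (hst : _root_.Stk.IsStack (AlgSp.J S) 𝒳)
    (hst' : _root_.Stk.IsStack (AlgSp.J S) 𝒴)
    (hd' : RepByAlgSpWith AlgSp.IsSeparatedMor (_root_.FibCat.diag (_root_.FibCat.toSelf 𝒴)))
    {U : Over S} [IsAffine U.left] {x : 𝒳.obj} {y : 𝒴.obj} (hc : Corr φ U x y) (hx : Lifts x) : Lifts y := by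
  intro T₀ T t ht hT η z₀ j u₀ hj
  have : IsClosedImmersion t.left := ht.1.1
  have : IsAffine T₀.left := IsClosedImmersion.isAffine_surjective_of_isAffine t.left |>.1
  obtain ⟨-, hyU, -⟩ := id hc
  obtain ⟨Λ, hΛ⟩ := exists_line_pieces T₀
  obtain ⟨P⟩ := hΛ T t
  let a₀ : T₀ ⟶ U := eqToHom (IsHomLift.domain_eq 𝒴.p t j).symm ≫ 𝒴.p.map u₀ ≫ eqToHom hyU
  obtain ⟨Q⟩ := hΛ U a₀
  exact lifts_piece hst hst' hd' P Q hc hx ht hj
    (IsHomLift.of_fac 𝒴.p _ _ (IsHomLift.domain_eq 𝒴.p t j) hyU rfl)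

/-- Uniqueness of the base of lifts passes to corresponding objects over affine schemes. -/
theorem uniqBase_of_corr {φ : _root_.IsoNat.FIso 𝒳 𝒴} (hst : _root_.Stk.IsStack (AlgSp.J S) 𝒳)
    (hst' : _root_.Stk.IsStack (AlgSp.J S) 𝒴)
    (hd : RepByAlgSpWith AlgSp.IsSeparatedMor (_root_.FibCat.diag (_root_.FibCat.toSelf 𝒳)))
    (hd' : RepByAlgSpWith AlgSp.IsSeparatedMor (_root_.FibCat.diag (_root_.FibCat.toSelf 𝒴)))
    {U : Over S} [IsAffine U.left] {x : 𝒳.obj} {y : 𝒴.obj} (hc : Corr φ U x y) (hx : UniqBase x) :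
    UniqBase y := by
  intro T₀ T t ht hT η z₀ j μ μ' hj he
  have : IsClosedImmersion t.left := ht.1.1
  have : IsAffine T₀.left := IsClosedImmersion.isAffine_surjective_of_isAffine t.left |>.1
  obtain ⟨-, hyU, -⟩ := id hc
  obtain ⟨Λ, hΛ⟩ := exists_line_pieces T₀
  obtain ⟨P⟩ := hΛ T t
  let a₀ : T₀ ⟶ U := eqToHom (IsHomLift.domain_eq 𝒴.p t j).symm ≫ 𝒴.p.map (j ≫ μ) ≫ eqToHom hyU
  obtain ⟨Q⟩ := hΛ U a₀
  exact uniqBase_piece hst hst' hd' hd P Q hc hx ht hT (fun b => match b with | false => μ | true => μ') hj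
    (IsHomLift.of_fac 𝒴.p _ _ (IsHomLift.domain_eq 𝒴.p t j) hyU rfl)
    (fun b => by cases b; exacts [rfl, he.symm])

end GrothLib.IsoNat
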