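import Groth.Agent.Lib.AlgSt.IsoNat.InModel
import Groth.Agent.Lib.AlgSt.Axes.Transfer
import Groth.Agent.Lib.AlgSt.IsoNat.Lifts
import Groth.Agent.Lib.AlgSp.LocP
import Groth.Agent.Lib.DiagGrp.KernelFP

/-!
# Local finite presentation read on isomorphism classes
-/

set_option backward.isDefEq.respectTransparency false
set_option backward.isDefEq.respectTransparency.types false

universe u

open CategoryTheory CategoryTheory.Limits AlgebraicGeometry Opposite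

namespace GrothLib.IsoNat

open _root_.AlgSt GrothLib.FibCat GrothLib.AlgSt GrothLib.AlgSp GrothLib.Axes

variable {S : Scheme.{u}} {𝒳 𝒴 : _root_.AlgSt.Cat S}

theorem exists_spHom {K F : AlgSp.Sp S}
    (f : ∀ T : Over S, ((AlgSp.yon S).obj T ⟶ K) → ((AlgSp.yon S).obj T ⟶ F))
    (hf : ∀ (T' T : Over S) (g : T' ⟶ T) (m : (AlgSp.yon S).obj T ⟶ K),
      (AlgSp.yon S).map g ≫ f T m = f T' ((AlgSp.yon S).map g ≫ m)) :
    ∃ k : K ⟶ F, ∀ (T : Over S) (m : (AlgSp.yon S).obj T ⟶ K), m ≫ k = f T m := by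
  let Y := fun T : Over S => (AlgSp.J S).uliftYonedaEquiv.{u + 1} (X := T) (F := K)
  let k : K ⟶ F := ObjectProperty.homMk
    { app := fun T => ↾fun x => (AlgSp.J S).uliftYonedaEquiv.{u + 1} (f T.unop ((AlgSp.J S).uliftYonedaEquiv.{u + 1}.symm x))
      naturality := fun T T' g => by
        ext x
        dsimp
        rw [← Quiver.Hom.op_unop g, GrothendieckTopology.uliftYonedaEquiv_naturality, hf]
        congr 2
        apply (AlgSp.J S).uliftYonedaEquiv.{u + 1}.injective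
        rw [Equiv.apply_symm_apply, ← GrothendieckTopology.uliftYonedaEquiv_naturality, Equiv.apply_symm_apply] }
  refine ⟨k, fun T m => (AlgSp.J S).uliftYonedaEquiv.{u + 1}.injective ?_⟩
  rw [GrothendieckTopology.uliftYonedaEquiv_comp]
  change (AlgSp.J S).uliftYonedaEquiv.{u + 1} (f T _) = _
  rw [Equiv.symm_apply_apply]

section Torsor

variable (hG : _root_.FibCat.IsFibGrpd 𝒴.p) {V W W' : Over S} {F K : AlgSp.Sp S}
  {φF : F ⟶ (AlgSp.yon S).obj V} {φK : K ⟶ (AlgSp.yon S).obj W'} {w₀ y₀ z₁ : 𝒴.obj}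
  (M : Model F φF w₀ y₀) (N : InModel K φK z₁) (vz : z₁ ⟶ w₀) (uz : z₁ ⟶ y₀)

include hG M N vz uz

theorem exists_torsor_map : ∃ k : K ⟶ F, ∀ {T : Over S} (m : (AlgSp.yon S).obj T ⟶ K) {ζ r α},
    N.R m ζ r α → M.R (m ≫ k) ζ (r ≫ vz) (α ≫ r ≫ uz) := by
  have h1 : ∀ (T : Over S) (m : (AlgSp.yon S).obj T ⟶ K), ∃ n, ∀ ζ r α, N.R m ζ r α → ∀ n' ζ' v u, M.R n' ζ' v u →
      ∀ κ : ζ' ⟶ ζ, 𝒴.p.IsHomLift (𝟙 T) κ → κ ≫ r ≫ vz = v → κ ≫ α ≫ r ≫ uz = u → n' = n := fun T m => by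
    obtain ⟨ζ₀, r₀, α₀, h₀⟩ := N.surj m
    obtain ⟨c, hc, -⟩ := N.base h₀
    obtain ⟨n, hn⟩ := M.tot ζ₀ (r₀ ≫ vz) (α₀ ≫ r₀ ≫ uz) (IsHomLift.domain_eq 𝒴.p c r₀)
    refine ⟨n, fun ζ r α h n' ζ' v u hn' κ hκ ev eu => ?_⟩
    obtain ⟨θ, hθ, hθr, hθα⟩ := N.exists_hom h h₀ (𝟙 T) (by rw [CategoryTheory.Functor.map_id, Category.id_comp])
    have hl : 𝒴.p.IsHomLift (𝟙 T) (κ ≫ θ) := IsHomLift.comp_lift_id_right' 𝒴.p (𝟙 T) κ T θ
    have := M.map_eq hn' hn (𝟙 T) (κ ≫ θ) hl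
      (by rw [Category.assoc, reassoc_of% hθr, ev]) (by rw [Category.assoc, ← reassoc_of% hθα, reassoc_of% hθr, eu])
    rwa [CategoryTheory.Functor.map_id, Category.id_comp, eq_comm] at this
  choose n hn using h1
  have h2 : ∀ (T : Over S) (m : (AlgSp.yon S).obj T ⟶ K) ζ r α, N.R m ζ r α →
      M.R (n T m) ζ (r ≫ vz) (α ≫ r ≫ uz) := fun T m ζ r α h => by
    obtain ⟨c, hc, -⟩ := N.base h
    obtain ⟨n', hn'⟩ := M.tot ζ (r ≫ vz) (α ≫ r ≫ uz) (IsHomLift.domain_eq 𝒴.p c r)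
    rwa [hn T m ζ r α h n' ζ _ _ hn' (𝟙 ζ) (IsHomLift.id (IsHomLift.domain_eq 𝒴.p c r)) (Category.id_comp _)
      (Category.id_comp _)] at hn'
  obtain ⟨k, hk⟩ := exists_spHom n fun T' T g m => by
    obtain ⟨ζ', r', α', h'⟩ := N.surj ((AlgSp.yon S).map g ≫ m)
    obtain ⟨ζ, r, α, h⟩ := N.surj m
    obtain ⟨κ, hκ, hκr, hκα⟩ := N.exists_hom h' h g rfl
    exact M.map_eq (h2 _ _ _ _ _ h') (h2 _ _ _ _ _ h) g κ hκ (by rw [reassoc_of% hκr])
      (by rw [← reassoc_of% hκα, reassoc_of% hκr])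
  exact ⟨k, fun {T} m ζ r α h => by rw [hk]; exact h2 T m ζ r α h⟩

variable {k : K ⟶ F}
  (hk : ∀ {T : Over S} (m : (AlgSp.yon S).obj T ⟶ K) {ζ r α}, N.R m ζ r α → M.R (m ≫ k) ζ (r ≫ vz) (α ≫ r ≫ uz))
  {h' : W' ⟶ V} (hvz : 𝒴.p.IsHomLift h' vz)

include hk hvz

theorem torsor_map_injective {T : Over S} (m m' : (AlgSp.yon S).obj T ⟶ K) (hφ : m ≫ φK = m' ≫ φK)
    (e : m ≫ k = m' ≫ k) : m = m' := by
  obtain ⟨ζ, r, α, h⟩ := N.surj m
  obtain ⟨ζ', r', α', h'⟩ := N.surj m'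
  obtain ⟨c, hc, hcφ⟩ := N.base h
  obtain ⟨c', hc', hcφ'⟩ := N.base h'
  obtain rfl : c = c' := (AlgSp.yon S).map_injective (hcφ.symm.trans (hφ.trans hcφ'))
  obtain ⟨θ, hθ, hθv, hθu⟩ := M.exists_hom (hk m h) (hk m' h') (𝟙 T)
    (by rw [CategoryTheory.Functor.map_id, Category.id_comp, e])
  have hr : θ ≫ r' = r := over_unique hG _ vz hvz (IsHomLift.comp_lift_id_left' 𝒴.p T θ c r') hc
    (by rw [Category.assoc, hθv])
  have hα : α ≫ θ = θ ≫ α' := IsFibGrpd.hom_ext' hG (r' ≫ uz)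
    (by rw [𝒴.p.map_comp, 𝒴.p.map_comp, N.vert h, N.vert h', Category.id_comp, Category.comp_id])
    (by rw [Category.assoc, Category.assoc, reassoc_of% hr, hθu])
  have := N.map_eq h h' (𝟙 T) θ hθ hr hα
  rwa [CategoryTheory.Functor.map_id, Category.id_comp, eq_comm] at this

end Torsor

theorem locP_lfp_model (hG' : _root_.FibCat.IsFibGrpd 𝒴.p) {φ : _root_.IsoNat.FIso 𝒳 𝒴}
    (hst : _root_.Stk.IsStack (AlgSp.J S) 𝒳) (hst' : _root_.Stk.IsStack (AlgSp.J S) 𝒴)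
    (hI : RepByAlgSpWith (AlgSp.LocP @LocallyOfFinitePresentation)
      (_root_.FibCat.inertiaToBase (_root_.FibCat.toSelf 𝒴)))
    {U V : Over S} (x : _root_.FibCat.overCat U ⥤ᵇ 𝒳)
    (hx : RepByAlgSpWith (AlgSp.LocP @LocallyOfFinitePresentation) x) {y₀ : 𝒴.obj}
    (hc : Corr φ U (x.obj (Yon.idObj U)) y₀) {F : AlgSp.Sp S} (hF : AlgSp.IsAlgSpace F)
    {φF : F ⟶ (AlgSp.yon S).obj V} {w₀ : 𝒴.obj} (hw₀ : 𝒴.p.obj w₀ = V) (M : Model F φF w₀ y₀) :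
    AlgSp.LocP @LocallyOfFinitePresentation φF := by
  have hG := hst.1
  obtain ⟨ψ, hψ⟩ := exists_fiso_symm hG hG' φ
  have hψ' : ∀ T, φ.toEquiv T = (ψ.toEquiv T).symm := fun T => by rw [hψ, Equiv.symm_symm]
  have hc' := hc.symm ψ hψ
  obtain ⟨hxU, hyU, -⟩ := id hc
  -- the other fibre product
  obtain ⟨ξ, hξ⟩ := Corr.exists_right ψ hw₀
  obtain ⟨-, hξV, -⟩ := id hξ
  obtain ⟨G, eX, heX⟩ := Yon.exists_functor hG ξ hξV
  have : 𝒳.p.IsHomLift (𝟙 V) eX.inv := IsHomLift.lift_id_inv _ _ _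
  obtain ⟨FX, eFX, heFX, hlfp⟩ := hx V G
  obtain ⟨MX⟩ := exists_model G x eFX hG heFX
  -- a chart and the corresponding point
  obtain ⟨W, a, ha, has⟩ := hF.atlas
  obtain ⟨h, hh⟩ := (AlgSp.yon S).map_surjective (a ≫ φF)
  obtain ⟨zW, vW, uW, hR⟩ := M.surj a
  obtain ⟨b, hb, hbφ⟩ := M.base hR
  obtain rfl : h = b := (AlgSp.yon S).map_injective (hh.trans hbφ)
  have hzW : 𝒴.p.obj zW = W := IsHomLift.domain_eq 𝒴.p h vW
  let bW : W ⟶ U := eqToHom hzW.symm ≫ 𝒴.p.map uW ≫ eqToHom hyU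
  have hbW : 𝒴.p.IsHomLift bW uW := IsHomLift.of_fac 𝒴.p _ _ hzW hyU rfl
  obtain ⟨ζW, hζW⟩ := Corr.exists_right ψ hzW
  obtain ⟨vW', hvW'⟩ := hζW.transfer hξ h vW hb
  obtain ⟨uW', huW'⟩ := hζW.transfer hc' bW uW hbW
  obtain ⟨s, hs⟩ := MX.tot ζW (vW' ≫ eX.inv) uW' (hζW.2.1)
  have hsφ : s ≫ spMapOfOver (BasedFunctor.comp eFX (_root_.FibCat.fpFst G x)) = (AlgSp.yon S).map h := by
    obtain ⟨b, hb, hbφ⟩ := MX.base hs
    rw [hbφ, eq_of_lifts 𝒳.p _ hb (IsHomLift.comp_lift_id_right' 𝒳.p h vW' V eX.inv)]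
  -- a chart of the other side and the corresponding point
  obtain ⟨W', a', ha', has'⟩ := FX.property.atlas
  obtain ⟨h', hh'⟩ := (AlgSp.yon S).map_surjective (a' ≫ spMapOfOver (BasedFunctor.comp eFX (_root_.FibCat.fpFst G x)))
  have hlfp' : LocallyOfFinitePresentation h'.left := hlfp a' (𝟙 _) h' ha' (_root_.AlgSp.repWith_id _ V)
    (by rw [Category.comp_id, hh'])
  obtain ⟨ζ', v', u', hR'⟩ := MX.surj a'
  obtain ⟨b, hb', hbφ'⟩ := MX.base hR'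
  obtain rfl : h' = b := (AlgSp.yon S).map_injective (hh'.trans hbφ')
  have hζ' : 𝒳.p.obj ζ' = W' := IsHomLift.domain_eq 𝒳.p h' v'
  let bW' : W' ⟶ U := eqToHom hζ'.symm ≫ 𝒳.p.map u' ≫ eqToHom hxU
  have hbW' : 𝒳.p.IsHomLift bW' u' := IsHomLift.of_fac 𝒳.p _ _ hζ' hxU rfl
  obtain ⟨z', hz'⟩ := Corr.exists_right φ hζ'
  obtain ⟨vz', hvz'⟩ := hz'.transfer (hξ.symm φ hψ') h' (v' ≫ eX.hom)
    (IsHomLift.comp_lift_id_right' 𝒳.p h' v' V eX.hom)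
  obtain ⟨uz', huz'⟩ := hz'.transfer hc bW' u' hbW'
  obtain ⟨Gz, eZ, heZ⟩ := Yon.exists_functor hG' z' hz'.2.1
  obtain ⟨K, eK, heK, hKlfp⟩ := hI W' Gz
  obtain ⟨N⟩ := exists_inModel Gz eK hG' heK
  let vz := eZ.hom ≫ vz'
  let uz := eZ.hom ≫ uz'
  have hvz : 𝒴.p.IsHomLift h' vz := IsHomLift.comp_lift_id_left' 𝒴.p W' eZ.hom h' vz'
  have huz : 𝒴.p.IsHomLift bW' uz := IsHomLift.comp_lift_id_left' 𝒴.p W' eZ.hom bW' uz'
  obtain ⟨k, hk⟩ := exists_torsor_map hG' M N vz uz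
  -- the intersection over `V ⨯ U`
  let q₁ := pullback.fst (prod.lift h bW) (prod.lift h' bW')
  let q₂ := pullback.snd (prod.lift h bW) (prod.lift h' bW')
  have hq : q₁ ≫ h = q₂ ≫ h' ∧ q₁ ≫ bW = q₂ ≫ bW' := by
    have e := pullback.condition (f := prod.lift h bW) (g := prod.lift h' bW')
    exact ⟨by simpa using congrArg (· ≫ Limits.prod.fst) e, by simpa using congrArg (· ≫ Limits.prod.snd) e⟩
  have hq₁ : LocallyOfFiniteType q₁.left := by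
    have hl : LocallyOfFiniteType (prod.lift h' bW').left := by
      have : LocallyOfFiniteType ((prod.lift h' bW').left ≫ (Limits.prod.fst : V ⨯ U ⟶ V).left) := by
        rw [← Over.comp_left, prod.lift_fst]; infer_instance
      exact locallyOfFiniteType_of_comp _ (Limits.prod.fst : V ⨯ U ⟶ V).left
    exact MorphismProperty.of_isPullback (P := @LocallyOfFiniteType)
      (isPullback_left (IsPullback.of_hasPullback (prod.lift h bW) (prod.lift h' bW')).flip) hl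
  obtain ⟨zQ, vQ, uQ, hRQ⟩ := M.surj ((AlgSp.yon S).map q₁ ≫ a)
  obtain ⟨κQ, hκQ, hκQv, hκQu⟩ := M.exists_hom hRQ hR q₁ rfl
  have hvQ : 𝒴.p.IsHomLift (q₂ ≫ h') vQ := by rw [← hq.1, ← hκQv]; infer_instance
  have huQ : 𝒴.p.IsHomLift (q₂ ≫ bW') uQ := by rw [← hq.2, ← hκQu]; infer_instance
  obtain ⟨rQ, hrQ, hrQv⟩ := exists_over hG' q₂ h' vz hvz vQ hvQ
  obtain ⟨αQ, hαQ, hαQu⟩ := exists_over hG' (𝟙 _) (q₂ ≫ bW') (rQ ≫ uz) inferInstance uQ
    (by rw [Category.id_comp]; exact huQ)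
  obtain ⟨jQ, hjQ⟩ := N.tot zQ rQ αQ (IsHomLift.domain_eq 𝒴.p q₂ rQ) (map_vert hG' hαQ)
  have hjQφ : jQ ≫ spMapOfOver (BasedFunctor.comp eK
      (_root_.FibCat.fpFst Gz (_root_.FibCat.inertiaToBase (_root_.FibCat.toSelf 𝒴)))) = (AlgSp.yon S).map q₂ := by
    obtain ⟨c, hc, hcφ⟩ := N.base hjQ
    rw [hcφ, eq_of_lifts 𝒴.p _ hc hrQ]
  have hjQk : jQ ≫ k = (AlgSp.yon S).map q₁ ≫ a := by
    have := M.map_eq hRQ (hk jQ hjQ) (𝟙 _) (𝟙 zQ) (IsHomLift.id (IsHomLift.domain_eq 𝒴.p q₂ rQ))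
      (by rw [Category.id_comp, hrQv]) (by rw [Category.id_comp, hαQu])
    rwa [CategoryTheory.Functor.map_id, Category.id_comp] at this
  have hsq : IsPullback ((AlgSp.yon S).map q₁) jQ a k := by
    refine isPullback_of_yon hjQk.symm fun T l κ e => ?_
    obtain ⟨l, rfl⟩ := (AlgSp.yon S).map_surjective l
    obtain ⟨ζ, r, α, hm⟩ := N.surj κ
    obtain ⟨c, hc, hcφ⟩ := N.base hm
    obtain ⟨θ, hθ, hθv, hθu⟩ := M.exists_hom (hk κ hm) hR l e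
    have e1 : l ≫ h = c ≫ h' := base_eq (r ≫ vz) (by rw [← hθv]; infer_instance) inferInstance
    have : 𝒴.p.IsHomLift (𝟙 T) α :=
      vert_lift hG' (IsHomLift.domain_eq 𝒴.p c r) (N.vert hm)
    have e2 : l ≫ bW = c ≫ bW' := base_eq (α ≫ r ≫ uz) (by rw [← hθu]; infer_instance)
      (IsHomLift.comp_lift_id_left' 𝒴.p T α _ _)
    let d := pullback.lift l c (show l ≫ prod.lift h bW = c ≫ prod.lift h' bW' by
      apply prod.hom_ext <;> simp [e1, e2])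
    have hd₁ : d ≫ q₁ = l := pullback.lift_fst _ _ _
    have hd₂ : d ≫ q₂ = c := pullback.lift_snd _ _ _
    refine ⟨(AlgSp.yon S).map d, ⟨by rw [← Functor.map_comp, hd₁], ?_⟩, fun d' hd' => ?_⟩
    · refine torsor_map_injective hG' M N vz uz hk hvz _ _ ?_ ?_
      · rw [Category.assoc, hjQφ, ← Functor.map_comp, hd₂, hcφ]
      · rw [Category.assoc, hjQk, ← Category.assoc, ← Functor.map_comp, hd₁, e]
    · obtain ⟨d', rfl⟩ := (AlgSp.yon S).map_surjective d'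
      refine congrArg _ (pullback.hom_ext ?_ ?_)
      · exact ((AlgSp.yon S).map_injective (by rw [Functor.map_comp]; exact hd'.1)).trans hd₁.symm
      · refine ((AlgSp.yon S).map_injective ?_).trans hd₂.symm
        rw [Functor.map_comp, ← hjQφ, ← Category.assoc, hd'.2, hcφ]
  have hq₂ : LocallyOfFinitePresentation q₂.left := hKlfp jQ (𝟙 _) q₂
    (GrothLib.AlgSp.repWith_of_isPullback hsq ha) (_root_.AlgSp.repWith_id _ W') (by rw [Category.comp_id, hjQφ])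
  -- descent along the chart of the other side
  obtain ⟨P, p₁, p₂, sqP⟩ := exists_isPullback_yon FX.property.diag s a'
  have hp₁ : Etale p₁.left := ha'.2 _ _ _ sqP.flip
  have hp₁s : Surjective p₁.left := has'.2 _ _ _ sqP.flip
  have hp₁h : p₁ ≫ h = p₂ ≫ h' := (AlgSp.yon S).map_injective (by
    rw [Functor.map_comp, Functor.map_comp, ← hsφ, hh', reassoc_of% sqP.w])
  obtain ⟨ζP, vP, uP, hRP⟩ := MX.surj ((AlgSp.yon S).map p₁ ≫ s)
  obtain ⟨κ₁, hκ₁, -, hκ₁u⟩ := MX.exists_hom hRP hs p₁ rfl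
  obtain ⟨κ₂, hκ₂, -, hκ₂u⟩ := MX.exists_hom hRP hR' p₂ sqP.w.symm
  have hp₁b : p₁ ≫ bW = p₂ ≫ bW' := base_eq uP (by rw [← hκ₁u]; infer_instance)
    (by rw [← hκ₂u]; infer_instance)
  let g := pullback.lift p₁ p₂ (show p₁ ≫ prod.lift h bW = p₂ ≫ prod.lift h' bW' by
    apply prod.hom_ext <;> simp [hp₁h, hp₁b])
  have hg₁ : g.left ≫ q₁.left = p₁.left := congr($(pullback.lift_fst p₁ p₂ _).left)
  have hg₂ : g.left ≫ q₂.left = p₂.left := congr($(pullback.lift_snd p₁ p₂ _).left)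
  have hg : LocallyOfFinitePresentation g.left :=
    GrothLib.DiagGrp.lfp_of_comp_of_lft g.left q₁.left (by rw [hg₁]; infer_instance) hq₁
  have hph : LocallyOfFinitePresentation (p₁.left ≫ h.left) := by
    rw [← Over.comp_left, hp₁h, Over.comp_left, ← hg₂]; infer_instance
  exact EtLocal.lfp.locP_of_chart ha has (_root_.AlgSp.repWith_id _ V) (by rw [Category.comp_id, hh])
    (EtLocal.lfp.descend p₁.left h.left hp₁ hp₁s hph)

end GrothLib.IsoNat
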