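import Groth.Agent.Lib.AlgSt.IsoNat.AutExt
import Groth.Agent.Lib.AlgSt.InertiaDiag
import Groth.Agent.Lib.AlgSt.DescRep
import Groth.Agent.Lib.AlgSt.DiagSpaces
import Groth.Agent.Lib.AlgSt.SmoothLocally
import Groth.Agent.Lib.AlgSp.ValDVR
import Groth.Agent.Lib.AlgSp.ProperSub
import Groth.Prelude.Def_AlgSt3

/-!
# Properness of the inertia read on isomorphism classes
-/

set_option backward.isDefEq.respectTransparency false
set_option backward.isDefEq.respectTransparency.types false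

universe u

open CategoryTheory CategoryTheory.Limits AlgebraicGeometry Opposite

namespace GrothLib.IsoNat

open _root_.AlgSt GrothLib.FibCat GrothLib.AlgSt GrothLib.Axes

variable {S : Scheme.{u}} {𝒳 𝒴 : _root_.AlgSt.Cat S}

/-- The generic point of the spectrum of a discrete valuation ring is open. -/
theorem isOpenImmersion_fracSpec (A : Type u) [CommRing A] [IsDomain A] [IsDiscreteValuationRing A] (K : Type u)
    [Field K] [Algebra A K] [IsFractionRing A K] :
    IsOpenImmersion (Spec.map (CommRingCat.ofHom (algebraMap A K))) := by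
  obtain ⟨ϖ, hϖ⟩ := IsDiscreteValuationRing.exists_irreducible A
  have : IsLocalization.Away ϖ K :=
    { map_units := by
        rintro ⟨_, l, rfl⟩
        exact IsUnit.mk0 _ ((map_ne_zero_iff _ (IsFractionRing.injective A K)).2 (pow_ne_zero l hϖ.ne_zero))
      surj := fun z => by
        obtain ⟨a, b, hb, rfl⟩ := IsFractionRing.div_surjective (A := A) z
        obtain ⟨l, e, he⟩ := IsDiscreteValuationRing.eq_unit_mul_pow_irreducible (nonZeroDivisors.ne_zero hb) hϖ
        refine ⟨(a * ↑e⁻¹, ⟨_, l, rfl⟩), ?_⟩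
        have hb' : algebraMap A K b ≠ 0 := IsFractionRing.to_map_ne_zero_of_mem_nonZeroDivisors hb
        have hpow : algebraMap A K (ϖ ^ l) = algebraMap A K b * algebraMap A K (↑e⁻¹ : A) := by
          rw [← map_mul, he, mul_comm (↑e : A), mul_assoc, Units.mul_inv, mul_one]
        show _ * algebraMap A K (ϖ ^ l) = _
        rw [hpow, ← mul_assoc, div_mul_cancel₀ _ hb', map_mul]
      exists_of_eq := fun {x y} h => ⟨1, by rw [IsFractionRing.injective A K h]⟩ }
  exact IsOpenImmersion.of_isLocalization ϖ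

/-- Properness of the inertia over a locally noetherian chart from extension of automorphisms. -/
theorem hasRep_proper_of_autExt (hG : _root_.FibCat.IsFibGrpd 𝒴.p)
    (hI : RepByAlgSpWith ((AlgSp.IsSeparatedMor ⊓ AlgSp.IsQuasiCompactMor) ⊓ AlgSp.LocP @LocallyOfFiniteType)
      (_root_.FibCat.inertiaToBase (_root_.FibCat.toSelf 𝒴)))
    (hext : ∀ (A : Type u) [CommRing A] [IsDomain A] [ValuationRing A] [IsDiscreteValuationRing A] (K : Type u)
      [Field K] [Algebra A K] [IsFractionRing A K] (str : Spec (.of A) ⟶ S),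
      AutExt 𝒴 (Over.homMk (Spec.map (CommRingCat.ofHom (algebraMap A K))) rfl :
        Over.mk (Spec.map (CommRingCat.ofHom (algebraMap A K)) ≫ str) ⟶ Over.mk str))
    {W : Over S} (hW : IsLocallyNoetherian W.left) (w : _root_.FibCat.overCat W ⥤ᵇ 𝒴) :
    HasRep AlgSp.IsProperMor (_root_.FibCat.fpFst w (_root_.FibCat.inertiaToBase (_root_.FibCat.toSelf 𝒴))) := by
  obtain ⟨F, e, he, ⟨hs, hqc⟩, hl⟩ := hI W w
  obtain ⟨M⟩ := exists_inModel w e hG he
  refine ⟨F, e, he, hs, ⟨hl, hqc⟩, GrothLib.AlgSp.isUnivClosedMor_of_dvr F.property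
    (AlgSp.IsAlgSpace.yon_obj W) ⟨W, 𝟙 _, AlgSp.repWith_id _ W, AlgSp.repWith_id _ W, hW⟩ hl hqc fun v hA => ?_⟩
  obtain ⟨s, hs'⟩ := (AlgSp.yon S).map_surjective v.bot
  obtain ⟨ζ, r, α, hR⟩ := M.surj v.top
  obtain ⟨c, hc, hcφ⟩ := M.base hR
  obtain rfl : c = v.j ≫ s := (AlgSp.yon S).map_injective (by rw [← hcφ, Functor.map_comp, hs']; exact v.comm)
  obtain ⟨η, ν, hν⟩ := IsFibGrpd.exists_lift_of_eq hG (w.w_obj (Yon.idObj W)) s
  obtain ⟨ρ, hρ, hρν⟩ := Axes.exists_over hG v.j s ν hν r hc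
  have := hA
  obtain ⟨α', hα', he'⟩ := hext v.A v.K v.str ρ hρ α (M.vert hR)
  obtain ⟨l, hlR⟩ := M.tot η ν α' (IsHomLift.domain_eq 𝒴.p s ν) hα'
  have hlt : (AlgSp.yon S).map v.j ≫ l = v.top := M.map_eq hR hlR v.j ρ hρ hρν he'
  obtain ⟨c', hc', hc'φ⟩ := M.base hlR
  obtain rfl : c' = s := IsoNat.eq_of_lifts 𝒴.p _ hc' hν
  let d : v.DomExt :=
    { A' := v.A, K' := v.K, φ := RingHom.id _, ψ := RingHom.id _, comm := rfl
      isLocalHom := ⟨fun a ha => ha⟩ }
  let i : d.ptA' ⟶ v.ptA := Over.homMk (Spec.map (CommRingCat.ofHom d.φ)) rfl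
  refine ⟨d, (AlgSp.yon S).map i ≫ l, ?_, ?_⟩
  · rw [← hlt, ← Functor.map_comp_assoc, ← Functor.map_comp_assoc]
    congr 2
    apply Over.OverMorphism.ext
    change Spec.map _ ≫ Spec.map _ = Spec.map _ ≫ Spec.map _
    rw [← Spec.map_comp, ← Spec.map_comp]
    rfl
  · rw [Category.assoc, hc'φ, hs']

/-- Properness of the inertia over a chart gives it over everything over the chart. -/
theorem repByAlgSpWith_proper_fpFst {W : Over S} {f : 𝒳 ⥤ᵇ 𝒴} (w : _root_.FibCat.overCat W ⥤ᵇ 𝒴)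
    (h : HasRep AlgSp.IsProperMor (_root_.FibCat.fpFst w f)) :
    RepByAlgSpWith AlgSp.IsProperMor (_root_.FibCat.fpFst w f) := by
  obtain ⟨F, e, he, hp⟩ := h
  refine (repByAlgSpWith_iff_of_square (f := _root_.FibCat.fpFst w f)
    (f' := ofSpMap (spMapOfOver (BasedFunctor.comp e (_root_.FibCat.fpFst w f)))) e (toOverCat W) he
    (isEquivOver_toOverCat W) (isoOfSpMapOfOver (BasedFunctor.comp e (_root_.FibCat.fpFst w f))).symm).2 ?_
  refine repByAlgSpWith_ofSpMap F.property (AlgSp.IsAlgSpace.yon_obj W) _ fun U c => ?_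
  exact GrothLib.AlgSp.isProperMor_of_isPullback F.property (AlgSp.IsAlgSpace.yon_obj W) (AlgSp.IsAlgSpace.yon_obj U)
    (IsPullback.of_hasPullback c _).flip hp

theorem properInertia_of_fIso (h𝒳 : IsAlgStack Scheme.fppfPrecoverage 𝒳)
    (h𝒴 : IsAlgStack Scheme.fppfPrecoverage 𝒴)
    (h𝒴d : RepByAlgSpWith (AlgSp.IsSeparatedMor ⊓ AlgSp.IsQuasiCompactMor)
      (_root_.FibCat.diag (_root_.FibCat.toSelf 𝒴)))
    (h𝒴i : RepByAlgSpWith (AlgSp.LocP @LocallyOfFinitePresentation)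
      (_root_.FibCat.inertiaToBase (_root_.FibCat.toSelf 𝒴)))
    (hN : SmoothLocally (fun X => IsLocallyNoetherian X) 𝒴)
    (φ : _root_.IsoNat.FIso 𝒳 𝒴)
    (hpr : RepByAlgSpWith AlgSp.IsProperMor (_root_.FibCat.inertiaToBase (_root_.FibCat.toSelf 𝒳))) :
    RepByAlgSpWith AlgSp.IsProperMor (_root_.FibCat.inertiaToBase (_root_.FibCat.toSelf 𝒴)) := by
  have hsq := (repByAlgSpWith_inertiaToBase_iff (P := AlgSp.IsSeparatedMor ⊓ AlgSp.IsQuasiCompactMor)
    (_root_.FibCat.toSelf 𝒴)).2 (repByAlgSpWith_fpFst _ h𝒴d)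
  have hlft : RepByAlgSpWith (AlgSp.LocP @LocallyOfFiniteType)
      (_root_.FibCat.inertiaToBase (_root_.FibCat.toSelf 𝒴)) :=
    repByAlgSpWith_mono (fun X Y a _ _ ha U V p q h pe qe w => by
      have : LocallyOfFinitePresentation h.left := ha p q h pe qe w
      change LocallyOfFiniteType h.left
      infer_instance) h𝒴i
  have hI : RepByAlgSpWith ((AlgSp.IsSeparatedMor ⊓ AlgSp.IsQuasiCompactMor) ⊓ AlgSp.LocP @LocallyOfFiniteType)
      (_root_.FibCat.inertiaToBase (_root_.FibCat.toSelf 𝒴)) := by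
    intro U y
    obtain ⟨F, e, he, h1⟩ := hsq U y
    exact ⟨F, e, he, h1, HasRep.mem (hlft U y) isoInvariant_locP F e he⟩
  obtain ⟨W, w, hw, hws⟩ := h𝒴.atlas
  refine repByAlgSpWith_of_fpFst (isoInvariant_of_stableSp fun X₁ Y₁ X₂ Y₂ hX hY _ hY' a b a' b' sq h =>
      GrothLib.AlgSp.isProperMor_of_isPullback hX hY hY' sq h)
    descendsToSchemes_isProperMor (repByAlgSp1_of_repByAlgSpWith hI) (z := w)
    (liftsFppf_of_repByAlgSpWith w ?_ ?_ hws) ?_
  · exact repByAlgSpWith_mono (fun X Y a _ _ ha U V p q h pe qe w => by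
      have : Smooth h.left := ha p q h pe qe w
      change Flat h.left
      infer_instance) hw
  · exact repByAlgSpWith_mono (fun X Y a _ _ ha U V p q h pe qe w => by
      have : Smooth h.left := ha p q h pe qe w
      change LocallyOfFinitePresentation h.left
      infer_instance) hw
  · refine repByAlgSpWith_proper_fpFst w (hasRep_proper_of_autExt h𝒴.isStack.1 hI ?_ (hN W w hw) w)
    intro A _ _ _ _ K _ _ _ str
    exact autExt_of_fIso h𝒳.isStack h𝒴.isStack φ _ (isOpenImmersion_fracSpec A K)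
      (autExt_of_proper h𝒳.isStack.1 hpr str)

end GrothLib.IsoNat
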