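import Groth.Agent.Lib.AlgSt.IsoNat.Main
import Groth.Agent.Lib.AlgSp.Points
import Groth.Agent.Lib.AlgSt.IsoClClean

/-!
# Surjective morphisms from schemes read on isomorphism classes
-/

set_option backward.isDefEq.respectTransparency false
set_option backward.isDefEq.respectTransparency.types false

universe u

open CategoryTheory CategoryTheory.Limits AlgebraicGeometry Opposite

namespace GrothLib.IsoNat

open _root_.AlgSt GrothLib.FibCat GrothLib.AlgSt GrothLib.AlgSp GrothLib.Axes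

variable {S : Scheme.{u}} {𝒳 𝒴 : _root_.AlgSt.Cat S}

theorem repByAlgSpWith_surjective_of_corr (hst : _root_.Stk.IsStack (AlgSp.J S) 𝒳)
    (hst' : _root_.Stk.IsStack (AlgSp.J S) 𝒴) {φ : _root_.IsoNat.FIso 𝒳 𝒴} {U : Over S}
    {x : _root_.FibCat.overCat U ⥤ᵇ 𝒳} {y : _root_.FibCat.overCat U ⥤ᵇ 𝒴}
    (hxy : φ.toEquiv U (_root_.IsoNat.objCls x) = _root_.IsoNat.objCls y) (h1 : RepByAlgSp1 y)
    (hx : RepByAlgSpWith AlgSp.IsSurjectiveMor x) : RepByAlgSpWith AlgSp.IsSurjectiveMor y := by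
  intro V w
  have hG := hst.1
  have hG' := hst'.1
  obtain ⟨F, e, he, -⟩ := (repByAlgSpWith_top_iff.2 h1) V w
  obtain ⟨M⟩ := exists_model w y e hG' he
  obtain ⟨ψ, hψ⟩ := exists_fiso_symm hG hG' φ
  have hψ' : ∀ T, φ.toEquiv T = (ψ.toEquiv T).symm := fun T => by rw [hψ, Equiv.symm_symm]
  obtain ⟨ξ, hξ⟩ := Corr.exists_right ψ (w.w_obj (Yon.idObj V))
  obtain ⟨-, hξV, -⟩ := id hξ
  obtain ⟨G, eX, heX⟩ := Yon.exists_functor hG ξ hξV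
  have : 𝒳.p.IsHomLift (𝟙 V) eX.hom := heX
  obtain ⟨FX, eFX, heFX, hs⟩ := hx V G
  obtain ⟨MX⟩ := exists_model G x eFX hG heFX
  refine ⟨F, e, he, fun z => ?_⟩
  obtain ⟨p, rfl⟩ := hs z
  obtain ⟨K, _, str, m, rfl⟩ := GrothLib.AlgSp.exists_ofPt p
  obtain ⟨ζ, v, u, hR⟩ := MX.surj m
  obtain ⟨b, hb, hbφ⟩ := MX.base hR
  have hζ : 𝒳.p.obj ζ = Over.mk str := IsHomLift.domain_eq 𝒳.p b v
  have hxU : 𝒳.p.obj (x.obj (Yon.idObj U)) = U := x.w_obj _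
  obtain ⟨z', hz'⟩ := Corr.exists_right φ hζ
  obtain ⟨vz, hvz⟩ := hz'.transfer (hξ.symm φ hψ') b (v ≫ eX.hom)
    (IsHomLift.comp_lift_id_right' 𝒳.p b v V eX.hom)
  obtain ⟨uz, -⟩ := hz'.transfer (corr_of_objCls hxy) (eqToHom hζ.symm ≫ 𝒳.p.map u ≫ eqToHom hxU) u
    (IsHomLift.of_fac 𝒳.p _ _ hζ hxU rfl)
  obtain ⟨n, hn⟩ := M.tot z' vz uz hz'.2.1
  obtain ⟨c, hc, hcφ⟩ := M.base hn
  refine ⟨AlgSp.Points.ofPt n (IsLocalRing.closedPoint K), ?_⟩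
  rw [AlgSp.Points.map_ofPt, AlgSp.Points.map_ofPt, hcφ, hbφ, eq_of_lifts 𝒴.p _ hc hvz]

/-- A corresponding chart. -/
theorem exists_chart_of_class (hst' : _root_.Stk.IsStack (AlgSp.J S) 𝒴) (φ : _root_.IsoNat.FIso 𝒳 𝒴) {U : Over S}
    (x : _root_.FibCat.overCat U ⥤ᵇ 𝒳) :
    ∃ y : _root_.FibCat.overCat U ⥤ᵇ 𝒴, φ.toEquiv U (_root_.IsoNat.objCls x) = _root_.IsoNat.objCls y := by
  obtain ⟨η, hη⟩ : ∃ η, _root_.IsoNat.cls η = φ.toEquiv U (_root_.IsoNat.objCls x) := Quotient.exists_rep _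
  obtain ⟨y, ey, hey⟩ := Yon.exists_functor hst'.1 η.1 η.2
  exact ⟨y, hη.symm.trans (Quotient.sound (nonempty_fiber_iso hst'.1 ey.inv (IsHomLift.lift_id_inv _ _ _)))⟩

end GrothLib.IsoNat
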