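import Groth.Agent.Lib.AlgSt.OpenGlue
import Groth.Agent.Lib.Stk.Glue
import Mathlib.AlgebraicGeometry.Limits
import Mathlib.AlgebraicGeometry.PullbackCarrier

/-!
# Gluing along two open pieces
-/

set_option backward.isDefEq.respectTransparency false
set_option backward.isDefEq.respectTransparency.types false

universe u

open CategoryTheory CategoryTheory.Limits AlgebraicGeometry Opposite

namespace GrothLib.IsoNat

open _root_.AlgSt GrothLib.FibCat GrothLib.AlgSt

variable {S : Scheme.{u}}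

/-- Two open pieces glued along a common open. -/
structure Glue (V : Over S) (U : Bool → Over S) (j : ∀ b, V ⟶ U b) where
  /-- The glued scheme. -/
  W : Over S
  /-- The two pieces. -/
  c : ∀ b, U b ⟶ W
  openImm : ∀ b, IsOpenImmersion (c b).left
  cover : ∀ x : ↥W.left, ∃ b y, (c b).left y = x
  w : j false ≫ c false = j true ≫ c true
  overlap : ∀ {Z : Over S} (l : Z ⟶ U false) (l' : Z ⟶ U true), l ≫ c false = l' ≫ c true →
    ∃ v, v ≫ j false = l ∧ v ≫ j true = l'
  /-- Morphisms out of the pieces glue. -/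
  desc : ∀ {Y : Over S} (f : ∀ b, U b ⟶ Y), j false ≫ f false = j true ≫ f true → ∃ h, ∀ b, c b ≫ h = f b

theorem exists_glue (V : Over S) (U : Bool → Over S) (j : ∀ b, V ⟶ U b) (hj : ∀ b, IsOpenImmersion (j b).left) :
    Nonempty (Glue V U j) := by
  have := hj false
  have := hj true
  let P := pushout (j false).left (j true).left
  let sP : P ⟶ S := pushout.desc (U false).hom (U true).hom (by rw [Over.w, Over.w])
  let c : ∀ b, U b ⟶ Over.mk sP := fun b => match b with
    | false => Over.homMk (pushout.inl (j false).left (j true).left) (pushout.inl_desc _ _ _)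
    | true => Over.homMk (pushout.inr (j false).left (j true).left) (pushout.inr_desc _ _ _)
  have ho : ∀ b, IsOpenImmersion (c b).left := fun b => by
    cases b
    · change IsOpenImmersion (pushout.inl (j false).left (j true).left)
      infer_instance
    · change IsOpenImmersion (pushout.inr (j false).left (j true).left)
      infer_instance
  have hcov : ∀ x : ↥P, ∃ b y, (c b).left y = x := fun x => by
    obtain ⟨_ | _ | _, y, hy⟩ := (Scheme.IsLocallyDirected.openCover (span (j false).left (j true).left)).exists_eq x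
    · refine ⟨false, (j false).left y, ?_⟩
      rw [← hy, ← Scheme.Hom.comp_apply]
      exact congrArg (fun (t : V.left ⟶ P) => t y) (colimit.w (span (j false).left (j true).left) WalkingSpan.Hom.fst)
    · exact ⟨false, y, hy⟩
    · exact ⟨true, y, hy⟩
  refine ⟨⟨Over.mk sP, c, ho, hcov, Over.OverMorphism.ext pushout.condition, fun {Z} l l' e => ?_, fun {Y} f hf => ?_⟩⟩
  · have e' : l.left ≫ pushout.inl (j false).left (j true).left = l'.left ≫ pushout.inr _ _ :=
      congrArg CommaMorphism.left e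
    have hr : Set.range l.left ⊆ Set.range (j false).left := by
      rintro _ ⟨z, rfl⟩
      have e0 : (pushout.inl (j false).left (j true).left) (l.left z) = (pushout.inr (j false).left (j true).left) (l'.left z) :=
        congr($e' z)
      obtain ⟨k, fi, fj, x, hx, -⟩ := (Scheme.IsLocallyDirected.ι_eq_ι_iff (span (j false).left (j true).left)).mp e0
      obtain (_ | _ | _) := k
      · rw [show fi = WalkingSpan.Hom.fst from Subsingleton.elim _ _, span_map_fst] at hx
        exact ⟨x, hx⟩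
      · cases fj
      · cases fi
    let v₀ : Z.left ⟶ V.left := IsOpenImmersion.lift (j false).left l.left hr
    let v : Z ⟶ V := Over.homMk v₀ (by
      rw [← Over.w (j false), ← Category.assoc, IsOpenImmersion.lift_fac]; exact Over.w l)
    refine ⟨v, Over.OverMorphism.ext (IsOpenImmersion.lift_fac _ _ _), Over.OverMorphism.ext ?_⟩
    have : IsOpenImmersion (pushout.inr (j false).left (j true).left) := ho true
    rw [← cancel_mono (pushout.inr (j false).left (j true).left), Over.comp_left, Category.assoc,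
      ← pushout.condition, ← e']
    exact IsOpenImmersion.lift_fac_assoc _ _ _ _
  · refine ⟨Over.homMk (pushout.desc (f false).left (f true).left (congrArg CommaMorphism.left hf)) ?_, fun b => ?_⟩
    · change pushout.desc _ _ _ ≫ Y.hom = sP
      apply pushout.hom_ext
      · rw [pushout.inl_desc_assoc, pushout.inl_desc]; exact Over.w (f false)
      · rw [pushout.inr_desc_assoc, pushout.inr_desc]; exact Over.w (f true)
    · cases b
      · exact Over.OverMorphism.ext (pushout.inl_desc _ _ _)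
      · exact Over.OverMorphism.ext (pushout.inr_desc _ _ _)

variable {V : Over S} {U : Bool → Over S} {j : ∀ b, V ⟶ U b} (D : Glue V U j)

theorem Glue.mem_J : Sieve.ofArrows (fun b : ULift.{u} Bool => U b.down) (fun b => D.c b.down) ∈ AlgSp.J S D.W :=
  ofArrows_two_mem _ _ (fun b => D.openImm b.down) fun x => by
    obtain ⟨b, y, hy⟩ := D.cover x
    exact ⟨⟨b⟩, y, hy⟩

theorem Glue.mono_left (b : Bool) {Z : Over S} {l l' : Z ⟶ U b} (e : l ≫ D.c b = l' ≫ D.c b) : l = l' := by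
  have := D.openImm b
  exact Over.OverMorphism.ext ((cancel_mono (D.c b).left).1 congr($(e).left))

variable {𝒳 : _root_.AlgSt.Cat S}

/-- Morphisms out of an object on the glued scheme glue. -/
theorem Glue.exists_hom (h : _root_.Stk.IsStack (AlgSp.J S) 𝒳) {a b : 𝒳.obj} (χ : 𝒳.p.obj a ⟶ 𝒳.p.obj b)
    {z : Bool → 𝒳.obj} {v : ∀ i, z i ⟶ a} (hv : ∀ i, 𝒳.p.IsHomLift (D.c i) (v i))
    {zV : 𝒳.obj} {k : ∀ i, zV ⟶ z i} (hk : ∀ i, 𝒳.p.IsHomLift (j i) (k i)) (hkv : k false ≫ v false = k true ≫ v true)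
    (n : ∀ i, z i ⟶ b) (hn : ∀ i, 𝒳.p.map (n i) = 𝒳.p.map (v i) ≫ χ) (hkn : k false ≫ n false = k true ≫ n true) :
    ∃ α : a ⟶ b, 𝒳.p.map α = χ ∧ ∀ i, v i ≫ α = n i := by
  have hG := h.1
  have haW : 𝒳.p.obj a = D.W := have := hv false; IsHomLift.codomain_eq 𝒳.p (D.c false) (v false)
  let R : Sieve (𝒳.p.obj a) :=
    (Sieve.ofArrows (fun b : ULift.{u} Bool => U b.down) (fun b => D.c b.down)).pullback (eqToHom haW)
  have hR : R ∈ AlgSp.J S (𝒳.p.obj a) := GrothendieckTopology.pullback_stable _ _ D.mem_J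
  have hbase : ∀ {a' : 𝒳.obj} (i : Bool) (μ : a' ⟶ z i), ∃ g : 𝒳.p.obj a' ⟶ U i,
      𝒳.p.IsHomLift g μ ∧ 𝒳.p.map (μ ≫ v i) ≫ eqToHom haW = g ≫ D.c i := fun {a'} i μ => by
    have := hv i
    have hd := IsHomLift.domain_eq 𝒳.p (D.c i) (v i)
    refine ⟨𝒳.p.map μ ≫ eqToHom hd, IsHomLift.of_fac 𝒳.p _ _ rfl hd (by simp), ?_⟩
    rw [𝒳.p.map_comp, IsHomLift.fac' 𝒳.p (D.c i) (v i)]
    simp
  have hindep : ∀ {a' : 𝒳.obj} (i i' : Bool) (μ : a' ⟶ z i) (μ' : a' ⟶ z i'), μ ≫ v i = μ' ≫ v i' →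
      μ ≫ n i = μ' ≫ n i' := by
    intro a'
    have hsame : ∀ (i : Bool) (μ μ' : a' ⟶ z i), μ ≫ v i = μ' ≫ v i → μ = μ' := fun i μ μ' e => by
      refine IsFibGrpd.hom_ext' hG (v i) ?_ e
      obtain ⟨g, hg, eg⟩ := hbase i μ
      obtain ⟨g', hg', eg'⟩ := hbase i μ'
      obtain rfl : g = g' := D.mono_left i (by rw [← eg, e, eg'])
      rw [IsHomLift.fac' 𝒳.p g μ, IsHomLift.fac' 𝒳.p g μ']
    have hFT : ∀ (μ : a' ⟶ z false) (μ' : a' ⟶ z true), μ ≫ v false = μ' ≫ v true →
        μ ≫ n false = μ' ≫ n true := fun μ μ' e => by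
      obtain ⟨g, hg, eg⟩ := hbase false μ
      obtain ⟨g', hg', eg'⟩ := hbase true μ'
      obtain ⟨l, hl, hl'⟩ := D.overlap g g' (by rw [← eg, e, eg'])
      have := hk false
      have := hk true
      have : 𝒳.p.IsHomLift (l ≫ j false) μ := by rw [hl]; exact hg
      obtain ⟨ν, ⟨hν, hνμ⟩, -⟩ := IsFibGrpd.existsUnique_lift hG (j false) l (k false) μ
      have hνμ' : ν ≫ k true = μ' := hsame true _ _ (by rw [Category.assoc, ← hkv, reassoc_of% hνμ, e])
      rw [← hνμ, ← hνμ', Category.assoc, Category.assoc, hkn]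
    intro i i' μ μ' e
    cases i <;> cases i'
    · rw [hsame false μ μ' e]
    · exact hFT μ μ' e
    · exact (hFT μ' μ e.symm).symm
    · rw [hsame true μ μ' e]
  have hex : ∀ {a' : 𝒳.obj} (q : a' ⟶ a), R (𝒳.p.map q) → ∃ i, ∃ m : a' ⟶ z i, m ≫ v i = q := by
    rintro a' q ⟨W, g, _, ⟨⟨i⟩⟩, hg⟩
    have := hv i
    have : 𝒳.p.IsHomLift (g ≫ D.c i) q := IsHomLift.of_fac' 𝒳.p _ _ rfl haW (by
      change 𝒳.p.map q = eqToHom rfl ≫ (g ≫ D.c i) ≫ eqToHom haW.symm
      rw [show g ≫ D.c i = 𝒳.p.map q ≫ eqToHom haW from hg]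
      simp)
    obtain ⟨m, hm, -⟩ := IsFibGrpd.existsUnique_lift hG (D.c i) g (v i) q
    exact ⟨i, m, hm.2⟩
  choose idx m hm using @hex
  obtain ⟨α, hα, hα'⟩ := GrothLib.Stk.Descent.exists_hom hG (resSieve_ff h hR).1 (χ := χ)
    { n := fun q hq => m q hq ≫ n _
      map_n := fun q hq => by rw [𝒳.p.map_comp, hn, ← 𝒳.p.map_comp_assoc, hm]
      comp := fun l q hq h' => by
        rw [← Category.assoc]
        exact hindep _ _ _ _ (by rw [Category.assoc, hm, hm]) }
  refine ⟨α, hα, fun i => ?_⟩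
  have hi : R (𝒳.p.map (v i)) := by
    have := hv i
    refine ⟨U i, eqToHom (IsHomLift.domain_eq 𝒳.p (D.c i) (v i)), D.c i,
      Presieve.ofArrows.mk (f := fun b : ULift.{u} Bool => D.c b.down) ⟨i⟩, ?_⟩
    rw [IsHomLift.fac' 𝒳.p (D.c i) (v i)]
    simp
  rw [hα' (v i) hi]
  exact (hindep _ i _ (𝟙 _) ((hm (v i) hi).trans (Category.id_comp _).symm)).trans (Category.id_comp _)

/-- An object over an arrow of the cover, with its morphisms to the two pieces. -/
structure Glue.Piece (z : Bool → 𝒳.obj) {zV : 𝒳.obj} (k : ∀ i, zV ⟶ z i) {Z : Over S} (f : Z ⟶ D.W) where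
  o : 𝒳.obj
  m : ∀ (i : Bool) (l : Z ⟶ U i), l ≫ D.c i = f → (o ⟶ z i)
  lift : ∀ i l e, 𝒳.p.IsHomLift l (m i l e)
  coh : ∀ (v : Z ⟶ V) (e₀ : (v ≫ j false) ≫ D.c false = f) (e₁ : (v ≫ j true) ≫ D.c true = f),
    ∃ n : o ⟶ zV, 𝒳.p.IsHomLift v n ∧ n ≫ k false = m false _ e₀ ∧ n ≫ k true = m true _ e₁

variable (hst : _root_.Stk.IsStack (AlgSp.J S) 𝒳) {z : Bool → 𝒳.obj} (hz : ∀ i, 𝒳.p.obj (z i) = U i)
  {zV : 𝒳.obj} {k : ∀ i, zV ⟶ z i} (hk : ∀ i, 𝒳.p.IsHomLift (j i) (k i))

include hst hz hk in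
theorem Glue.exists_piece (hj : ∀ i, IsOpenImmersion (j i).left) {Z : Over S} (f : Z ⟶ D.W) (hf : ∃ i, ∃ l : Z ⟶ U i, l ≫ D.c i = f) :
    Nonempty (D.Piece z k f) := by
  have hG := hst.1
  have := hk false
  have := hk true
  by_cases h0 : ∃ l : Z ⟶ U false, l ≫ D.c false = f
  · obtain ⟨l₀, hl₀⟩ := h0
    obtain ⟨o, φ, hφ⟩ := IsFibGrpd.exists_lift_of_eq hG (hz false) l₀
    have hn : ∀ (l : Z ⟶ U true), l ≫ D.c true = f →
        ∃ ν : o ⟶ zV, ∃ v : Z ⟶ V, 𝒳.p.IsHomLift v ν ∧ v ≫ j true = l ∧ ν ≫ k false = φ := fun l hl => by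
      obtain ⟨v, hv, hv'⟩ := D.overlap l₀ l (hl₀.trans hl.symm)
      have : 𝒳.p.IsHomLift (v ≫ j false) φ := by rw [hv]; exact hφ
      obtain ⟨ν, hν, -⟩ := IsFibGrpd.existsUnique_lift hG (j false) v (k false) φ
      exact ⟨ν, v, hν.1, hv', hν.2⟩
    choose ν vl hvl hvlj hν using hn
    refine ⟨⟨o, fun i => match i with
      | false => fun _ _ => φ
      | true => fun l e => ν l e ≫ k true, fun i l e => ?_, fun v e₀ e₁ => ⟨ν _ e₁, ?_, hν _ e₁, rfl⟩⟩⟩
    · cases i
      · obtain rfl : l = l₀ := D.mono_left false (e.trans hl₀.symm)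
        exact hφ
      · have := hvl l e
        have h : 𝒳.p.IsHomLift (vl l e ≫ j true) (ν l e ≫ k true) := inferInstance
        rwa [hvlj] at h
    · have h1 := hvl _ e₁
      have hvv : vl _ e₁ = v := by
        have hd : vl _ e₁ ≫ j false = v ≫ j false := by
          refine D.mono_left false ?_
          rw [Category.assoc, D.w, ← Category.assoc, hvlj _ e₁, e₁, e₀]
        have e3 : 𝒳.p.IsHomLift (vl _ e₁ ≫ j false) φ := by rw [← hν _ e₁]; infer_instance
        have := hj false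
        exact Over.OverMorphism.ext ((cancel_mono (j false).left).1 congr($(hd).left))
      rwa [hvv] at h1
  · obtain ⟨_ | _, l₁, hl₁⟩ := hf
    · exact absurd ⟨l₁, hl₁⟩ h0
    obtain ⟨o, φ, hφ⟩ := IsFibGrpd.exists_lift_of_eq hG (hz true) l₁
    refine ⟨⟨o, fun i => match i with
      | false => fun l e => absurd ⟨l, e⟩ h0
      | true => fun _ _ => φ, fun i l e => ?_, fun v e₀ _ => absurd ⟨_, e₀⟩ h0⟩⟩
    cases i
    · exact absurd ⟨l, e⟩ h0
    · obtain rfl : l = l₁ := D.mono_left true (e.trans hl₁.symm)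
      exact hφ

include hst hz hk in
/-- Objects glue. -/
theorem Glue.exists_obj (hj : ∀ i, IsOpenImmersion (j i).left) : ∃ (a : 𝒳.obj) (v : ∀ i, z i ⟶ a), 𝒳.p.obj a = D.W ∧
    (∀ i, 𝒳.p.IsHomLift (D.c i) (v i)) ∧ k false ≫ v false = k true ≫ v true := by
  have hG := hst.1
  let R : Sieve D.W := Sieve.ofArrows (fun b : ULift.{u} Bool => U b.down) (fun b => D.c b.down)
  have hmem : ∀ q : (_root_.Stk.sieveCat R).obj, ∃ i, ∃ l : q.obj.left ⟶ U i, l ≫ D.c i = q.obj.hom := by
    rintro ⟨q, W', g, _, ⟨⟨i⟩⟩, hg⟩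
    exact ⟨i, g, hg⟩
  choose idx lq hlq using hmem
  have hP : ∀ q : (_root_.Stk.sieveCat R).obj, Nonempty (D.Piece z k q.obj.hom) := fun q =>
    D.exists_piece hst hz hk hj _ ⟨_, lq q, hlq q⟩
  let P := fun q => (hP q).some
  have hmap : ∀ {q' q : (_root_.Stk.sieveCat R).obj} (f : q' ⟶ q), ∃ μ : (P q').o ⟶ (P q).o,
      𝒳.p.IsHomLift f.hom.left μ ∧ ∀ i (l : q.obj.left ⟶ U i) (e : l ≫ D.c i = q.obj.hom),
        μ ≫ (P q).m i l e = (P q').m i (f.hom.left ≫ l) (by rw [Category.assoc, e]; exact Over.w f.hom) := by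
    intro q' q f
    have := (P q).lift (idx q) (lq q) (hlq q)
    have := (P q').lift (idx q) (f.hom.left ≫ lq q) (by rw [Category.assoc, hlq q]; exact Over.w f.hom)
    obtain ⟨μ, ⟨hμ, hμe⟩, -⟩ := IsFibGrpd.existsUnique_lift hG (lq q) f.hom.left ((P q).m (idx q) (lq q) (hlq q))
      ((P q').m (idx q) (f.hom.left ≫ lq q)
        ((Category.assoc _ _ _).trans ((congrArg (f.hom.left ≫ ·) (hlq q)).trans (Over.w f.hom))))
    refine ⟨μ, hμ, fun i l e => ?_⟩
    have key : ∀ (l₀ : q.obj.left ⟶ U false) (e₀ : l₀ ≫ D.c false = q.obj.hom)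
        (l₁ : q.obj.left ⟶ U true) (e₁ : l₁ ≫ D.c true = q.obj.hom),
        (μ ≫ (P q).m false l₀ e₀ = (P q').m false (f.hom.left ≫ l₀) (by rw [Category.assoc, e₀]; exact Over.w f.hom)) ↔
        (μ ≫ (P q).m true l₁ e₁ = (P q').m true (f.hom.left ≫ l₁) (by rw [Category.assoc, e₁]; exact Over.w f.hom)) := by
      intro l₀ e₀ l₁ e₁
      obtain ⟨v, rfl, rfl⟩ := D.overlap l₀ l₁ (e₀.trans e₁.symm)
      obtain ⟨n, hn, hn₀, hn₁⟩ := (P q).coh v e₀ e₁
      obtain ⟨n', hn', hn₀', hn₁'⟩ := (P q').coh (f.hom.left ≫ v)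
        (by rw [Category.assoc f.hom.left, Category.assoc f.hom.left, e₀]; exact Over.w f.hom)
        (by rw [Category.assoc f.hom.left, Category.assoc f.hom.left, e₁]; exact Over.w f.hom)
      have := hk false
      have := hk true
      have : 𝒳.p.IsHomLift (f.hom.left ≫ v) (μ ≫ n) := inferInstance
      simp only [Category.assoc] at hn₀' hn₁'
      rw [← hn₀, ← hn₁, ← hn₀', ← hn₁', ← Category.assoc, ← Category.assoc]
      constructor <;> intro he
      · rw [IsFibGrpd.hom_ext hG (f.hom.left ≫ v) (j false) (k false) he]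
      · rw [IsFibGrpd.hom_ext hG (f.hom.left ≫ v) (j true) (k true) he]
    revert hμe
    generalize lq q = l₀, hlq q = e₀
    revert l₀
    generalize idx q = i₀
    intro l₀ e₀ hμe
    cases i₀ <;> cases i
    · obtain rfl : l = l₀ := D.mono_left false (e.trans e₀.symm)
      exact hμe
    · exact (key l₀ e₀ l e).1 hμe
    · exact (key l e l₀ e₀).2 hμe
    · obtain rfl : l = l₀ := D.mono_left true (e.trans e₀.symm)
      exact hμe
  choose μ hμ hμm using @hmap
  have huniq : ∀ {q' q : (_root_.Stk.sieveCat R).obj} (f : q' ⟶ q) (ν : (P q').o ⟶ (P q).o),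
      𝒳.p.IsHomLift f.hom.left ν →
      ν ≫ (P q).m (idx q) (lq q) (hlq q) =
        (P q').m (idx q) (f.hom.left ≫ lq q) (by rw [Category.assoc, hlq q]; exact Over.w f.hom) →
      ν = μ f := fun {q' q} f ν hν e => by
    have := hν
    have := hμ f
    have := (P q).lift (idx q) (lq q) (hlq q)
    exact IsFibGrpd.hom_ext hG f.hom.left (lq q) ((P q).m (idx q) (lq q) (hlq q)) (e.trans (hμm f _ _ _).symm)
  have hcongr : ∀ {q : (_root_.Stk.sieveCat R).obj} {i : Bool} {l l' : q.obj.left ⟶ U i} (h : l = l')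
      (e : l ≫ D.c i = q.obj.hom) (e' : l' ≫ D.c i = q.obj.hom), (P q).m i l e = (P q).m i l' e' := by
    intros; subst_vars; rfl
  let c : _root_.Stk.sieveCat R ⥤ᵇ 𝒳 :=
    { toFunctor :=
        { obj := fun q => (P q).o
          map := fun f => μ f
          map_id := fun q => (huniq (𝟙 q) (𝟙 _)
            (have := (P q).lift (idx q) (lq q) (hlq q); IsHomLift.id (IsHomLift.domain_eq 𝒳.p (lq q) ((P q).m (idx q) (lq q) (hlq q))))
            ((Category.id_comp _).trans (hcongr (Category.id_comp _).symm _ _))).symm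
          map_comp := fun {q'' q' q} f g => (huniq (f ≫ g) (μ f ≫ μ g) (by
              have := hμ f; have := hμ g; change 𝒳.p.IsHomLift (f.hom.left ≫ g.hom.left) _; infer_instance)
            (by rw [Category.assoc, hμm g, hμm f]; exact hcongr (Category.assoc _ _ _).symm _ _)).symm }
      w := CategoryTheory.Functor.ext (fun q => by
          have h := (P q).lift (idx q) (lq q) (hlq q)
          exact IsHomLift.domain_eq 𝒳.p (lq q) ((P q).m (idx q) (lq q) (hlq q))) fun q' q f => by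
        have := hμ f
        exact IsHomLift.fac' 𝒳.p f.hom.left (μ f) }
  have hess : (_root_.Stk.resSieve R 𝒳).EssSurj := by
    have := hst.2 R D.mem_J
    unfold _root_.Stk.IsStackFor at this
    infer_instance
  obtain ⟨a, ha, m, hm, hmf⟩ := GrothLib.Stk.Descent.exists_cocone hG hess c
  let q : Bool → (_root_.Stk.sieveCat R).obj := fun i =>
    GrothLib.Stk.arrowObj (D.c i) (Sieve.ofArrows_mk _ (fun b : ULift.{u} Bool => D.c b.down) ⟨i⟩)
  have hv : ∀ i, ∃ θ : z i ⟶ (P (q i)).o, 𝒳.p.IsHomLift (𝟙 (U i)) θ ∧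
      θ ≫ (P (q i)).m i (𝟙 _) (Category.id_comp _) = 𝟙 (z i) := fun i => by
    have : 𝒳.p.IsHomLift (𝟙 (U i)) ((P (q i)).m i (𝟙 _) (Category.id_comp _)) := (P (q i)).lift _ _ _
    have : 𝒳.p.IsHomLift (𝟙 (U i) ≫ 𝟙 (U i)) (𝟙 (z i)) := by rw [Category.id_comp]; exact IsHomLift.id (hz i)
    obtain ⟨θ, h, -⟩ := IsFibGrpd.existsUnique_lift hG (𝟙 (U i)) (𝟙 (U i))
      ((P (q i)).m i (𝟙 _) (Category.id_comp _)) (𝟙 (z i))
    exact ⟨θ, h⟩
  choose θ hθ hθm using hv
  refine ⟨a, fun i => θ i ≫ m (q i), ha, fun i => ?_, ?_⟩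
  · have : 𝒳.p.IsHomLift (D.c i) (m (q i)) := hm (q i)
    exact IsHomLift.comp_lift_id_left' 𝒳.p (U i) (θ i) _ _
  · let qV : (_root_.Stk.sieveCat R).obj :=
      GrothLib.Stk.arrowObj (j false ≫ D.c false)
        ⟨U false, j false, D.c false, Presieve.ofArrows.mk (f := fun b : ULift.{u} Bool => D.c b.down) ⟨false⟩, rfl⟩
    let g : ∀ i, qV ⟶ q i := fun i => ObjectProperty.homMk (Over.homMk (j i) (by
      cases i
      · rfl
      · exact D.w.symm))
    obtain ⟨n, hn, hn₀, hn₁⟩ := (P qV).coh (𝟙 V) (congrArg (· ≫ D.c false) (Category.id_comp _))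
      ((congrArg (· ≫ D.c true) (Category.id_comp _)).trans D.w.symm)
    have hni : IsIso n := by
      have : 𝒳.p.IsHomLift (𝟙 V) n := hn
      exact IsFibGrpd.isIso_of_isHomLift_id hG (R := V) n
    have hnv : ∀ i, n ≫ k i ≫ θ i = μ (g i) := fun i => by
      have := hn
      have := hk i
      have := hθ i
      have := hμ (g i)
      have : 𝒳.p.IsHomLift (j i) (k i ≫ θ i) := IsHomLift.comp_lift_id_right' _ _ _ (U i) _
      have h5 : 𝒳.p.IsHomLift (j i) (n ≫ k i ≫ θ i) := IsHomLift.comp_lift_id_left' 𝒳.p V n _ _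
      have : 𝒳.p.IsHomLift (j i) (μ (g i)) := hμ (g i)
      have : 𝒳.p.IsHomLift (𝟙 (U i)) ((P (q i)).m i (𝟙 _) (Category.id_comp _)) := (P (q i)).lift _ _ _
      apply IsFibGrpd.hom_ext hG (j i) (𝟙 (U i)) ((P (q i)).m i (𝟙 _) (Category.id_comp _))
      rw [Category.assoc, Category.assoc, hθm, Category.comp_id, hμm (g i)]
      refine Eq.trans ?_ (hcongr (q := qV) (i := i) (l := (𝟙 V) ≫ j i) (by simp [g]; rfl)
        (by cases i; exacts [congrArg (· ≫ D.c false) (Category.id_comp _),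
          (congrArg (· ≫ D.c true) (Category.id_comp _)).trans D.w.symm]) _)
      cases i
      · exact hn₀
      · exact hn₁
    apply (cancel_epi n).1
    have e : ∀ i, n ≫ k i ≫ θ i ≫ m (q i) = μ (g i) ≫ m (q i) := fun i => by
      rw [← hnv i]; simp only [Category.assoc]
    exact (e false).trans (((hmf (g false)).trans (hmf (g true)).symm).trans (e true).symm)

end GrothLib.IsoNat
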