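import Groth.Agent.Lib.AlgSt.IsoNat.InModel
import Groth.Agent.Lib.AlgSt.IsoNat.TwoGlue
import Groth.Agent.Lib.AlgSt.Axes.Transfer
import Groth.Agent.S10289
import Groth.Agent.S10285

/-!
# Extension of automorphisms read on isomorphism classes

Automorphisms extend along an open immersion `V ⟶ T` iff every object on two copies of `T` glued along `V` which is
isomorphic on both copies to a given object comes from `T`; a condition on isomorphism classes only.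
-/

set_option backward.isDefEq.respectTransparency false
set_option backward.isDefEq.respectTransparency.types false

universe u

open CategoryTheory CategoryTheory.Limits AlgebraicGeometry Opposite

namespace GrothLib.IsoNat

open _root_.AlgSt GrothLib.FibCat GrothLib.AlgSt GrothLib.Axes

variable {S : Scheme.{u}}

/-- Vertical endomorphisms of restrictions along `i` extend. -/
def AutExt (𝒳 : _root_.AlgSt.Cat S) {V T : Over S} (i : V ⟶ T) : Prop :=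
  ∀ ⦃x x' : 𝒳.obj⦄ (ρ : x' ⟶ x), 𝒳.p.IsHomLift i ρ → ∀ a : x' ⟶ x', 𝒳.p.map a = 𝟙 _ →
    ∃ a' : x ⟶ x, 𝒳.p.map a' = 𝟙 _ ∧ a ≫ ρ = ρ ≫ a'

theorem map_eq_id_of_lift {𝒳 : _root_.AlgSt.Cat S} {T : Over S} {x : 𝒳.obj} (a : x ⟶ x)
    (ha : 𝒳.p.IsHomLift (𝟙 T) a) : 𝒳.p.map a = 𝟙 _ := by
  rw [IsHomLift.fac' 𝒳.p (𝟙 T) a]
  simp

variable {𝒳 𝒴 : _root_.AlgSt.Cat S}

/-- Extension of vertical endomorphisms only depends on isomorphism classes. -/
theorem autExt_of_fIso (hst : _root_.Stk.IsStack (AlgSp.J S) 𝒳) (hst' : _root_.Stk.IsStack (AlgSp.J S) 𝒴)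
    (φ : _root_.IsoNat.FIso 𝒳 𝒴) {V T : Over S} (i : V ⟶ T) (hi : IsOpenImmersion i.left)
    (h : AutExt 𝒳 i) : AutExt 𝒴 i := by
  intro y y' ρ hρ a ha
  have hG := hst.1
  have hG' := hst'.1
  have hy : 𝒴.p.obj y = T := IsHomLift.codomain_eq 𝒴.p i ρ
  have hy' : 𝒴.p.obj y' = V := IsHomLift.domain_eq 𝒴.p i ρ
  obtain ⟨ψ, hψ⟩ := exists_fiso_symm hG hG' φ
  have hψ' : ∀ T, φ.toEquiv T = (ψ.toEquiv T).symm := fun T => by rw [hψ, Equiv.symm_symm]
  obtain ⟨D⟩ := exists_glue V (fun _ => T) (fun _ => i) (fun _ => hi)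
  let k : Bool → (y' ⟶ y) := fun b => Bool.casesOn b ρ (a ≫ ρ)
  have hk : ∀ b, 𝒴.p.IsHomLift i (k b) := fun b => by
    cases b
    · exact hρ
    · have := vert_lift hG' hy' ha
      exact IsHomLift.comp_lift_id_left' 𝒴.p V a i ρ
  obtain ⟨z, v, hzW, hv, hkv⟩ := D.exists_obj (z := fun _ => y) hst' (fun _ => hy) hk (fun _ => hi)
  obtain ⟨hd, hdc⟩ := D.desc (Y := T) (fun _ => 𝟙 T) rfl
  -- corresponding objects
  obtain ⟨xy, hxy⟩ := Corr.exists_right ψ hy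
  obtain ⟨xy', hxy'⟩ := Corr.exists_right ψ hy'
  obtain ⟨xz, hxz⟩ := Corr.exists_right ψ hzW
  obtain ⟨ρ', hρ'⟩ := hxy'.transfer hxy i ρ hρ
  obtain ⟨u₀, hu₀⟩ := hxy.transfer hxz (D.c false) (v false) (hv false)
  obtain ⟨u₁, hu₁⟩ := hxy.transfer hxz (D.c true) (v true) (hv true)
  have : 𝒳.p.IsHomLift (i ≫ D.c false) (ρ' ≫ u₀) := inferInstance
  have h1 : 𝒳.p.IsHomLift (i ≫ D.c false) (ρ' ≫ u₁) := by
    have h2 : 𝒳.p.IsHomLift (i ≫ D.c true) (ρ' ≫ u₁) := inferInstance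
    rwa [← D.w] at h2
  obtain ⟨b, hb, hbe⟩ := Axes.exists_over hG (𝟙 V) (i ≫ D.c false) (ρ' ≫ u₀) ‹_› (ρ' ≫ u₁)
    (by rw [Category.id_comp]; exact h1)
  obtain ⟨b', hb', hbb⟩ := h ρ' hρ' b (map_eq_id_of_lift b hb)
  obtain ⟨hxzW, -, -⟩ := hxz.symm φ hψ'
  obtain ⟨hxyT, -, -⟩ := hxy.symm φ hψ'
  have := vert_lift hG hxyT hb'
  let w : Bool → (xy ⟶ xz) := fun b => Bool.casesOn b (b' ≫ u₀) u₁
  have hw : ∀ c, 𝒳.p.IsHomLift (D.c c) (w c) := fun c => by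
    cases c
    · exact IsHomLift.comp_lift_id_left' 𝒳.p T b' _ u₀
    · exact hu₁
  obtain ⟨η', hη', -⟩ := D.exists_hom hst (a := xz) (b := xy)
    (eqToHom hxzW ≫ hd ≫ eqToHom hxyT.symm) (z := fun _ => xy) (v := w) hw
    (zV := xy') (k := fun _ => ρ') (fun _ => hρ') (by
      change ρ' ≫ b' ≫ u₀ = ρ' ≫ u₁
      rw [← Category.assoc, ← hbb, Category.assoc, hbe])
    (fun _ => 𝟙 xy) (fun c => by
      have := hw c
      rw [IsHomLift.fac' 𝒳.p (D.c c) (w c)]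
      simp [reassoc_of% (hdc c)]) rfl
  have hη'l : 𝒳.p.IsHomLift hd η' := IsHomLift.of_fac' 𝒳.p _ _ hxzW hxyT hη'
  obtain ⟨η, hη⟩ := (hxz.symm φ hψ').transfer (hxy.symm φ hψ') hd η' hη'l
  have hvη : ∀ c, 𝒴.p.IsHomLift (𝟙 T) (v c ≫ η) := fun c => by
    have := hv c
    rw [← hdc c]
    infer_instance
  have := hvη false
  have := hvη true
  have := IsFibGrpd.isIso_of_isHomLift_id hG' (R := T) (v true ≫ η)
  have : 𝒴.p.IsHomLift (𝟙 T) (inv (v true ≫ η)) := IsHomLift.lift_id_inv_isIso _ _ _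
  refine ⟨(v false ≫ η) ≫ inv (v true ≫ η),
    map_eq_id_of_lift (T := T) _ (IsHomLift.comp_lift_id_left' 𝒴.p T _ _ _), ?_⟩
  rw [← Category.assoc, IsIso.eq_comp_inv, ← Category.assoc ρ, show ρ ≫ v false = (a ≫ ρ) ≫ v true from hkv,
    Category.assoc (a ≫ ρ)]

/-- Proper inertia gives extension of automorphisms over valuation rings. -/
theorem autExt_of_proper (hG : _root_.FibCat.IsFibGrpd 𝒳.p)
    (hpr : RepByAlgSpWith AlgSp.IsProperMor (_root_.FibCat.inertiaToBase (_root_.FibCat.toSelf 𝒳)))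
    {A : Type u} [CommRing A] [IsDomain A] [ValuationRing A] {K : Type u} [Field K] [Algebra A K]
    [IsFractionRing A K] (str : Spec (.of A) ⟶ S) :
    AutExt 𝒳 (Over.homMk (Spec.map (CommRingCat.ofHom (algebraMap A K))) rfl :
      Over.mk (Spec.map (CommRingCat.ofHom (algebraMap A K)) ≫ str) ⟶ Over.mk str) := by
  intro x x' ρ hρ a ha
  let i : Over.mk (Spec.map (CommRingCat.ofHom (algebraMap A K)) ≫ str) ⟶ Over.mk str :=
    Over.homMk (Spec.map (CommRingCat.ofHom (algebraMap A K))) rfl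
  have hx : 𝒳.p.obj x = Over.mk str := IsHomLift.codomain_eq 𝒳.p i ρ
  have hx' := IsHomLift.domain_eq 𝒳.p i ρ
  obtain ⟨G, eX, heX⟩ := Yon.exists_functor hG x hx
  obtain ⟨F, e, he, hp⟩ := hpr (Over.mk str) G
  obtain ⟨M⟩ := exists_inModel G e hG he
  have : 𝒳.p.IsHomLift (𝟙 (Over.mk str)) eX.inv := IsHomLift.lift_id_inv _ _ _
  have hρe : 𝒳.p.IsHomLift i (ρ ≫ eX.inv) := IsHomLift.comp_lift_id_right' 𝒳.p _ _ (Over.mk str) _
  obtain ⟨m, hm⟩ := M.tot x' (ρ ≫ eX.inv) a hx' ha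
  obtain ⟨c, hc, hcφ⟩ := M.base hm
  obtain rfl : c = i := IsoNat.eq_of_lifts 𝒳.p _ hc hρe
  let f : F ⟶ ⟨(AlgSp.yon S).obj (Over.mk str), AlgSp.IsAlgSpace.yon_obj _⟩ := ObjectProperty.homMk
    (spMapOfOver (BasedFunctor.comp e (_root_.FibCat.fpFst G (_root_.FibCat.inertiaToBase (_root_.FibCat.toSelf 𝒳)))))
  have hvc : AlgSp.ExistVC f.hom :=
    Groth.Agent.S10289.result f (GrothLib.AlgSp.isQuasiSeparatedMor_of_isSeparatedMor hp.1) hp.2.2
  let sq : AlgSp.ValSq f.hom :=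
    { A := A, K := K, str := str, top := m, bot := 𝟙 _
      comm := by rw [Category.comp_id]; exact hcφ }
  obtain ⟨l, hl, hlφ⟩ := (Groth.Agent.S10285.result f hp.1).1 hvc sq
  obtain ⟨ζ, r, α, hR⟩ := M.surj l
  obtain ⟨c, hc', hc'φ⟩ := M.base hR
  obtain rfl : c = 𝟙 (Over.mk str) :=
    (AlgSp.yon S).map_injective (hc'φ.symm.trans (hlφ.trans (CategoryTheory.Functor.map_id _ _).symm))
  have := IsFibGrpd.isIso_of_isHomLift_id hG (R := Over.mk str) r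
  have hα := M.vert hR
  obtain ⟨κ, hκ, hκr, hκa⟩ := M.exists_hom hm hR i hl
  have hζ : 𝒳.p.obj ζ = Over.mk str := IsHomLift.domain_eq 𝒳.p (𝟙 (Over.mk str)) r
  have := vert_lift hG hζ hα
  have : 𝒳.p.IsHomLift (𝟙 (Over.mk str)) (inv r) := IsHomLift.lift_id_inv_isIso _ _ _
  refine ⟨eX.inv ≫ inv r ≫ α ≫ r ≫ eX.hom, ?_, ?_⟩
  · have := hc'
    have := heX
    refine map_eq_id_of_lift (T := Over.mk str) _ ?_
    have h1 : 𝒳.p.IsHomLift (𝟙 (Over.mk str)) (r ≫ eX.hom) := IsHomLift.comp_lift_id_left' 𝒳.p (Over.mk str) r _ eX.hom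
    have h2 : 𝒳.p.IsHomLift (𝟙 (Over.mk str)) (α ≫ r ≫ eX.hom) := IsHomLift.comp_lift_id_left' 𝒳.p (Over.mk str) α _ _
    have h3 : 𝒳.p.IsHomLift (𝟙 (Over.mk str)) (inv r ≫ α ≫ r ≫ eX.hom) :=
      IsHomLift.comp_lift_id_left' 𝒳.p (Over.mk str) (inv r) _ _
    exact IsHomLift.comp_lift_id_left' 𝒳.p (Over.mk str) eX.inv _ _
  · rw [← Category.assoc ρ, ← hκr, Category.assoc, IsIso.hom_inv_id_assoc, ← Category.assoc κ, ← hκa,
      Category.assoc, ← Category.assoc κ, hκr]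
    simp

end GrothLib.IsoNat
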