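import Groth.Agent.Lib.AlgSt.IsoNat.Neutral

/-!
# Vertical endomorphisms of trivial torsors are points of the group
-/

set_option backward.isDefEq.respectTransparency false
set_option backward.isDefEq.respectTransparency.types false

universe u

open CategoryTheory CategoryTheory.Limits AlgebraicGeometry MonoidalCategory CartesianMonoidalCategory MonObj Opposite

namespace GrothLib.IsoNat

open _root_.AlgSt GrothLib.FibCat GrothLib.Stk

variable {S : Scheme.{u}} {G : Over S} [GrpObj G] {V W : Over S}

/-- The point of the group of a vertical endomorphism of a trivial torsor. -/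
noncomputable def bgVertPt (s : Neutral.Vert (bgBase G) V) : V ⟶ G :=
  QuotSt.point (K := Scheme.fppfPrecoverage) (aX := trivAction G) (a := bgPt V)
    (s.1 : (_root_.AlgSt.quotMap Scheme.fppfPrecoverage G (trivAction G)).obj (bgPt V) ⟶ _) ≫ fst G V

/-- The vertical endomorphism of a trivial torsor given by a point of the group. -/
noncomputable def bgVertOfPt (g : V ⟶ G) : Neutral.Vert (bgBase G) V :=
  ⟨QuotSt.homOfTrans (K := Scheme.fppfPrecoverage) (aX := trivAction G) (a := bgPt V) (b := bgPt V) g (𝟙 V)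
      (toUnit_unique _ _), by
    have h := IsHomLift.map (_root_.AlgSt.BG Scheme.fppfPrecoverage G).p
      (QuotSt.homOfTrans (K := Scheme.fppfPrecoverage) (aX := trivAction G) (a := bgPt V) (b := bgPt V) g (𝟙 V)
        (toUnit_unique _ _))
    have e : (QuotSt.homOfTrans (K := Scheme.fppfPrecoverage) (aX := trivAction G) (a := bgPt V) (b := bgPt V) g (𝟙 V)
        (toUnit_unique _ _)).base = 𝟙 V := lift_snd _ _
    have h2 : (_root_.AlgSt.BG Scheme.fppfPrecoverage G).p.map
        (QuotSt.homOfTrans (K := Scheme.fppfPrecoverage) (aX := trivAction G) (a := bgPt V) (b := bgPt V) g (𝟙 V)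
          (toUnit_unique _ _)) = 𝟙 V := e
    exact IsHomLift.of_fac _ _ _ rfl rfl (by rw [h2]; exact ((Category.id_comp _).trans (Category.comp_id _)).symm)⟩

theorem bgVert_base (s : Neutral.Vert (bgBase G) V) :
    (s.1 : (_root_.AlgSt.quotMap Scheme.fppfPrecoverage G (trivAction G)).obj (bgPt V) ⟶ _).base = 𝟙 V :=
  haveI := s.2
  (IsHomLift.eq_of_isHomLift (_root_.AlgSt.BG Scheme.fppfPrecoverage G).p (a := (bgBase G).obj V)
    (b := (bgBase G).obj V) (𝟙 V) s.1).symm

theorem point_bgVert (s : Neutral.Vert (bgBase G) V) :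
    QuotSt.point (K := Scheme.fppfPrecoverage) (aX := trivAction G) (a := bgPt V)
      (s.1 : (_root_.AlgSt.quotMap Scheme.fppfPrecoverage G (trivAction G)).obj (bgPt V) ⟶ _) =
        lift (bgVertPt s) (𝟙 V) := by
  refine CartesianMonoidalCategory.hom_ext _ _ ?_ ?_
  · rw [lift_fst]; rfl
  · rw [lift_snd]; exact (QuotSt.point_π _).trans (bgVert_base s)

/-- Vertical endomorphisms of a trivial torsor are the points of the group. -/
noncomputable def bgVertEquiv (G : Over S) [GrpObj G] (V : Over S) : Neutral.Vert (bgBase G) V ≃ (V ⟶ G) where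
  toFun := bgVertPt
  invFun := bgVertOfPt
  left_inv s := Subtype.ext (QuotSt.hom_ext_point
    ((QuotSt.point_homOfPoint _ (toUnit_unique _ _)).trans (point_bgVert s).symm))
  right_inv g := (congrArg (· ≫ fst G V) (QuotSt.point_homOfPoint _ (toUnit_unique _ _))).trans (lift_fst _ _)

theorem bgVertPt_comp (s t : Neutral.Vert (bgBase G) V) :
    bgVertPt ((bgBase G).comp s t) = bgVertPt s * bgVertPt t := by
  change (QuotSt.unitSec V ≫ (s.1 : (_root_.AlgSt.quotMap Scheme.fppfPrecoverage G (trivAction G)).obj (bgPt V) ⟶ _).top ≫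
    (t.1 : (_root_.AlgSt.quotMap Scheme.fppfPrecoverage G (trivAction G)).obj (bgPt V) ⟶ _).top) ≫ fst G V = _
  rw [← Category.assoc (QuotSt.unitSec V)]
  change (QuotSt.point (K := Scheme.fppfPrecoverage) (aX := trivAction G) (a := bgPt V) s.1 ≫ _) ≫ fst G V = _
  rw [point_bgVert, QuotSt.top_eq, point_bgVert]
  change (lift (bgVertPt s) (𝟙 V) ≫ (G ◁ lift (bgVertPt t) (𝟙 V)) ≫ (_root_.AlgSt.leftMul G V).act) ≫ fst G V = _
  simp [_root_.AlgSt.leftMul, comp_mul]

theorem bgVertPt_res (r : W ⟶ V) (s' : Neutral.Vert (bgBase G) W) (s : Neutral.Vert (bgBase G) V)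
    (e : s'.1 ≫ (bgBase G).map r = (bgBase G).map r ≫ s.1) : bgVertPt s' = r ≫ bgVertPt s := by
  have h := congrArg (QuotSt.point (K := Scheme.fppfPrecoverage) (aX := trivAction G) (a := bgPt W)) e
  change QuotSt.point (K := Scheme.fppfPrecoverage) (aX := trivAction G) (a := bgPt W)
      (s'.1 ≫ (_root_.AlgSt.quotMap Scheme.fppfPrecoverage G (trivAction G)).map (bgPtMap r)) =
    QuotSt.point (K := Scheme.fppfPrecoverage) (aX := trivAction G) (a := bgPt W)
      ((_root_.AlgSt.quotMap Scheme.fppfPrecoverage G (trivAction G)).map (bgPtMap r) ≫ s.1) at h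
  rw [QuotSt.point_comp_map, QuotSt.point_map_comp, point_bgVert, point_bgVert] at h
  have h' := congrArg (· ≫ fst G V) h
  simpa using h'

end GrothLib.IsoNat
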