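import Groth.Agent.Lib.AlgSt.IsoNat.Lifts

/-!
# Triviality of infinitesimal automorphisms, read on isomorphism classes
-/

set_option backward.isDefEq.respectTransparency false
set_option backward.isDefEq.respectTransparency.types false

universe u

open CategoryTheory CategoryTheory.Limits AlgebraicGeometry Opposite

namespace GrothLib.IsoNat

open _root_.AlgSt GrothLib.FibCat GrothLib.AlgSt GrothLib.AlgSp GrothLib.Axes

variable {S : Scheme.{u}} {𝒳 𝒴 : _root_.AlgSt.Cat S} {I : Type} [DecidableEq I] [Finite I]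
  {T T' : Over S} {g : T' ⟶ T}

theorem sec_bc {P : Scheme.{u}} (p : P₀ ⟶ P) : Axes.sec T' p ≫ bc g P = g ≫ Axes.sec T p := by
  refine tp_ext ?_ ?_
  · rw [Category.assoc, bc_pr, sec_pr_assoc, Category.assoc, sec_pr, Category.comp_id]
  · simp only [Over.comp_left, Category.assoc, bc_sn, Axes.sec, Axes.lift_sn]
    exact ((Category.assoc _ _ _).symm.trans (congrArg (· ≫ p) (toZ_ext _ _))).symm

variable {x x' : 𝒳.obj} {X X' : 𝒳.obj} (hG : _root_.FibCat.IsFibGrpd 𝒳.p) (r : x' ⟶ x) (hr : 𝒳.p.IsHomLift g r)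
  (μ : X' ⟶ X) (hμ : 𝒳.p.IsHomLift (bc g (D₀.{u} I)) μ)

include hG hr hμ

/-- Admissible objects on the doubled axes pull back along a change of base. -/
theorem adm_bc (hA : Adm I T x X) : Adm I T' x' X' := by
  have hx' : 𝒳.p.obj x' = T' := IsHomLift.domain_eq 𝒳.p g r
  refine ⟨IsHomLift.domain_eq 𝒳.p (bc g (D₀.{u} I)) μ, fun b => ?_, fun i => ?_⟩
  · obtain ⟨z, u, v, hu, hv⟩ := hA.chart b
    obtain ⟨z', u', hu'⟩ := IsFibGrpd.exists_lift_of_eq hG hx' (pr T' (X₀.{u} I))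
    obtain ⟨θ, hθ, -⟩ := exists_over hG (bc g (X₀.{u} I)) _ u hu (u' ≫ r) (by rw [bc_pr]; infer_instance)
    obtain ⟨v', hv', -⟩ := exists_over hG (Axes.chart I T' b) _ μ hμ (θ ≫ v) (by rw [mp_bc]; infer_instance)
    exact ⟨z', u', v', hu', hv'⟩
  · obtain ⟨z, u, v, hu, hv⟩ := hA.line i
    obtain ⟨z', u', hu'⟩ := IsFibGrpd.exists_lift_of_eq hG hx' (pr T' (D₀.{u} Unit))
    obtain ⟨θ, hθ, -⟩ := exists_over hG (bc g (D₀.{u} Unit)) _ u hu (u' ≫ r) (by rw [bc_pr]; infer_instance)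
    obtain ⟨v', hv', -⟩ := exists_over hG (Axes.line T' i) _ μ hμ (θ ≫ v) (by rw [mp_bc]; infer_instance)
    exact ⟨z', u', v', hu', hv'⟩

theorem trans_bc {i : I} {w₀ w₁ : x ⟶ X} {w₀' w₁' : x' ⟶ X'} (h : Trans T x i w₀ w₁)
    (h₀ : 𝒳.p.IsHomLift (origin I T' i false) w₀') (h₁ : 𝒳.p.IsHomLift (origin I T' i true) w₁')
    (e₀ : w₀' ≫ μ = r ≫ w₀) (e₁ : w₁' ≫ μ = r ≫ w₁) : Trans T' x' i w₀' w₁' := by
  have hx' : 𝒳.p.obj x' = T' := IsHomLift.domain_eq 𝒳.p g r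
  obtain ⟨z, u, v, a₀, a₁, hu, hv, ha₀, ha₁, he₀, he₁, rfl, rfl⟩ := h
  obtain ⟨z', u', hu'⟩ := IsFibGrpd.exists_lift_of_eq hG hx' (pr T' (D₀.{u} Unit))
  obtain ⟨θ, hθ, hθu⟩ := exists_over hG (bc g (D₀.{u} Unit)) _ u hu (u' ≫ r) (by rw [bc_pr]; infer_instance)
  obtain ⟨v', hv', hvv⟩ := exists_over hG (Axes.line T' i) _ μ hμ (θ ≫ v) (by rw [mp_bc]; infer_instance)
  have he : ∀ b, ∃ e : x' ⟶ z', 𝒳.p.IsHomLift (lineOrigin T' b) e ∧ e ≫ u' = 𝟙 x' := fun b =>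
    exists_over hG _ _ u' hu' (𝟙 x') (by rw [sec_pr]; exact IsHomLift.id hx')
  choose e hel heu using he
  have key : ∀ (b : Bool) (a : x ⟶ z), 𝒳.p.IsHomLift (lineOrigin T b) a → a ≫ u = 𝟙 x → e b ≫ θ = r ≫ a := by
    intro b a ha hau
    have := hel b
    refine over_unique hG _ u hu (g := lineOrigin T' b ≫ bc g (D₀.{u} Unit)) inferInstance ?_ ?_
    · rw [sec_bc]; infer_instance
    · rw [Category.assoc, hθu, reassoc_of% (heu b), Category.assoc, hau, Category.comp_id]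
  refine ⟨z', u', v', e false, e true, hu', hv', hel false, hel true, heu false, heu true,
    over_unique hG _ μ hμ ?_ h₀ ?_, over_unique hG _ μ hμ ?_ h₁ ?_⟩
  · have := hel false; rw [← lineOrigin_line]; infer_instance
  · rw [Category.assoc, hvv, ← Category.assoc, key false a₀ ha₀ he₀, Category.assoc, e₀]
  · have := hel true; rw [← lineOrigin_line]; infer_instance
  · rw [Category.assoc, hvv, ← Category.assoc, key true a₁ ha₁ he₁, Category.assoc, e₁]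

/-- Holonomy pulls back along a change of base. -/
theorem hol_bc [Nonempty I] {h : I → (x ⟶ x)} {h' : I → (x' ⟶ x')} (H : HasHol T x X h)
    (hh' : ∀ i, 𝒳.p.map (h' i) = 𝟙 _) (e : ∀ i, h' i ≫ r = r ≫ h i) : HasHol T' x' X' h' := by
  have hx' : 𝒳.p.obj x' = T' := IsHomLift.domain_eq 𝒳.p g r
  obtain ⟨i₀⟩ := (inferInstance : Nonempty I)
  obtain ⟨hh, w₀, w₁, hw⟩ := H
  have hw₁ := exists_isHomLift_comp_vert hG _ (hh i₀) _ (hw i₀).lift₁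
  have := (hw i₀).lift₀
  have horig : ∀ (i : I) b, origin I T' i b ≫ bc g (D₀.{u} I) = g ≫ origin I T i b := fun i b => sec_bc _
  obtain ⟨w₀', h₀', e₀⟩ := exists_over hG (origin I T' i₀ false) _ μ hμ (r ≫ w₀) (by rw [horig]; infer_instance)
  obtain ⟨w₁', h₁', e₁⟩ := exists_over hG (origin I T' i₀ true) _ μ hμ (r ≫ w₁) (by rw [horig]; infer_instance)
  refine ⟨hh', w₀', w₁', fun i => ?_⟩
  have := vert_lift hG hx' (hh' i)
  refine trans_bc hG r hr μ hμ (hw i) (by rw [origin_eq T' i i₀]; exact h₀') ?_ e₀ ?_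
  · rw [origin_eq T' i i₀]
    exact IsHomLift.comp_lift_id_left' 𝒳.p T' (h' i) _ w₁'
  · rw [Category.assoc, e₁, reassoc_of% (e i)]

omit hr hμ

/-- The pullback of an object to the doubled axes has trivial holonomy. -/
theorem adm_hol_pullback [Nonempty I] {P : 𝒳.obj} (q : P ⟶ x) (hq : 𝒳.p.IsHomLift (pr T (D₀.{u} I)) q) :
    Adm I T x P ∧ HasHol T x P (fun _ : I => 𝟙 x) := by
  obtain ⟨i₀⟩ := (inferInstance : Nonempty I)
  have hxT : 𝒳.p.obj x = T := IsHomLift.codomain_eq 𝒳.p (pr T (D₀.{u} I)) q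
  have hP : 𝒳.p.obj P = D I T := IsHomLift.domain_eq 𝒳.p (pr T (D₀.{u} I)) q
  refine ⟨⟨hP, fun b => ?_, fun i => ?_⟩, fun _ => 𝒳.p.map_id x, ?_⟩
  · obtain ⟨z, u, hu⟩ := IsFibGrpd.exists_lift_of_eq hG hxT (pr T (X₀.{u} I))
    obtain ⟨v, hv, -⟩ := exists_over hG (Axes.chart I T b) _ q hq u (by rw [mp_pr]; exact hu)
    exact ⟨z, u, v, hu, hv⟩
  · obtain ⟨z, u, hu⟩ := IsFibGrpd.exists_lift_of_eq hG hxT (pr T (D₀.{u} Unit))
    obtain ⟨v, hv, -⟩ := exists_over hG (Axes.line T i) _ q hq u (by rw [mp_pr]; exact hu)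
    exact ⟨z, u, v, hu, hv⟩
  have hw : ∀ b, ∃ w : x ⟶ P, 𝒳.p.IsHomLift (origin I T i₀ b) w ∧ w ≫ q = 𝟙 x := fun b =>
    exists_over hG _ _ q hq (𝟙 x) (by rw [sec_pr]; exact IsHomLift.id hxT)
  choose w hwl hwq using hw
  refine ⟨w false, w true, fun i => ?_⟩
  rw [Category.id_comp]
  obtain ⟨z, u, hu⟩ := IsFibGrpd.exists_lift_of_eq hG hxT (pr T (D₀.{u} Unit))
  obtain ⟨v, hv, hvu⟩ := exists_over hG (Axes.line T i) _ q hq u (by rw [mp_pr]; exact hu)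
  have he : ∀ b, ∃ e : x ⟶ z, 𝒳.p.IsHomLift (lineOrigin T b) e ∧ e ≫ u = 𝟙 x := fun b =>
    exists_over hG _ _ u hu (𝟙 x) (by rw [sec_pr]; exact IsHomLift.id hxT)
  choose e hel heu using he
  have key : ∀ b, e b ≫ v = w b := fun b => by
    have := hel b
    refine over_unique hG _ q hq (g := lineOrigin T b ≫ Axes.line T i) inferInstance ?_ ?_
    · rw [lineOrigin_line, origin_eq T i i₀]; exact hwl b
    · rw [Category.assoc, hvu, heu, hwq]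
  exact ⟨z, u, v, e false, e true, hu, hv, hel false, hel true, heu false, heu true, key false, key true⟩

omit hG

/-- Objects with normalised trivial holonomy have only trivial normalised holonomy. -/
theorem hol_one_unique {hG : _root_.FibCat.IsFibGrpd 𝒳.p}
    (hd : RepByAlgSpWith AlgSp.IsSeparatedMor (_root_.FibCat.diag (_root_.FibCat.toSelf 𝒳)))
    (hxT : 𝒳.p.obj x = T) {s : x ⟶ x} (H : HasHol (ι := Fin 2) T x X (fun _ => 𝟙 x))
    (H' : HasHol (ι := Fin 2) T x X ![𝟙 x, s]) : s = 𝟙 x := by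
  obtain ⟨a, b, -, -, hab⟩ := hol_unique hG hd hxT H H'
  have h0 : 𝟙 x = a ≫ b := by simpa using hab 0
  have h1 : s = a ≫ b := by simpa using hab 1
  rw [h1, ← h0]

/-- Triviality of infinitesimal automorphisms passes to corresponding objects. -/
theorem kerTriv_of_corr {φ : _root_.IsoNat.FIso 𝒳 𝒴} (hst : _root_.Stk.IsStack (AlgSp.J S) 𝒳)
    (hst' : _root_.Stk.IsStack (AlgSp.J S) 𝒴)
    (hd : RepByAlgSpWith AlgSp.IsSeparatedMor (_root_.FibCat.diag (_root_.FibCat.toSelf 𝒳)))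
    (hd' : RepByAlgSpWith AlgSp.IsSeparatedMor (_root_.FibCat.diag (_root_.FibCat.toSelf 𝒴)))
    {U : Over S} {x : 𝒳.obj} {y : 𝒴.obj} (hc : Corr φ U x y) (hx : KerTriv x) : KerTriv y := by
  intro T₀ T t ht hT η z₀ j f k hj hk e
  have hG := hst.1
  have hG' := hst'.1
  have hηT : 𝒴.p.obj η = T := IsHomLift.codomain_eq 𝒴.p t j
  have hz₀ : 𝒴.p.obj z₀ = T₀ := IsHomLift.domain_eq 𝒴.p t j
  obtain ⟨hxU, hyU, -⟩ := id hc
  obtain ⟨ψ, hψ⟩ := exists_fiso_symm hG hG' φ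
  have hψ' : ∀ T, φ.toEquiv T = (ψ.toEquiv T).symm := fun T => by rw [hψ, Equiv.symm_symm]
  obtain ⟨ξ, hξ⟩ := Corr.exists_right ψ hηT
  obtain ⟨ξ₀, hξ₀⟩ := Corr.exists_right ψ hz₀
  obtain ⟨j', hj'⟩ := hξ₀.transfer hξ t j hj
  obtain ⟨f', -⟩ := hξ.transfer (hc.symm ψ hψ) (eqToHom hηT.symm ≫ 𝒴.p.map f ≫ eqToHom hyU) f
    (IsHomLift.of_fac 𝒴.p _ _ hηT hyU rfl)
  obtain ⟨-, hξT, -⟩ := id hξ
  -- the twisted object
  obtain ⟨Yk, hA, H⟩ := exists_twisted hst' hηT ![𝟙 η, k] (fun i => by fin_cases i <;> simp [hk])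
  obtain ⟨Xk, C⟩ := Corr.exists_right ψ hA.lies
  have hB := hA.transfer hG' hξ C
  obtain ⟨l, K, l0⟩ := exists_hol_normal hG hB 0
  -- restriction to the closed subscheme
  obtain ⟨Y₀, μ, hμ⟩ := IsFibGrpd.exists_lift_of_eq hG' hA.lies (bc t (D₀.{u} (Fin 2)))
  obtain ⟨X₀', C₀⟩ := Corr.exists_right ψ (IsHomLift.domain_eq 𝒴.p (bc t (D₀.{u} (Fin 2))) μ)
  obtain ⟨μ', hμ'⟩ := C₀.transfer C _ μ hμ
  have H₀ : HasHol (ι := Fin 2) T₀ z₀ Y₀ (fun _ => 𝟙 z₀) := hol_bc hG' j hj μ hμ H (fun _ => 𝒴.p.map_id z₀)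
    (fun i => by fin_cases i <;> simp [e])
  obtain ⟨P₀, q₀, hq₀⟩ := IsFibGrpd.exists_lift_of_eq hG' hz₀ (pr T₀ (D₀.{u} (Fin 2)))
  obtain ⟨hAP, HP⟩ := adm_hol_pullback hG' q₀ hq₀
  obtain ⟨i₀, hi₀⟩ := iso_of_hol_eq hG' hst' hAP (adm_bc hG' j hj μ hμ hA) HP H₀
  obtain ⟨P₀', CP⟩ := Corr.exists_right ψ hAP.lies
  obtain ⟨q₀', hq₀'⟩ := CP.transfer hξ₀ _ q₀ hq₀
  obtain ⟨i₀', hi₀'⟩ := CP.transfer C₀ _ i₀ hi₀
  obtain ⟨-, hξ₀T, -⟩ := id hξ₀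
  obtain ⟨h₁, hh₁, hh₁e⟩ := exists_endo' hG j' (l 1) (K.1 1)
  have K₀ : HasHol (ι := Fin 2) T₀ ξ₀ X₀' ![𝟙 ξ₀, h₁] := hol_bc hG j' hj' μ' hμ' K
    (fun i => by fin_cases i <;> simp [hh₁]) (fun i => by fin_cases i <;> simp [l0, hh₁e])
  have h₁one : h₁ = 𝟙 ξ₀ := hol_one_unique (hG := hG) hd hξ₀T ((adm_hol_pullback hG q₀' hq₀').2.comp i₀' hi₀') K₀
  have l1 : l 1 = 𝟙 ξ := hx t ht hT j' f' (l 1) hj' (K.1 1) (by rw [← hh₁e, h₁one, Category.id_comp])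
  have K1 : HasHol (ι := Fin 2) T ξ Xk (fun _ => 𝟙 ξ) := by
    rwa [show l = fun _ => 𝟙 ξ from funext fun i => by fin_cases i <;> assumption] at K
  -- back
  obtain ⟨P, q, hq⟩ := IsFibGrpd.exists_lift_of_eq hG hξT (pr T (D₀.{u} (Fin 2)))
  obtain ⟨hAP', HP'⟩ := adm_hol_pullback hG q hq
  obtain ⟨i, hi⟩ := iso_of_hol_eq hG hst hAP' hB HP' K1
  obtain ⟨P', CP'⟩ := Corr.exists_right φ hAP'.lies
  obtain ⟨q', hq'⟩ := CP'.transfer (hξ.symm φ hψ') _ q hq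
  obtain ⟨i', hi'⟩ := CP'.transfer (C.symm φ hψ') _ i hi
  exact hol_one_unique (hG := hG') hd' hηT ((adm_hol_pullback hG' q' hq').2.comp i' hi') H

end GrothLib.IsoNat
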