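import Groth.Agent.Lib.AlgSt.IsoNat.RepModel
import Groth.Agent.Lib.AlgSt.IsoNat.KerTriv
import Groth.Agent.Lib.AlgSp.FormalLiftSpace

/-!
# Infinitesimal lifting for representable morphisms from schemes
-/

set_option backward.isDefEq.respectTransparency false
set_option backward.isDefEq.respectTransparency.types false

universe u

open CategoryTheory CategoryTheory.Limits AlgebraicGeometry Opposite

namespace GrothLib.IsoNat

open _root_.AlgSt GrothLib.FibCat GrothLib.AlgSt GrothLib.AlgSp GrothLib.Axes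

variable {S : Scheme.{u}} {𝒳 𝒴 : _root_.AlgSt.Cat S}

theorem lifts_of_rep (hG : _root_.FibCat.IsFibGrpd 𝒳.p) {U : Over S} (x : _root_.FibCat.overCat U ⥤ᵇ 𝒳)
    (h : RepByAlgSpWith AlgSp.IsFormallySmoothMor x) : Lifts (x.obj (Yon.idObj U)) := by
  intro T₀ T t ht hT η z₀ j u₀ hj
  obtain ⟨G, eX, heX⟩ := Yon.exists_functor hG η (IsHomLift.codomain_eq 𝒳.p t j)
  obtain ⟨F, e, he, hs⟩ := h T G
  obtain ⟨M⟩ := exists_model G x e hG he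
  obtain ⟨m₀, hm₀⟩ := M.tot z₀ (j ≫ eX.inv) u₀ (IsHomLift.domain_eq 𝒳.p t j)
  have : 𝒳.p.IsHomLift (𝟙 T) eX.inv := IsHomLift.lift_id_inv _ _ _
  have hjl : 𝒳.p.IsHomLift t (j ≫ eX.inv) := IsHomLift.comp_lift_id_right' 𝒳.p _ _ T _
  obtain ⟨b, hb, hbφ⟩ := M.base hm₀
  obtain rfl : b = t := IsoNat.eq_of_lifts 𝒳.p _ hb hjl
  obtain ⟨l, hl, hlφ⟩ := hasLift_affine hs ht m₀ (𝟙 _) (by rw [hbφ, Category.comp_id])
  obtain ⟨z, v, u, hR⟩ := M.surj l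
  obtain ⟨c, hc, hcφ⟩ := M.base hR
  obtain rfl : c = 𝟙 T := (AlgSp.yon S).map_injective (hcφ.symm.trans (hlφ.trans (CategoryTheory.Functor.map_id _ _).symm))
  have := IsFibGrpd.isIso_of_isHomLift_id hG (R := T) v
  obtain ⟨κ, -, hκv, hκu⟩ := M.exists_hom hm₀ hR b hl
  exact ⟨eX.inv ≫ inv v ≫ u, by rw [← Category.assoc, ← hκv, Category.assoc, IsIso.hom_inv_id_assoc, hκu]⟩

theorem uniq_of_rep (hG : _root_.FibCat.IsFibGrpd 𝒳.p) {U : Over S} (x : _root_.FibCat.overCat U ⥤ᵇ 𝒳)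
    (h : RepByAlgSpWith AlgSp.IsFormallyUnramifiedMor x) : Uniq (x.obj (Yon.idObj U)) := by
  intro T₀ T t ht hT η z₀ j μ μ' hj e
  obtain ⟨G, eX, heX⟩ := Yon.exists_functor hG η (IsHomLift.codomain_eq 𝒳.p t j)
  obtain ⟨F, e', he, hu⟩ := h T G
  obtain ⟨M⟩ := exists_model G x e' hG he
  have hw : 𝒳.p.obj (G.obj (Yon.idObj T)) = T := G.w_obj _
  have : 𝒳.p.IsHomLift (𝟙 T) eX.inv := IsHomLift.lift_id_inv _ _ _
  have hjl : 𝒳.p.IsHomLift t (j ≫ eX.inv) := IsHomLift.comp_lift_id_right' 𝒳.p _ _ T _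
  obtain ⟨m₀, hm₀⟩ := M.tot z₀ (j ≫ eX.inv) (j ≫ μ) (IsHomLift.domain_eq 𝒳.p t j)
  have key : ∀ ν : η ⟶ x.obj (Yon.idObj U), j ≫ ν = j ≫ μ → ∃ m, M.R m _ (𝟙 (G.obj (Yon.idObj T))) (eX.hom ≫ ν) ∧
      m ≫ spMapOfOver (BasedFunctor.comp e' (_root_.FibCat.fpFst G x)) = 𝟙 ((AlgSp.yon S).obj T) ∧
      (AlgSp.yon S).map t ≫ m = m₀ := fun ν hν => by
    obtain ⟨m, hm⟩ := M.tot (G.obj (Yon.idObj T)) (𝟙 _) (eX.hom ≫ ν) hw
    obtain ⟨c, hc, hcφ⟩ := M.base hm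
    obtain rfl : c = 𝟙 T := IsoNat.eq_of_lifts 𝒳.p _ hc (IsHomLift.id hw)
    refine ⟨m, hm, hcφ.trans (CategoryTheory.Functor.map_id _ _), M.map_eq hm₀ hm t (j ≫ eX.inv) hjl (Category.comp_id _) ?_⟩
    rw [Category.assoc, eX.inv_hom_id_assoc, hν]
  obtain ⟨m, hm, hmφ, hmt⟩ := key μ rfl
  obtain ⟨m', hm', hm'φ, hm't⟩ := key μ' e.symm
  have hmm : m = m' := hom_ext_affine hu ht (hmt.trans hm't.symm) (hmφ.trans hm'φ.symm)
  obtain ⟨κ, -, hκv, hκu⟩ := M.exists_hom hm hm' (𝟙 T) (by rw [CategoryTheory.Functor.map_id, Category.id_comp, hmm])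
  rw [Category.comp_id] at hκv
  rw [hκv, Category.id_comp] at hκu
  exact ((cancel_epi eX.hom).1 hκu).symm

/-- Lifting of morphisms restricts to open subschemes. -/
theorem lifts_restrict (hG : _root_.FibCat.IsFibGrpd 𝒳.p) {U V : Over S} {x x' : 𝒳.obj} {i : V ⟶ U}
    [IsOpenImmersion i.left] (ρ : x' ⟶ x) (hρ : 𝒳.p.IsHomLift i ρ) (h : Lifts x) : Lifts x' := by
  intro T₀ T t ht hT η z₀ j u₀ hj
  obtain ⟨μ, hμ⟩ := h t ht hT j (u₀ ≫ ρ) hj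
  have hη : 𝒳.p.obj η = T := IsHomLift.codomain_eq 𝒳.p t j
  have hx : 𝒳.p.obj x = U := IsHomLift.codomain_eq 𝒳.p i ρ
  have hx' : 𝒳.p.obj x' = V := IsHomLift.domain_eq 𝒳.p i ρ
  have hz₀ : 𝒳.p.obj z₀ = T₀ := IsHomLift.domain_eq 𝒳.p t j
  let a : T₀ ⟶ V := eqToHom hz₀.symm ≫ 𝒳.p.map u₀ ≫ eqToHom hx'
  let b : T ⟶ U := eqToHom hη.symm ≫ 𝒳.p.map μ ≫ eqToHom hx
  have ha : 𝒳.p.IsHomLift a u₀ := IsHomLift.of_fac 𝒳.p _ _ hz₀ hx' rfl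
  have hb : 𝒳.p.IsHomLift b μ := IsHomLift.of_fac 𝒳.p _ _ hη hx rfl
  have hab : t ≫ b = a ≫ i := base_eq (j ≫ μ) inferInstance (by rw [hμ]; infer_instance)
  have hr : Set.range b.left ⊆ Set.range i.left := by
    rintro _ ⟨p, rfl⟩
    have : Surjective t.left := ht.1.2
    obtain ⟨q, rfl⟩ := t.left.surjective p
    exact ⟨a.left q, congr($(hab.symm).left q)⟩
  let b' : T ⟶ V := Over.homMk (IsOpenImmersion.lift i.left b.left hr) (by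
    rw [← Over.w i, ← Category.assoc, IsOpenImmersion.lift_fac]; exact Over.w b)
  have hb' : b' ≫ i = b := Over.OverMorphism.ext (IsOpenImmersion.lift_fac _ _ _)
  obtain ⟨μ', hμ', hμ'ρ⟩ := exists_over hG b' i ρ hρ μ (by rw [hb']; exact hb)
  refine ⟨μ', over_unique hG i ρ hρ (g := a) ?_ ha (by rw [Category.assoc, hμ'ρ, hμ])⟩
  have hta : t ≫ b' = a := Over.OverMorphism.ext ((cancel_mono i.left).1 (by
    rw [← Over.comp_left, ← Over.comp_left, Category.assoc, hb', hab]))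
  rw [← hta]; infer_instance

/-- Uniqueness of lifts restricts along monomorphisms. -/
theorem uniq_restrict (hG : _root_.FibCat.IsFibGrpd 𝒳.p) {U V : Over S} {x x' : 𝒳.obj} {i : V ⟶ U} [Mono i.left]
    (ρ : x' ⟶ x) (hρ : 𝒳.p.IsHomLift i ρ) (h : Uniq x) : Uniq x' := by
  intro T₀ T t ht hT η z₀ j μ μ' hj e
  have h1 := h t ht hT j (μ ≫ ρ) (μ' ≫ ρ) hj (by rw [reassoc_of% e])
  refine IsFibGrpd.hom_ext' hG ρ ?_ h1
  have h2 := congrArg (fun f => (𝒳.p.map f).left) h1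
  simp only [𝒳.p.map_comp, Over.comp_left] at h2
  have : Mono (𝒳.p.map ρ).left := by
    rw [IsHomLift.fac' 𝒳.p i ρ]
    simp only [Over.comp_left]
    have : IsIso (eqToHom (IsHomLift.domain_eq 𝒳.p i ρ)).left := inferInstanceAs (IsIso ((Over.forget S).map _))
    have : IsIso (eqToHom (IsHomLift.codomain_eq 𝒳.p i ρ).symm).left := inferInstanceAs (IsIso ((Over.forget S).map _))
    infer_instance
  exact Over.OverMorphism.ext ((cancel_mono _).1 h2)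

/-- Corresponding objects over affine opens. -/
theorem exists_corr_restrict (hst : _root_.Stk.IsStack (AlgSp.J S) 𝒳) (hst' : _root_.Stk.IsStack (AlgSp.J S) 𝒴)
    {φ : _root_.IsoNat.FIso 𝒳 𝒴} {U V : Over S} {x : 𝒳.obj} {y : 𝒴.obj} (hc : Corr φ U x y) {i : V ⟶ U}
    {y' : 𝒴.obj} (ρ : y' ⟶ y) (hρ : 𝒴.p.IsHomLift i ρ) :
    ∃ (x' : 𝒳.obj) (ρ' : x' ⟶ x), 𝒳.p.IsHomLift i ρ' ∧ Corr φ V x' y' := by
  obtain ⟨ψ, hψ⟩ := exists_fiso_symm hst.1 hst'.1 φ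
  obtain ⟨x', hx'⟩ := Corr.exists_right ψ (IsHomLift.domain_eq 𝒴.p i ρ)
  obtain ⟨ρ', hρ'⟩ := hx'.transfer (hc.symm ψ hψ) i ρ hρ
  exact ⟨x', ρ', hρ', hx'.symm φ fun T => by rw [hψ, Equiv.symm_symm]⟩

section Chart

variable (hG : _root_.FibCat.IsFibGrpd 𝒴.p) {V W P Q : Over S} {F : AlgSp.Sp S} {φ : F ⟶ (AlgSp.yon S).obj V}
  {w₀ y₀ : 𝒴.obj} (M : Model F φ w₀ y₀) (a : (AlgSp.yon S).obj W ⟶ F) (ha : AlgSp.RepWith @Etale a) (h : W ⟶ V)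
  (hh : a ≫ φ = (AlgSp.yon S).map h) {zW : 𝒴.obj} {vW : zW ⟶ w₀} {uW : zW ⟶ y₀} (hR : M.R a zW vW uW)
  {Y : Over S} {y' : 𝒴.obj} {i : P ⟶ Y} (ρ : y' ⟶ y₀) (hρ : 𝒴.p.IsHomLift i ρ) {bW : W ⟶ Y}
  (hbW : 𝒴.p.IsHomLift bW uW) (q : Q ⟶ W) (qP : Q ⟶ P) (hqP : qP ≫ i = q ≫ bW)

include hG ha hh hR hρ hbW hqP

/-- Lifts into `y'` give lifts on the part of a chart over `y'`. -/
theorem fs_chart [IsOpenImmersion q.left] (hy : Lifts y') (g : Q ⟶ V) (hg : q ≫ h = g) :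
    AlgSp.IsFormallySmoothMor ((AlgSp.yon S).map g) := by
  intro sq
  have ht : FOT sq.j := fot_j sq
  have hT : IsAffine sq.ptT'.left := inferInstanceAs (IsAffine (Spec _))
  obtain ⟨a₀, ha₀⟩ := (AlgSp.yon S).map_surjective sq.top
  obtain ⟨b, hb⟩ := (AlgSp.yon S).map_surjective sq.bot
  have hsq : a₀ ≫ q ≫ h = sq.j ≫ b := (AlgSp.yon S).map_injective (by
    rw [hg, Functor.map_comp, ha₀, Functor.map_comp _ sq.j, hb]; exact sq.comm)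
  obtain ⟨z₀, v₀, u₀, h₀⟩ := M.surj ((AlgSp.yon S).map (a₀ ≫ q) ≫ a)
  obtain ⟨κ₀, hκ₀, hκ₀v, hκ₀u⟩ := M.exists_hom h₀ hR (a₀ ≫ q) rfl
  obtain ⟨bv, hbv, hbvφ⟩ := M.base h₀
  obtain rfl : bv = sq.j ≫ b := (AlgSp.yon S).map_injective (by
    rw [← hbvφ, Category.assoc, hh, ← Functor.map_comp, Category.assoc, hsq])
  have hu₀ : 𝒴.p.IsHomLift ((a₀ ≫ qP) ≫ i) u₀ := by
    rw [Category.assoc, hqP, ← Category.assoc, ← hκ₀u]; infer_instance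
  obtain ⟨u₀', -, hu₀'ρ⟩ := exists_over hG (a₀ ≫ qP) i ρ hρ u₀ hu₀
  obtain ⟨-, -, hRb⟩ := M.base hR
  have hw₀ : 𝒴.p.obj w₀ = V := IsHomLift.codomain_eq 𝒴.p (sq.j ≫ b) v₀
  obtain ⟨η, ν, hν⟩ := IsFibGrpd.exists_lift_of_eq hG hw₀ b
  obtain ⟨j, hj, hjν⟩ := exists_over hG sq.j b ν hν v₀ hbv
  obtain ⟨μ, hμ⟩ := hy sq.j ht hT j u₀' hj
  obtain ⟨l, hl⟩ := M.tot η ν (μ ≫ ρ) (IsHomLift.codomain_eq 𝒴.p sq.j j)
  have hlt : (AlgSp.yon S).map sq.j ≫ l = (AlgSp.yon S).map (a₀ ≫ q) ≫ a :=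
    M.map_eq h₀ hl sq.j j hj hjν (by rw [← Category.assoc, hμ, hu₀'ρ])
  obtain ⟨c, hc, hcφ⟩ := M.base hl
  obtain rfl : c = b := IsoNat.eq_of_lifts 𝒴.p _ hc hν
  obtain ⟨L, ⟨hL, hLa⟩, -⟩ := existsUnique_lift_of_fe (fe_of_repWith_etale ha) ht _ l hlt.symm
  obtain ⟨L, rfl⟩ := (AlgSp.yon S).map_surjective L
  have hLt : sq.j ≫ L = a₀ ≫ q := (AlgSp.yon S).map_injective (by rw [Functor.map_comp]; exact hL)
  have hr : Set.range L.left ⊆ Set.range q.left := by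
    rintro _ ⟨p, rfl⟩
    have : Surjective sq.j.left := ht.1.2
    obtain ⟨p, rfl⟩ := sq.j.left.surjective p
    exact ⟨a₀.left p, congr($(hLt.symm).left p)⟩
  let L' : sq.ptT' ⟶ Q := Over.homMk (IsOpenImmersion.lift q.left L.left hr) (by
    rw [← Over.w q, ← Category.assoc, IsOpenImmersion.lift_fac]; exact Over.w L)
  have hL' : L' ≫ q = L := Over.OverMorphism.ext (IsOpenImmersion.lift_fac _ _ _)
  refine ⟨(AlgSp.yon S).map L', ?_, ?_⟩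
  · rw [← ha₀, ← Functor.map_comp]
    refine congrArg _ (Over.OverMorphism.ext ((cancel_mono q.left).1 ?_))
    rw [← Over.comp_left, ← Over.comp_left, Category.assoc, hL', hLt]
  · refine Eq.trans ?_ hb
    calc (AlgSp.yon S).map L' ≫ (AlgSp.yon S).map g
        = (AlgSp.yon S).map (L' ≫ q ≫ h) := by rw [hg, Functor.map_comp]
      _ = ((AlgSp.yon S).map L ≫ a) ≫ φ := by rw [← Category.assoc, hL', Functor.map_comp, ← hh, Category.assoc]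
      _ = _ := by rw [hLa, hcφ]

/-- Uniqueness of lifts into `y'` gives uniqueness on the part of a chart over `y'`. -/
theorem fu_chart [Mono q.left] (hy : Uniq y') (g : Q ⟶ V) (hg : q ≫ h = g) :
    AlgSp.IsFormallyUnramifiedMor ((AlgSp.yon S).map g) := by
  intro sq l l' hl hlb hl' hlb'
  have ht : FOT sq.j := fot_j sq
  have hT : IsAffine sq.ptT'.left := inferInstanceAs (IsAffine (Spec _))
  obtain ⟨L, rfl⟩ := (AlgSp.yon S).map_surjective l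
  obtain ⟨L', rfl⟩ := (AlgSp.yon S).map_surjective l'
  obtain ⟨b, hb⟩ := (AlgSp.yon S).map_surjective sq.bot
  have hLb : L ≫ q ≫ h = b := (AlgSp.yon S).map_injective (by rw [hg, Functor.map_comp, hlb, hb])
  have hLb' : L' ≫ q ≫ h = b := (AlgSp.yon S).map_injective (by rw [hg, Functor.map_comp, hlb', hb])
  have hLt : sq.j ≫ L = sq.j ≫ L' := (AlgSp.yon S).map_injective (by
    rw [Functor.map_comp, Functor.map_comp, hl, hl'])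
  let m₀ := (AlgSp.yon S).map (sq.j ≫ L ≫ q) ≫ a
  obtain ⟨z₀, v₀, u₀, h₀⟩ := M.surj m₀
  have key : ∀ (N : sq.ptT' ⟶ Q), N ≫ q ≫ h = b → sq.j ≫ N = sq.j ≫ L → ∃ z v u κ,
      M.R ((AlgSp.yon S).map (N ≫ q) ≫ a) z v u ∧ 𝒴.p.IsHomLift b v ∧ 𝒴.p.IsHomLift ((N ≫ qP) ≫ i) u ∧
      𝒴.p.IsHomLift sq.j κ ∧ κ ≫ v = v₀ ∧ κ ≫ u = u₀ := fun N hN hN' => by
    obtain ⟨z, v, u, hz⟩ := M.surj ((AlgSp.yon S).map (N ≫ q) ≫ a)
    obtain ⟨c, hc, hcφ⟩ := M.base hz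
    obtain rfl : c = b := (AlgSp.yon S).map_injective (by
      rw [← hcφ, Category.assoc, hh, ← Functor.map_comp, Category.assoc, hN])
    obtain ⟨k, hk, hkv, hku⟩ := M.exists_hom hz hR (N ≫ q) rfl
    obtain ⟨κ, hκ, hκv, hκu⟩ := M.exists_hom h₀ hz sq.j (by
      rw [← Category.assoc, ← Functor.map_comp, ← Category.assoc, hN', Category.assoc])
    refine ⟨z, v, u, κ, hz, hc, ?_, hκ, hκv, hκu⟩
    rw [Category.assoc, hqP, ← Category.assoc, ← hku]; infer_instance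
  obtain ⟨z, v, u, κ, hz, hv, hu, hκ, hκv, hκu⟩ := key L hLb rfl
  obtain ⟨z', v', u', κ', hz', hv', hu', hκ', hκv', hκu'⟩ := key L' hLb' hLt.symm
  obtain ⟨θ, hθ, hθv⟩ := exists_over hG (𝟙 sq.ptT') b v' hv' v (by rw [Category.id_comp]; exact hv)
  have hκθ : κ ≫ θ = κ' := over_unique hG b v' hv'
    (IsHomLift.comp_lift_id_right' 𝒴.p sq.j κ sq.ptT' θ) hκ' (by rw [Category.assoc, hθv, hκv, hκv'])
  obtain ⟨μ, hμl, hμ⟩ := exists_over hG (L ≫ qP) i ρ hρ u hu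
  have hθu : 𝒴.p.IsHomLift ((L' ≫ qP) ≫ i) (θ ≫ u') :=
    IsHomLift.comp_lift_id_left' 𝒴.p sq.ptT' θ _ u'
  obtain ⟨μ', hμ'l, hμ'⟩ := exists_over hG (L' ≫ qP) i ρ hρ (θ ≫ u') hθu
  obtain ⟨μ₀, hμ₀, hμ₀e⟩ := exists_over hG (sq.j ≫ L ≫ qP) i ρ hρ u₀ (by
    rw [Category.assoc sq.j, ← hκu]; infer_instance)
  have hj : ∀ (N : sq.ptT' ⟶ Q) (m : z ⟶ y'), 𝒴.p.IsHomLift (N ≫ qP) m → sq.j ≫ N = sq.j ≫ L → κ ≫ m ≫ ρ = u₀ →
      κ ≫ m = μ₀ := fun N m hm hN he => by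
    refine over_unique hG i ρ hρ (g := sq.j ≫ L ≫ qP) ?_ hμ₀ (by rw [Category.assoc, he, hμ₀e])
    rw [← Category.assoc, ← hN, Category.assoc]; infer_instance
  have e1 := hj L μ hμl rfl (by rw [hμ, hκu])
  have e2 := hj L' μ' hμ'l hLt.symm (by rw [hμ', ← Category.assoc, hκθ, hκu'])
  have e3 := hy sq.j ht hT κ μ μ' hκ (e1.trans e2.symm)
  have e4 : (AlgSp.yon S).map (L ≫ q) ≫ a = (AlgSp.yon S).map (L' ≫ q) ≫ a := by
    have := M.map_eq hz hz' (𝟙 _) θ hθ hθv (by rw [← hμ', ← e3, hμ])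
    rwa [CategoryTheory.Functor.map_id, Category.id_comp, eq_comm] at this
  have e5 : (AlgSp.yon S).map (L ≫ q) = (AlgSp.yon S).map (L' ≫ q) :=
    hom_ext_affine (fu_of_fe (fe_of_repWith_etale ha)) ht
      (by rw [← Functor.map_comp, ← Functor.map_comp, ← Category.assoc, hLt, Category.assoc]) e4
  have e6 := (AlgSp.yon S).map_injective e5
  exact congrArg _ (Over.OverMorphism.ext ((cancel_mono q.left).1 congr($(e6).left)))

end Chart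

end GrothLib.IsoNat
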