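import Groth.Agent.Lib.AlgSt.IsoNat.InModel

/-!
# Representing sheaves of a fibre over a chart, described by their points
-/

set_option backward.isDefEq.respectTransparency false
set_option backward.isDefEq.respectTransparency.types false

universe u

open CategoryTheory CategoryTheory.Limits AlgebraicGeometry Opposite

namespace GrothLib.IsoNat

open _root_.AlgSt GrothLib.FibCat GrothLib.AlgSt

variable {S : Scheme.{u}} {𝒳 𝒲 : _root_.AlgSt.Cat S}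

/-- A sheaf over `W` whose points are objects of `𝒳` with a morphism to `p₀`. -/
structure FibModel (D : 𝒳 ⥤ᵇ 𝒲) {W : Over S} (K : AlgSp.Sp S) (φ : K ⟶ (AlgSp.yon S).obj W) (p₀ : 𝒲.obj) where
  /-- A point corresponds to an object and a morphism. -/
  R : ∀ {T : Over S}, ((AlgSp.yon S).obj T ⟶ K) → ∀ z : 𝒳.obj, (D.obj z ⟶ p₀) → Prop
  base : ∀ {T : Over S} {m : (AlgSp.yon S).obj T ⟶ K} {z σ}, R m z σ →
    ∃ c : T ⟶ W, 𝒲.p.IsHomLift c σ ∧ m ≫ φ = (AlgSp.yon S).map c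
  surj : ∀ {T : Over S} (m : (AlgSp.yon S).obj T ⟶ K), ∃ z σ, R m z σ
  tot : ∀ {T : Over S} (z : 𝒳.obj) (σ : D.obj z ⟶ p₀), 𝒳.p.obj z = T →
    ∃ m : (AlgSp.yon S).obj T ⟶ K, R m z σ
  map_eq : ∀ {T' T : Over S} {m' : (AlgSp.yon S).obj T' ⟶ K} {m : (AlgSp.yon S).obj T ⟶ K} {z' z σ' σ},
    R m' z' σ' → R m z σ → ∀ (g : T' ⟶ T) (κ : z' ⟶ z), 𝒳.p.IsHomLift g κ → D.map κ ≫ σ = σ' →
      (AlgSp.yon S).map g ≫ m = m'
  exists_hom : ∀ {T' T : Over S} {m' : (AlgSp.yon S).obj T' ⟶ K} {m : (AlgSp.yon S).obj T ⟶ K} {z' z σ' σ},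
    R m' z' σ' → R m z σ → ∀ (g : T' ⟶ T), (AlgSp.yon S).map g ≫ m = m' →
      ∃ κ : z' ⟶ z, 𝒳.p.IsHomLift g κ ∧ D.map κ ≫ σ = σ'

variable {W : Over S} (G : _root_.FibCat.overCat W ⥤ᵇ 𝒲) (D : 𝒳 ⥤ᵇ 𝒲) {K : AlgSp.Sp S}
  (e : ofSp K ⥤ᵇ _root_.FibCat.fp G D)

/-- An object of the fibre product gives an object with a morphism. -/
def FibPair (o : (_root_.FibCat.fp G D).obj) (z : 𝒳.obj) (σ : D.obj z ⟶ G.obj (Yon.idObj W)) : Prop :=
  ∃ θ : z ⟶ o.obj.snd, 𝒳.p.IsHomLift (𝟙 o.obj.fst.left) θ ∧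
    D.map θ ≫ o.obj.iso.inv ≫ G.map (Yon.toId o.obj.fst) = σ

variable (hX : _root_.FibCat.IsFibGrpd 𝒳.p) (hP : _root_.FibCat.IsFibGrpd 𝒲.p)

include hP in
theorem fibPair_exists_obj {T : Over S} (z : 𝒳.obj) (σ : D.obj z ⟶ G.obj (Yon.idObj W)) (hz : 𝒳.p.obj z = T) :
    ∃ o, (_root_.FibCat.fp G D).p.obj o = T ∧ FibPair G D o z σ := by
  subst hz
  let c : 𝒳.p.obj z ⟶ W := eqToHom (D.w_obj z).symm ≫ 𝒲.p.map σ ≫ eqToHom (G.w_obj _)
  have hc : 𝒲.p.IsHomLift c σ := IsHomLift.of_fac 𝒲.p _ _ (D.w_obj z) (G.w_obj _) rfl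
  have := Yon.toId_lift (U := W) (Over.mk c)
  have : 𝒲.p.IsHomLift c (G.map (Yon.toId (Over.mk c))) := BasedFunctor.preserves_isHomLift G (Over.mk c).hom _
  obtain ⟨θ, hθ, hθr⟩ := IsFibGrpd.exists_iso_of_lifts hP c (G.map (Yon.toId (Over.mk c))) σ
  refine ⟨Fp.mk (F := G) (G := D) (Over.mk c) z θ.symm (IsHomLift.lift_id_inv 𝒲.p (𝒳.p.obj z) θ), rfl,
    𝟙 z, IsHomLift.id rfl, ?_⟩
  change D.map (𝟙 z) ≫ θ.hom ≫ G.map (Yon.toId (Over.mk c)) = σ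
  rw [D.map_id, Category.id_comp, hθr]

theorem fibPair_exists_pair (o : (_root_.FibCat.fp G D).obj) : ∃ z σ, FibPair G D o z σ :=
  ⟨o.obj.snd, _, 𝟙 _, IsHomLift.id (Fp.snd_proj o), rfl⟩

include hX in
theorem fibPair_hom_of_hom {o' o : (_root_.FibCat.fp G D).obj} {z' z : 𝒳.obj} {σ' σ} (h' : FibPair G D o' z' σ')
    (h : FibPair G D o z σ) {T' T : Over S} {g : T' ⟶ T} (χ : o' ⟶ o)
    [(_root_.FibCat.fp G D).p.IsHomLift g χ] : ∃ κ : z' ⟶ z, 𝒳.p.IsHomLift g κ ∧ D.map κ ≫ σ = σ' := by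
  obtain ⟨θ', hθ', rfl⟩ := h'
  obtain ⟨θ, hθ, rfl⟩ := h
  let hs : o'.obj.snd ⟶ o.obj.snd := χ.hom.snd
  have hw : G.map χ.hom.fst ≫ o.obj.iso.hom = o'.obj.iso.hom ≫ D.map hs := Fp.w χ
  have hχ : (_root_.FibCat.overCat W).p.IsHomLift g χ.hom.fst := (Fp.isHomLift_iff χ g).1 ‹_›
  have : 𝒳.p.IsHomLift g hs := Fp.isHomLift_snd χ g ‹_›
  obtain rfl := IsHomLift.domain_eq (_root_.FibCat.overCat W).p g χ.hom.fst
  obtain rfl := IsHomLift.codomain_eq (_root_.FibCat.overCat W).p g χ.hom.fst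
  have : 𝒳.p.IsHomLift (𝟙 ((_root_.FibCat.overCat W).p.obj o.obj.fst)) θ := hθ
  have : 𝒳.p.IsHomLift (𝟙 ((_root_.FibCat.overCat W).p.obj o'.obj.fst)) θ' := hθ'
  have := IsFibGrpd.isIso_of_isHomLift_id hX (R := (_root_.FibCat.overCat W).p.obj o.obj.fst) θ
  have : 𝒳.p.IsHomLift (𝟙 o.obj.fst.left) (inv θ) := IsHomLift.lift_id_inv_isIso _ _ _
  have : 𝒳.p.IsHomLift g (hs ≫ inv θ) := IsHomLift.comp_lift_id_right' _ g hs o.obj.fst.left (inv θ)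
  refine ⟨θ' ≫ hs ≫ inv θ, IsHomLift.comp_lift_id_left' _ o'.obj.fst.left θ' _ _, ?_⟩
  have e1 : D.map hs ≫ o.obj.iso.inv = o'.obj.iso.inv ≫ G.map χ.hom.fst := by
    rw [Iso.eq_inv_comp, ← Category.assoc, ← hw, Category.assoc, Iso.hom_inv_id, Category.comp_id]
  rw [← D.map_comp_assoc]
  simp only [Category.assoc, IsIso.inv_hom_id, Category.comp_id]
  rw [D.map_comp, Category.assoc, reassoc_of% e1, ← G.map_comp, Yon.map_comp_toId]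

include hX hP in
theorem fibPair_obj_hom_of_hom {o' o : (_root_.FibCat.fp G D).obj} {z' z : 𝒳.obj} {σ' σ} (h' : FibPair G D o' z' σ')
    (h : FibPair G D o z σ) {T' T : Over S} {g : T' ⟶ T} (κ : z' ⟶ z) [𝒳.p.IsHomLift g κ] (hr : D.map κ ≫ σ = σ') :
    ∃ χ : o' ⟶ o, (_root_.FibCat.fp G D).p.IsHomLift g χ := by
  obtain ⟨θ', hθ', rfl⟩ := h'
  obtain ⟨θ, hθ, rfl⟩ := h
  obtain rfl : o'.obj.fst.left = T' :=
    (IsHomLift.domain_eq 𝒳.p (𝟙 o'.obj.fst.left) θ').symm.trans (IsHomLift.domain_eq 𝒳.p g κ)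
  obtain rfl : o.obj.fst.left = T :=
    (IsHomLift.domain_eq 𝒳.p (𝟙 o.obj.fst.left) θ).symm.trans (IsHomLift.codomain_eq 𝒳.p g κ)
  have := IsFibGrpd.isIso_of_isHomLift_id hX (R := o'.obj.fst.left) θ'
  have : 𝒳.p.IsHomLift (𝟙 o'.obj.fst.left) (inv θ') := IsHomLift.lift_id_inv_isIso _ _ _
  let k : o'.obj.snd ⟶ o.obj.snd := inv θ' ≫ κ ≫ θ
  have hk : 𝒳.p.IsHomLift g k := by
    have : 𝒳.p.IsHomLift g (κ ≫ θ) := IsHomLift.comp_lift_id_right' _ _ _ o.obj.fst.left _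
    exact IsHomLift.comp_lift_id_left' _ o'.obj.fst.left (inv θ') _ _
  have hr' : D.map k ≫ o.obj.iso.inv ≫ G.map (Yon.toId o.obj.fst) =
      o'.obj.iso.inv ≫ G.map (Yon.toId o'.obj.fst) := by
    rw [← cancel_epi (D.map θ'), ← hr, ← D.map_comp_assoc, ← D.map_comp_assoc]
    simp [k]
  have : 𝒲.p.IsHomLift g (D.map k) := BasedFunctor.preserves_isHomLift D g k
  have hto : ∀ a : (_root_.FibCat.overCat W).obj, 𝒲.p.IsHomLift a.hom (G.map (Yon.toId a)) := fun a => by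
    have := Yon.toId_lift a
    exact BasedFunctor.preserves_isHomLift G a.hom _
  have := hto o.obj.fst
  have := hto o'.obj.fst
  have : 𝒲.p.IsHomLift (𝟙 o.obj.fst.left) o.obj.iso.inv :=
    have : 𝒲.p.IsHomLift (𝟙 o.obj.fst.left) o.obj.iso.hom := Fp.iso_lift o
    IsHomLift.lift_id_inv _ _ _
  have hi'' : 𝒲.p.IsHomLift (𝟙 o'.obj.fst.left) o'.obj.iso.hom := Fp.iso_lift o'
  have : 𝒲.p.IsHomLift (𝟙 o'.obj.fst.left) o'.obj.iso.inv := IsHomLift.lift_id_inv _ _ _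
  have h2 : 𝒲.p.IsHomLift o.obj.fst.hom (o.obj.iso.inv ≫ G.map (Yon.toId o.obj.fst)) :=
    IsHomLift.comp_lift_id_left' 𝒲.p o.obj.fst.left o.obj.iso.inv _ _
  have h3 : 𝒲.p.IsHomLift o'.obj.fst.hom (o'.obj.iso.inv ≫ G.map (Yon.toId o'.obj.fst)) :=
    IsHomLift.comp_lift_id_left' 𝒲.p o'.obj.fst.left o'.obj.iso.inv _ _
  have e1 : g ≫ o.obj.fst.hom = o'.obj.fst.hom := by
    have h1 : 𝒲.p.IsHomLift (g ≫ o.obj.fst.hom) (o'.obj.iso.inv ≫ G.map (Yon.toId o'.obj.fst)) := by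
      rw [← hr']; infer_instance
    exact eq_of_lifts 𝒲.p _ h1 h3
  let φ₁ : o'.obj.fst ⟶ o.obj.fst := Over.homMk g e1
  have hw1 : 𝒲.p.IsHomLift g (G.map φ₁) :=
    have : (_root_.FibCat.overCat W).p.IsHomLift g φ₁ := IsHomLift.map (_root_.FibCat.overCat W).p φ₁
    BasedFunctor.preserves_isHomLift G g φ₁
  have hk1 : G.map φ₁ = o'.obj.iso.hom ≫ D.map k ≫ o.obj.iso.inv := by
    have h4 : 𝒲.p.IsHomLift g (o'.obj.iso.hom ≫ D.map k ≫ o.obj.iso.inv) :=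
      have : 𝒲.p.IsHomLift g (D.map k ≫ o.obj.iso.inv) :=
        IsHomLift.comp_lift_id_right' _ g (D.map k) o.obj.fst.left _
      IsHomLift.comp_lift_id_left' _ o'.obj.fst.left o'.obj.iso.hom g _
    refine @IsFibGrpd.hom_ext _ _ _ _ _ hP _ _ _ g o.obj.fst.hom _ _ _ (G.map (Yon.toId o.obj.fst)) ‹_› _ _ hw1 h4 ?_
    rw [← G.map_comp, Yon.map_comp_toId, Category.assoc, Category.assoc, hr', Iso.hom_inv_id_assoc]
  refine ⟨Fp.homMk (F := G) (G := D) φ₁ k ?_,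
    (Fp.isHomLift_iff _ _).2 (IsHomLift.map (_root_.FibCat.overCat W).p φ₁)⟩
  rw [hk1]
  simp only [Category.assoc, Iso.inv_hom_id, Category.comp_id]

include hX hP in
/-- The representing sheaf of a fibre over a chart is a model. -/
theorem exists_fibModel (he : _root_.FibCat.IsEquivOver e) :
    Nonempty (FibModel D K (spMapOfOver (BasedFunctor.comp e (_root_.FibCat.fpFst G D))) (G.obj (Yon.idObj W))) := by
  refine ⟨⟨fun {T} m z σ => ∃ o, Rep e m o ∧ FibPair G D o z σ, ?_, ?_, ?_, ?_, ?_⟩⟩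
  · rintro T m z σ ⟨o, ⟨i, hi⟩, θ, hθ, rfl⟩
    have hT : o.obj.fst.left = T := IsHomLift.codomain_eq (_root_.FibCat.fp G D).p (𝟙 T) i.hom
    subst hT
    refine ⟨o.obj.fst.hom, ?_, ?_⟩
    · have := Yon.toId_lift o.obj.fst
      have : 𝒲.p.IsHomLift o.obj.fst.hom (G.map (Yon.toId o.obj.fst)) :=
        BasedFunctor.preserves_isHomLift G o.obj.fst.hom _
      have : 𝒲.p.IsHomLift (𝟙 o.obj.fst.left) o.obj.iso.hom := Fp.iso_lift o
      have : 𝒲.p.IsHomLift (𝟙 o.obj.fst.left) o.obj.iso.inv := IsHomLift.lift_id_inv _ _ _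
      have : 𝒲.p.IsHomLift o.obj.fst.hom (o.obj.iso.inv ≫ G.map (Yon.toId o.obj.fst)) :=
        IsHomLift.comp_lift_id_left' 𝒲.p o.obj.fst.left _ _ _
      have : 𝒲.p.IsHomLift (𝟙 o.obj.fst.left) (D.map θ) := BasedFunctor.preserves_isHomLift D _ θ
      exact IsHomLift.comp_lift_id_left' 𝒲.p o.obj.fst.left (D.map θ) _ _
    · apply (AlgSp.J S).uliftYonedaEquiv.{u + 1}.injective
      rw [GrothendieckTopology.uliftYonedaEquiv_comp, spMapOfOver_app]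
      refine congrArg ULift.up ?_
      have hl := (Fp.isHomLift_iff i.hom _).1 hi
      have hw' : i.hom.hom.fst.left ≫ o.obj.fst.hom = _ := Over.w i.hom.hom.fst
      have hlf := IsHomLift.fac' (_root_.FibCat.overCat W).p (𝟙 o.obj.fst.left) i.hom.hom.fst
      change eqToHom _ ≫ ((e.obj _).obj.fst).hom = _
      rw [← hw', show i.hom.hom.fst.left = _ from hlf]
      simp
  · intro T m
    obtain ⟨o, ho⟩ := exists_rep_obj e m
    obtain ⟨z, σ, h⟩ := fibPair_exists_pair G D o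
    exact ⟨z, σ, o, ho, h⟩
  · intro T z σ hz
    obtain ⟨o, ho, h⟩ := fibPair_exists_obj G D hP z σ hz
    obtain ⟨m, hm⟩ := exists_rep_map e he o ho
    exact ⟨m, o, hm, h⟩
  · rintro T' T m' m z' z σ' σ ⟨o', ho', h'⟩ ⟨o, ho, h⟩ g κ hκ hr
    obtain ⟨χ, hχ⟩ := fibPair_obj_hom_of_hom G D hX hP h' h (g := g) κ hr
    exact Rep.map_eq e he ho' ho χ
  · rintro T' T m' m z' z σ' σ ⟨o', ho', h'⟩ ⟨o, ho, h⟩ g hg
    obtain ⟨χ, hχ⟩ := Rep.exists_hom e ho' ho hg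
    exact fibPair_hom_of_hom G D hX h' h χ

end GrothLib.IsoNat
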