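import Groth.Agent.Lib.AlgSt.IsoNat.RepModel
import Groth.Agent.Lib.FibCat.Inertia

/-!
# Representing sheaves of the automorphisms of an object, described by their points
-/

set_option backward.isDefEq.respectTransparency false
set_option backward.isDefEq.respectTransparency.types false

universe u

open CategoryTheory CategoryTheory.Limits AlgebraicGeometry Opposite

namespace GrothLib.IsoNat

open _root_.AlgSt GrothLib.FibCat GrothLib.AlgSt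

variable {S : Scheme.{u}} {𝒴 : _root_.AlgSt.Cat S}

/-- A sheaf over `W` whose points are pullbacks of `z₁` with a vertical endomorphism. -/
structure InModel {W : Over S} (K : AlgSp.Sp S) (φ : K ⟶ (AlgSp.yon S).obj W) (z₁ : 𝒴.obj) where
  /-- A point corresponds to a pullback and an endomorphism. -/
  R : ∀ {T : Over S}, ((AlgSp.yon S).obj T ⟶ K) → ∀ ζ : 𝒴.obj, (ζ ⟶ z₁) → (ζ ⟶ ζ) → Prop
  base : ∀ {T : Over S} {m : (AlgSp.yon S).obj T ⟶ K} {ζ r α}, R m ζ r α →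
    ∃ c : T ⟶ W, 𝒴.p.IsHomLift c r ∧ m ≫ φ = (AlgSp.yon S).map c
  vert : ∀ {T : Over S} {m : (AlgSp.yon S).obj T ⟶ K} {ζ r α}, R m ζ r α → 𝒴.p.map α = 𝟙 _
  surj : ∀ {T : Over S} (m : (AlgSp.yon S).obj T ⟶ K), ∃ ζ r α, R m ζ r α
  tot : ∀ {T : Over S} (ζ : 𝒴.obj) (r : ζ ⟶ z₁) (α : ζ ⟶ ζ), 𝒴.p.obj ζ = T → 𝒴.p.map α = 𝟙 _ →
    ∃ m : (AlgSp.yon S).obj T ⟶ K, R m ζ r α
  map_eq : ∀ {T' T : Over S} {m' : (AlgSp.yon S).obj T' ⟶ K} {m : (AlgSp.yon S).obj T ⟶ K} {ζ' ζ r' α' r α},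
    R m' ζ' r' α' → R m ζ r α → ∀ (g : T' ⟶ T) (κ : ζ' ⟶ ζ), 𝒴.p.IsHomLift g κ → κ ≫ r = r' → α' ≫ κ = κ ≫ α →
      (AlgSp.yon S).map g ≫ m = m'
  exists_hom : ∀ {T' T : Over S} {m' : (AlgSp.yon S).obj T' ⟶ K} {m : (AlgSp.yon S).obj T ⟶ K} {ζ' ζ r' α' r α},
    R m' ζ' r' α' → R m ζ r α → ∀ (g : T' ⟶ T), (AlgSp.yon S).map g ≫ m = m' →
      ∃ κ : ζ' ⟶ ζ, 𝒴.p.IsHomLift g κ ∧ κ ≫ r = r' ∧ α' ≫ κ = κ ≫ α

variable {W : Over S} (G : _root_.FibCat.overCat W ⥤ᵇ 𝒴) {K : AlgSp.Sp S}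
  (e : ofSp K ⥤ᵇ _root_.FibCat.fp G (_root_.FibCat.inertiaToBase (_root_.FibCat.toSelf 𝒴)))

/-- An object of the inertia over `W` gives a pullback with an endomorphism. -/
def InPair (o : (_root_.FibCat.fp G (_root_.FibCat.inertiaToBase (_root_.FibCat.toSelf 𝒴))).obj) (ζ : 𝒴.obj)
    (r : ζ ⟶ G.obj (Yon.idObj W)) (α : ζ ⟶ ζ) : Prop :=
  ∃ θ : ζ ⟶ o.obj.snd.pt, 𝒴.p.IsHomLift (𝟙 o.obj.fst.left) θ ∧
    θ ≫ o.obj.iso.inv ≫ G.map (Yon.toId o.obj.fst) = r ∧ α ≫ θ = θ ≫ o.obj.snd.aut.hom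

variable (hG : _root_.FibCat.IsFibGrpd 𝒴.p)
include hG

theorem inPair_exists_obj {T : Over S} (ζ : 𝒴.obj) (r : ζ ⟶ G.obj (Yon.idObj W)) (α : ζ ⟶ ζ)
    (hζ : 𝒴.p.obj ζ = T) (hα : 𝒴.p.map α = 𝟙 _) :
    ∃ o, (_root_.FibCat.fp G (_root_.FibCat.inertiaToBase (_root_.FibCat.toSelf 𝒴))).p.obj o = T ∧
      InPair G o ζ r α := by
  subst hζ
  let c : 𝒴.p.obj ζ ⟶ W := 𝒴.p.map r ≫ eqToHom (G.w_obj _)
  have hc : 𝒴.p.IsHomLift c r := IsHomLift.of_fac 𝒴.p _ _ rfl (G.w_obj _) (by simp [c])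
  have := Yon.toId_lift (U := W) (Over.mk c)
  have : 𝒴.p.IsHomLift c (G.map (Yon.toId (Over.mk c))) := BasedFunctor.preserves_isHomLift G (Over.mk c).hom _
  obtain ⟨θ, hθ, hθr⟩ := IsFibGrpd.exists_iso_of_lifts hG c (G.map (Yon.toId (Over.mk c))) r
  have : IsIso α := (IsFibGrpd.isIso_iff hG α).2 (by rw [hα]; infer_instance)
  let s : (_root_.FibCat.inertia (_root_.FibCat.toSelf 𝒴)).obj := ⟨ζ, asIso α, hα⟩
  refine ⟨Fp.mk (F := G) (G := _root_.FibCat.inertiaToBase (_root_.FibCat.toSelf 𝒴)) (Over.mk c) s θ.symm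
    (IsHomLift.lift_id_inv 𝒴.p (𝒴.p.obj ζ) θ), rfl, 𝟙 ζ, IsHomLift.id rfl, ?_, ?_⟩
  · change 𝟙 ζ ≫ θ.hom ≫ G.map (Yon.toId (Over.mk c)) = r
    rw [Category.id_comp, hθr]
  · change α ≫ 𝟙 ζ = 𝟙 ζ ≫ α
    rw [Category.comp_id, Category.id_comp]

omit hG in
theorem inPair_exists_pair (o : (_root_.FibCat.fp G (_root_.FibCat.inertiaToBase (_root_.FibCat.toSelf 𝒴))).obj) :
    ∃ ζ r α, InPair G o ζ r α := by
  have h1 : 𝒴.p.IsHomLift (𝟙 o.obj.fst.left) o.obj.iso.hom := Fp.iso_lift o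
  exact ⟨_, _, o.obj.snd.aut.hom, 𝟙 _, IsHomLift.id (IsHomLift.codomain_eq 𝒴.p (𝟙 o.obj.fst.left) o.obj.iso.hom), rfl,
    (Category.comp_id _).trans (Category.id_comp _).symm⟩

theorem inPair_hom_of_hom {o' o : (_root_.FibCat.fp G (_root_.FibCat.inertiaToBase (_root_.FibCat.toSelf 𝒴))).obj}
    {ζ' ζ : 𝒴.obj} {r' α' r α} (h' : InPair G o' ζ' r' α') (h : InPair G o ζ r α) {T' T : Over S} {g : T' ⟶ T}
    (χ : o' ⟶ o) [(_root_.FibCat.fp G (_root_.FibCat.inertiaToBase (_root_.FibCat.toSelf 𝒴))).p.IsHomLift g χ] :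
    ∃ κ : ζ' ⟶ ζ, 𝒴.p.IsHomLift g κ ∧ κ ≫ r = r' ∧ α' ≫ κ = κ ≫ α := by
  obtain ⟨θ', hθ', rfl, hα'⟩ := h'
  obtain ⟨θ, hθ, rfl, hα⟩ := h
  let hs : o'.obj.snd.pt ⟶ o.obj.snd.pt := χ.hom.snd.hom
  have hcomm : o'.obj.snd.aut.hom ≫ hs = hs ≫ o.obj.snd.aut.hom := χ.hom.snd.comm
  have hw : G.map χ.hom.fst ≫ o.obj.iso.hom = o'.obj.iso.hom ≫ hs := Fp.w χ
  have hχ : (_root_.FibCat.overCat W).p.IsHomLift g χ.hom.fst := (Fp.isHomLift_iff χ g).1 ‹_›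
  obtain rfl := IsHomLift.domain_eq (_root_.FibCat.overCat W).p g χ.hom.fst
  obtain rfl := IsHomLift.codomain_eq (_root_.FibCat.overCat W).p g χ.hom.fst
  have : 𝒴.p.IsHomLift (𝟙 ((_root_.FibCat.overCat W).p.obj o.obj.fst)) θ := hθ
  have : 𝒴.p.IsHomLift (𝟙 ((_root_.FibCat.overCat W).p.obj o'.obj.fst)) θ' := hθ'
  have := IsFibGrpd.isIso_of_isHomLift_id hG (R := (_root_.FibCat.overCat W).p.obj o.obj.fst) θ
  have : 𝒴.p.IsHomLift g (G.map χ.hom.fst) := BasedFunctor.preserves_isHomLift G g _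
  have hoi : 𝒴.p.IsHomLift (𝟙 o.obj.fst.left) o.obj.iso.hom := Fp.iso_lift o
  have hoi' : 𝒴.p.IsHomLift (𝟙 o'.obj.fst.left) o'.obj.iso.inv :=
    have : 𝒴.p.IsHomLift (𝟙 o'.obj.fst.left) o'.obj.iso.hom := Fp.iso_lift o'
    IsHomLift.lift_id_inv _ _ _
  have hse : hs = o'.obj.iso.inv ≫ G.map χ.hom.fst ≫ o.obj.iso.hom := by
    rw [Iso.eq_inv_comp]; exact hw.symm
  have : 𝒴.p.IsHomLift g hs := by
    rw [hse]
    have : 𝒴.p.IsHomLift g (G.map χ.hom.fst ≫ o.obj.iso.hom) :=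
      IsHomLift.comp_lift_id_right' _ g (G.map χ.hom.fst) o.obj.fst.left o.obj.iso.hom
    exact IsHomLift.comp_lift_id_left' _ o'.obj.fst.left o'.obj.iso.inv g _
  have : 𝒴.p.IsHomLift (𝟙 o.obj.fst.left) (inv θ) := IsHomLift.lift_id_inv_isIso _ _ _
  have : 𝒴.p.IsHomLift g (hs ≫ inv θ) := IsHomLift.comp_lift_id_right' _ g hs o.obj.fst.left (inv θ)
  refine ⟨θ' ≫ hs ≫ inv θ, IsHomLift.comp_lift_id_left' _ o'.obj.fst.left θ' _ _, ?_, ?_⟩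
  · have e1 : hs ≫ o.obj.iso.inv = o'.obj.iso.inv ≫ G.map χ.hom.fst := by
      rw [hse]; simp only [Category.assoc, Iso.hom_inv_id, Category.comp_id]
    simp only [Category.assoc, IsIso.inv_hom_id_assoc]
    rw [reassoc_of% e1, ← G.map_comp, Yon.map_comp_toId]
  · rw [reassoc_of% hα', reassoc_of% hcomm]
    simp only [Category.assoc]
    congr 2
    rw [IsIso.eq_inv_comp, ← Category.assoc, ← hα, Category.assoc, IsIso.hom_inv_id, Category.comp_id]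

theorem inPair_obj_hom_of_hom {o' o : (_root_.FibCat.fp G (_root_.FibCat.inertiaToBase (_root_.FibCat.toSelf 𝒴))).obj}
    {ζ' ζ : 𝒴.obj} {r' α' r α} (h' : InPair G o' ζ' r' α') (h : InPair G o ζ r α) {T' T : Over S} {g : T' ⟶ T}
    (κ : ζ' ⟶ ζ) [𝒴.p.IsHomLift g κ] (hr : κ ≫ r = r') (hκ : α' ≫ κ = κ ≫ α) :
    ∃ χ : o' ⟶ o,
      (_root_.FibCat.fp G (_root_.FibCat.inertiaToBase (_root_.FibCat.toSelf 𝒴))).p.IsHomLift g χ := by
  obtain ⟨θ', hθ', rfl, hα'⟩ := h'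
  obtain ⟨θ, hθ, rfl, hα⟩ := h
  obtain rfl : o'.obj.fst.left = T' :=
    (IsHomLift.domain_eq 𝒴.p (𝟙 o'.obj.fst.left) θ').symm.trans (IsHomLift.domain_eq 𝒴.p g κ)
  obtain rfl : o.obj.fst.left = T :=
    (IsHomLift.domain_eq 𝒴.p (𝟙 o.obj.fst.left) θ).symm.trans (IsHomLift.codomain_eq 𝒴.p g κ)
  have := IsFibGrpd.isIso_of_isHomLift_id hG (R := o'.obj.fst.left) θ'
  have : 𝒴.p.IsHomLift (𝟙 o'.obj.fst.left) (inv θ') := IsHomLift.lift_id_inv_isIso _ _ _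
  let k : o'.obj.snd.pt ⟶ o.obj.snd.pt := inv θ' ≫ κ ≫ θ
  have hk : 𝒴.p.IsHomLift g k := by
    have : 𝒴.p.IsHomLift g (κ ≫ θ) := IsHomLift.comp_lift_id_right' _ _ _ o.obj.fst.left _
    exact IsHomLift.comp_lift_id_left' _ o'.obj.fst.left (inv θ') _ _
  have hr' : k ≫ o.obj.iso.inv ≫ G.map (Yon.toId o.obj.fst) =
      o'.obj.iso.inv ≫ G.map (Yon.toId o'.obj.fst) := by
    simp only [k, Category.assoc, IsIso.inv_comp_eq]
    exact hr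
  have hkc : o'.obj.snd.aut.hom ≫ k = k ≫ o.obj.snd.aut.hom := by
    simp only [k, Category.assoc, IsIso.eq_inv_comp]
    rw [← reassoc_of% hα', IsIso.hom_inv_id_assoc, reassoc_of% hκ, hα]
  have hto : ∀ a : (_root_.FibCat.overCat W).obj, 𝒴.p.IsHomLift a.hom (G.map (Yon.toId a)) := fun a => by
    have := Yon.toId_lift a
    exact BasedFunctor.preserves_isHomLift G a.hom _
  have := hto o.obj.fst
  have := hto o'.obj.fst
  have hi : 𝒴.p.IsHomLift (𝟙 o.obj.fst.left) o.obj.iso.inv :=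
    have : 𝒴.p.IsHomLift (𝟙 o.obj.fst.left) o.obj.iso.hom := Fp.iso_lift o
    IsHomLift.lift_id_inv _ _ _
  have hi'' : 𝒴.p.IsHomLift (𝟙 o'.obj.fst.left) o'.obj.iso.hom := Fp.iso_lift o'
  have hi' : 𝒴.p.IsHomLift (𝟙 o'.obj.fst.left) o'.obj.iso.inv := IsHomLift.lift_id_inv _ _ _
  have h2 : 𝒴.p.IsHomLift o.obj.fst.hom (o.obj.iso.inv ≫ G.map (Yon.toId o.obj.fst)) :=
    IsHomLift.comp_lift_id_left' 𝒴.p o.obj.fst.left o.obj.iso.inv _ _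
  have h3 : 𝒴.p.IsHomLift o'.obj.fst.hom (o'.obj.iso.inv ≫ G.map (Yon.toId o'.obj.fst)) :=
    IsHomLift.comp_lift_id_left' 𝒴.p o'.obj.fst.left o'.obj.iso.inv _ _
  have e1 : g ≫ o.obj.fst.hom = o'.obj.fst.hom := by
    have h1 : 𝒴.p.IsHomLift (g ≫ o.obj.fst.hom) (o'.obj.iso.inv ≫ G.map (Yon.toId o'.obj.fst)) := by
      rw [← hr']; infer_instance
    exact eq_of_lifts 𝒴.p _ h1 h3
  let φ₁ : o'.obj.fst ⟶ o.obj.fst := Over.homMk g e1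
  have hw1 : 𝒴.p.IsHomLift g (G.map φ₁) :=
    have : (_root_.FibCat.overCat W).p.IsHomLift g φ₁ := IsHomLift.map (_root_.FibCat.overCat W).p φ₁
    BasedFunctor.preserves_isHomLift G g φ₁
  have hk1 : G.map φ₁ = o'.obj.iso.hom ≫ k ≫ o.obj.iso.inv := by
    have h4 : 𝒴.p.IsHomLift g (o'.obj.iso.hom ≫ k ≫ o.obj.iso.inv) :=
      have : 𝒴.p.IsHomLift g (k ≫ o.obj.iso.inv) := IsHomLift.comp_lift_id_right' _ g k o.obj.fst.left _
      IsHomLift.comp_lift_id_left' _ o'.obj.fst.left o'.obj.iso.hom g _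
    refine @IsFibGrpd.hom_ext _ _ _ _ _ hG _ _ _ g o.obj.fst.hom _ _ _ (G.map (Yon.toId o.obj.fst)) ‹_› _ _ hw1 h4 ?_
    rw [← G.map_comp, Yon.map_comp_toId, Category.assoc, Category.assoc, hr', Iso.hom_inv_id_assoc]
  refine ⟨Fp.homMk (F := G) (G := _root_.FibCat.inertiaToBase (_root_.FibCat.toSelf 𝒴)) φ₁ ⟨k, hkc⟩ ?_,
    (Fp.isHomLift_iff _ _).2 (IsHomLift.map (_root_.FibCat.overCat W).p φ₁)⟩
  change G.map φ₁ ≫ o.obj.iso.hom = o'.obj.iso.hom ≫ k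
  rw [hk1]
  simp only [Category.assoc, Iso.inv_hom_id, Category.comp_id]

/-- The representing sheaf of the inertia over a chart is a model. -/
theorem exists_inModel (he : _root_.FibCat.IsEquivOver e) :
    Nonempty (InModel K
      (spMapOfOver (BasedFunctor.comp e (_root_.FibCat.fpFst G (_root_.FibCat.inertiaToBase (_root_.FibCat.toSelf 𝒴)))))
      (G.obj (Yon.idObj W))) := by
  refine ⟨⟨fun {T} m ζ r α => ∃ o, Rep e m o ∧ InPair G o ζ r α, ?_, ?_, ?_, ?_, ?_, ?_⟩⟩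
  · rintro T m ζ r α ⟨o, ⟨i, hi⟩, θ, hθ, rfl, -⟩
    have hT : o.obj.fst.left = T :=
      IsHomLift.codomain_eq (_root_.FibCat.fp G (_root_.FibCat.inertiaToBase (_root_.FibCat.toSelf 𝒴))).p (𝟙 T) i.hom
    subst hT
    refine ⟨o.obj.fst.hom, ?_, ?_⟩
    · have := Yon.toId_lift o.obj.fst
      have : 𝒴.p.IsHomLift o.obj.fst.hom (G.map (Yon.toId o.obj.fst)) :=
        BasedFunctor.preserves_isHomLift G o.obj.fst.hom _
      have : 𝒴.p.IsHomLift (𝟙 o.obj.fst.left) o.obj.iso.hom := Fp.iso_lift o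
      have : 𝒴.p.IsHomLift (𝟙 o.obj.fst.left) o.obj.iso.inv := IsHomLift.lift_id_inv _ _ _
      have : 𝒴.p.IsHomLift o.obj.fst.hom (o.obj.iso.inv ≫ G.map (Yon.toId o.obj.fst)) :=
        IsHomLift.comp_lift_id_left' 𝒴.p o.obj.fst.left _ _ _
      exact IsHomLift.comp_lift_id_left' 𝒴.p o.obj.fst.left θ _ _
    · apply (AlgSp.J S).uliftYonedaEquiv.{u + 1}.injective
      rw [GrothendieckTopology.uliftYonedaEquiv_comp, spMapOfOver_app]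
      refine congrArg ULift.up ?_
      have hl := (Fp.isHomLift_iff i.hom _).1 hi
      have hw' : i.hom.hom.fst.left ≫ o.obj.fst.hom = _ := Over.w i.hom.hom.fst
      have hlf := IsHomLift.fac' (_root_.FibCat.overCat W).p (𝟙 o.obj.fst.left) i.hom.hom.fst
      change eqToHom _ ≫ ((e.obj _).obj.fst).hom = _
      rw [← hw', show i.hom.hom.fst.left = _ from hlf]
      simp
  · rintro T m ζ r α ⟨o, -, θ, hθ, -, hα⟩
    have := IsFibGrpd.isIso_of_isHomLift_id hG (R := o.obj.fst.left) θ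
    have hm : 𝒴.p.map o.obj.snd.aut.hom = 𝟙 _ := o.obj.snd.map_aut
    have h2 := congrArg 𝒴.p.map hα
    rw [𝒴.p.map_comp, 𝒴.p.map_comp, hm, Category.comp_id] at h2
    exact (cancel_mono (𝒴.p.map θ)).1 (h2.trans (Category.id_comp _).symm)
  · intro T m
    obtain ⟨o, ho⟩ := exists_rep_obj e m
    obtain ⟨ζ, r, α, h⟩ := inPair_exists_pair G o
    exact ⟨ζ, r, α, o, ho, h⟩
  · intro T ζ r α hζ hα
    obtain ⟨o, ho, h⟩ := inPair_exists_obj G hG ζ r α hζ hα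
    obtain ⟨m, hm⟩ := exists_rep_map e he o ho
    exact ⟨m, o, hm, h⟩
  · rintro T' T m' m ζ' ζ r' α' r α ⟨o', ho', h'⟩ ⟨o, ho, h⟩ g κ hκ hr hc
    obtain ⟨χ, hχ⟩ := inPair_obj_hom_of_hom G hG h' h (g := g) κ hr hc
    exact Rep.map_eq e he ho' ho χ
  · rintro T' T m' m ζ' ζ r' α' r α ⟨o', ho', h'⟩ ⟨o, ho, h⟩ g hg
    obtain ⟨χ, hχ⟩ := Rep.exists_hom e ho' ho hg
    exact inPair_hom_of_hom G hG h' h χ

end GrothLib.IsoNat
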