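import Groth.Agent.Lib.AlgSt.IsoNat.Detect
import Groth.Agent.Lib.AlgSt.IsoNat.Lfp
import Groth.Agent.Lib.AlgSt.Diag
import Groth.Agent.S10623
import Groth.Agent.S1488

/-!
# Smooth, unramified and etale morphisms from schemes read on isomorphism classes
-/

set_option backward.isDefEq.respectTransparency false
set_option backward.isDefEq.respectTransparency.types false

universe u

open CategoryTheory CategoryTheory.Limits AlgebraicGeometry Opposite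

namespace GrothLib.IsoNat

open _root_.AlgSt GrothLib.FibCat GrothLib.AlgSt GrothLib.AlgSp GrothLib.Axes

variable {S : Scheme.{u}} {𝒳 𝒴 : _root_.AlgSt.Cat S}

theorem fs_of_locP_smooth {X Y : AlgSp.Sp S} {f : X ⟶ Y} (hX : AlgSp.IsAlgSpace X) (hY : AlgSp.IsAlgSpace Y)
    (h : AlgSp.LocP @Smooth f) : AlgSp.IsFormallySmoothMor f := by
  obtain ⟨V, b, hb, hb'⟩ := hY.atlas
  obtain ⟨U, a, g, ha, w, hs⟩ := GrothLib.AlgSp.exists_chart_over hX hY f b hb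
  exact Groth.Agent.S10623.fs_of_chart' hX hY ha (hs hb') hb w ((Groth.Agent.S1488.result _).1 (h a b g ha hb w)).2

theorem corr_of_objCls {φ : _root_.IsoNat.FIso 𝒳 𝒴} {U : Over S} {x : _root_.FibCat.overCat U ⥤ᵇ 𝒳}
    {y : _root_.FibCat.overCat U ⥤ᵇ 𝒴} (hxy : φ.toEquiv U (_root_.IsoNat.objCls x) = _root_.IsoNat.objCls y) :
    Corr φ U (x.obj (Yon.idObj U)) (y.obj (Yon.idObj U)) :=
  ⟨x.w_obj (Over.mk (𝟙 U)), y.w_obj (Over.mk (𝟙 U)), hxy⟩

variable (hst : _root_.Stk.IsStack (AlgSp.J S) 𝒳) (hst' : _root_.Stk.IsStack (AlgSp.J S) 𝒴)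
  {φ : _root_.IsoNat.FIso 𝒳 𝒴} {U : Over S} {x : _root_.FibCat.overCat U ⥤ᵇ 𝒳} {y : _root_.FibCat.overCat U ⥤ᵇ 𝒴}
  (hxy : φ.toEquiv U (_root_.IsoNat.objCls x) = _root_.IsoNat.objCls y)

include hst hst' hxy

theorem repByAlgSpWith_lfp_of_corr (h1 : RepByAlgSp1 y)
    (hI : RepByAlgSpWith (AlgSp.LocP @LocallyOfFinitePresentation)
      (_root_.FibCat.inertiaToBase (_root_.FibCat.toSelf 𝒴)))
    (hx : RepByAlgSpWith (AlgSp.LocP @LocallyOfFinitePresentation) x) :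
    RepByAlgSpWith (AlgSp.LocP @LocallyOfFinitePresentation) y := by
  intro V w
  obtain ⟨F, e, he, -⟩ := (repByAlgSpWith_top_iff.2 h1) V w
  obtain ⟨M⟩ := exists_model w y e hst'.1 he
  exact ⟨F, e, he, locP_lfp_model hst'.1 hst hst' hI x hx (corr_of_objCls hxy) F.property (w.w_obj _) M⟩

/-- Data of the parts of a chart over affine opens. -/
theorem exists_part {V W : Over S} {F : AlgSp.Sp S} {φF : F ⟶ (AlgSp.yon S).obj V} {w₀ : 𝒴.obj}
    (M : Model F φF w₀ (y.obj (Yon.idObj U))) (a : (AlgSp.yon S).obj W ⟶ F) (ha : AlgSp.RepWith @Etale a)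
    (h : W ⟶ V) (hh : a ≫ φF = (AlgSp.yon S).map h) {P : 𝒴.obj → Prop}
    (hP : ∀ (O : Over S) (i : O ⟶ U), IsAffine O.left → IsOpenImmersion i.left → ∀ (x' : 𝒳.obj) (y' : 𝒴.obj)
      (ρ : x' ⟶ x.obj (Yon.idObj U)), 𝒳.p.IsHomLift i ρ → Corr φ O x' y' → P y') (p : ↥W.left) :
    ∃ (Q O : Over S) (q : Q ⟶ W) (qP : Q ⟶ O) (i : O ⟶ U) (bW : W ⟶ U) (y' : 𝒴.obj) (ρ : y' ⟶ y.obj (Yon.idObj U))
      (zW : 𝒴.obj) (vW : zW ⟶ w₀) (uW : zW ⟶ y.obj (Yon.idObj U)),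
      IsOpenImmersion q.left ∧ p ∈ Set.range q.left ∧ qP ≫ i = q ≫ bW ∧ M.R a zW vW uW ∧
        𝒴.p.IsHomLift i ρ ∧ 𝒴.p.IsHomLift bW uW ∧ P y' := by
  obtain ⟨zW, vW, uW, hR⟩ := M.surj a
  have hzW : 𝒴.p.obj zW = W := M.obj_eq hR
  have hyU : 𝒴.p.obj (y.obj (Yon.idObj U)) = U := y.w_obj _
  let bW : W ⟶ U := eqToHom hzW.symm ≫ 𝒴.p.map uW ≫ eqToHom hyU
  have hbW : 𝒴.p.IsHomLift bW uW := IsHomLift.of_fac 𝒴.p _ _ hzW hyU rfl
  obtain ⟨_, ⟨O₀, hO₀, rfl⟩, hpO, -⟩ :=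
    U.left.isBasis_affineOpens.exists_subset_of_mem_open (Set.mem_univ (bW.left p)) isOpen_univ
  let O₀' : U.left.Opens := O₀
  let O : Over S := Over.mk (O₀'.ι ≫ U.hom)
  let i : O ⟶ U := Over.homMk O₀'.ι rfl
  let Q : Over S := Over.mk ((bW.left ⁻¹ᵁ O₀').ι ≫ W.hom)
  let q : Q ⟶ W := Over.homMk (bW.left ⁻¹ᵁ O₀').ι rfl
  let qP : Q ⟶ O := Over.homMk (bW.left ∣_ O₀') (by
    change (bW.left ∣_ O₀') ≫ O₀'.ι ≫ U.hom = _
    rw [morphismRestrict_ι_assoc, Over.w bW]; rfl)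
  obtain ⟨y', ρ, hρ⟩ := IsFibGrpd.exists_lift_of_eq hst'.1 hyU i
  obtain ⟨x', ρ', hρ', hc'⟩ := exists_corr_restrict hst hst' (corr_of_objCls hxy) ρ hρ
  refine ⟨Q, O, q, qP, i, bW, y', ρ, zW, vW, uW, (inferInstance : IsOpenImmersion (bW.left ⁻¹ᵁ O₀').ι), ?_,
    Over.OverMorphism.ext (morphismRestrict_ι _ _), hR, hρ, hbW,
    hP O i hO₀ (inferInstance : IsOpenImmersion O₀'.ι) x' y' ρ' hρ' hc'⟩
  exact ⟨⟨p, hpO⟩, rfl⟩

theorem repByAlgSpWith_smooth_of_corr (h1 : RepByAlgSp1 y)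
    (hd' : RepByAlgSpWith AlgSp.IsSeparatedMor (_root_.FibCat.diag (_root_.FibCat.toSelf 𝒴)))
    (hl : RepByAlgSpWith (AlgSp.LocP @LocallyOfFinitePresentation) y)
    (hx : RepByAlgSpWith AlgSp.IsFormallySmoothMor x) : RepByAlgSpWith (AlgSp.LocP @Smooth) y := by
  intro V w
  obtain ⟨F, e, he, hFl⟩ := hl V w
  obtain ⟨M⟩ := exists_model w y e hst'.1 he
  obtain ⟨W, a, ha, has⟩ := F.property.atlas
  obtain ⟨h, hh⟩ := (AlgSp.yon S).map_surjective (a ≫ spMapOfOver (BasedFunctor.comp e (_root_.FibCat.fpFst w y)))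
  have hlfp : LocallyOfFinitePresentation h.left := hFl a (𝟙 _) h ha (_root_.AlgSp.repWith_id _ V)
    (by rw [Category.comp_id, hh])
  refine ⟨F, e, he, EtLocal.smooth.locP_of_chart ha has (_root_.AlgSp.repWith_id _ V) (by rw [Category.comp_id, hh]) ?_⟩
  choose Q O q qP i bW y' ρ zW vW uW hq hp hqP hR hρ hbW hy using
    exists_part (hxy := hxy) hst hst' M a ha h hh.symm (P := Lifts) (fun O i hO hi x' y' ρ hρ hc =>
      lifts_of_corr hst hst' hd' hc (lifts_restrict hst.1 ρ hρ (lifts_of_rep hst.1 x hx)))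
  rw [IsZariskiLocalAtSource.iff_of_iSup_eq_top (P := @Smooth) (fun p => (q p).left.opensRange)
    (top_le_iff.1 fun p _ => TopologicalSpace.Opens.mem_iSup.2 ⟨p, hp p⟩)]
  intro p
  have := hq p
  have hfs := (fs_yon_map_iff _).1 (fs_chart hst'.1 M a ha h hh.symm (hR p) (ρ p) (hρ p) (hbW p) (q p) (qP p)
    (hqP p) (hy p) _ rfl)
  rw [← MorphismProperty.cancel_left_of_respectsIso @Smooth (q p).left.isoOpensRange.hom, ← Category.assoc,
    Scheme.Hom.isoOpensRange_hom_ι, Groth.Agent.S1488.result]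
  exact ⟨inferInstance, hfs⟩

theorem repByAlgSpWith_fu_of_corr (hd : RepByAlgSpWith AlgSp.IsSeparatedMor (_root_.FibCat.diag (_root_.FibCat.toSelf 𝒳)))
    (hd' : RepByAlgSpWith AlgSp.IsSeparatedMor (_root_.FibCat.diag (_root_.FibCat.toSelf 𝒴)))
    (hl : RepByAlgSpWith (AlgSp.LocP @LocallyOfFinitePresentation) y)
    (hx : RepByAlgSpWith AlgSp.IsFormallyUnramifiedMor x) :
    RepByAlgSpWith (AlgSp.LocP (@LocallyOfFiniteType ⊓ @FormallyUnramified)) y := by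
  intro V w
  obtain ⟨F, e, he, hFl⟩ := hl V w
  obtain ⟨M⟩ := exists_model w y e hst'.1 he
  obtain ⟨W, a, ha, has⟩ := F.property.atlas
  obtain ⟨h, hh⟩ := (AlgSp.yon S).map_surjective (a ≫ spMapOfOver (BasedFunctor.comp e (_root_.FibCat.fpFst w y)))
  have hlfp : LocallyOfFinitePresentation h.left := hFl a (𝟙 _) h ha (_root_.AlgSp.repWith_id _ V)
    (by rw [Category.comp_id, hh])
  refine ⟨F, e, he, (EtLocal.lft.inf EtLocal.formallyUnramified).locP_of_chart ha has (_root_.AlgSp.repWith_id _ V)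
    (by rw [Category.comp_id, hh]) ⟨inferInstance, ?_⟩⟩
  choose Q O q qP i bW y' ρ zW vW uW hq hp hqP hR hρ hbW hy using
    exists_part (hxy := hxy) hst hst' M a ha h hh.symm (P := Uniq) (fun O i hO hi x' y' ρ hρ hc => by
      obtain ⟨hu, hk⟩ := (uniq_iff hst.1 x').1 (uniq_restrict hst.1 ρ hρ (uniq_of_rep hst.1 x hx))
      exact (uniq_iff hst'.1 y').2 ⟨uniqBase_of_corr hst hst' hd hd' hc hu, kerTriv_of_corr hst hst' hd hd' hc hk⟩)
  rw [IsZariskiLocalAtSource.iff_of_iSup_eq_top (P := @FormallyUnramified) (fun p => (q p).left.opensRange)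
    (top_le_iff.1 fun p _ => TopologicalSpace.Opens.mem_iSup.2 ⟨p, hp p⟩)]
  intro p
  have := hq p
  have hfu := (fu_yon_map_iff _).1 (fu_chart hst'.1 M a ha h hh.symm (hR p) (ρ p) (hρ p) (hbW p) (q p) (qP p)
    (hqP p) (hy p) _ rfl)
  rw [← MorphismProperty.cancel_left_of_respectsIso @FormallyUnramified (q p).left.isoOpensRange.hom, ← Category.assoc,
    Scheme.Hom.isoOpensRange_hom_ι]
  exact hfu

end GrothLib.IsoNat
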