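import Groth.Agent.Lib.Stk.Neutral
import Groth.Agent.Lib.AlgSt.IsoNat.KerTriv
import Groth.Agent.Lib.QuotSt.Triv

/-!
# Classifying stacks of commutative groups and isomorphism classes
-/

set_option backward.isDefEq.respectTransparency false
set_option backward.isDefEq.respectTransparency.types false

universe u

open CategoryTheory CategoryTheory.Limits AlgebraicGeometry MonoidalCategory CartesianMonoidalCategory MonObj Opposite

namespace GrothLib.IsoNat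

open _root_.AlgSt GrothLib.FibCat GrothLib.AlgSt GrothLib.Axes GrothLib.Stk

variable {S : Scheme.{u}} {𝒳 𝒴 : _root_.AlgSt.Cat S} {φ : _root_.IsoNat.FIso 𝒳 𝒴}

/-- Matched automorphisms pull back. -/
theorem match_bc (hst : _root_.Stk.IsStack (AlgSp.J S) 𝒳) (hst' : _root_.Stk.IsStack (AlgSp.J S) 𝒴)
    {T T' : Over S} {g : T' ⟶ T} {x x' : 𝒳.obj} {y y' : 𝒴.obj} {s : x ⟶ x} {t : y ⟶ y} {s' : x' ⟶ x'}
    {t' : y' ⟶ y'} (m : Match φ T x y s t) (r : x' ⟶ x) (hr : 𝒳.p.IsHomLift g r) (r' : y' ⟶ y)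
    (hr' : 𝒴.p.IsHomLift g r') (hs : 𝒳.p.map s' = 𝟙 _) (ht : 𝒴.p.map t' = 𝟙 _) (es : s' ≫ r = r ≫ s)
    (et : t' ≫ r' = r' ≫ t) : Match φ T' x' y' s' t' := by
  have hG := hst.1
  have hG' := hst'.1
  obtain ⟨X, Y, C, hA, hB, H, K⟩ := m
  obtain ⟨X', ξ, hξ⟩ := IsFibGrpd.exists_lift_of_eq hG hA.lies (bc g (D₀.{u} (Fin 2)))
  obtain ⟨Y', C'⟩ := Corr.exists_right φ (IsHomLift.domain_eq 𝒳.p (bc g (D₀.{u} (Fin 2))) ξ)
  obtain ⟨ν, hν⟩ := C'.transfer C _ ξ hξ
  refine ⟨X', Y', C', adm_bc hG r hr ξ hξ hA, adm_bc hG' r' hr' ν hν hB, hol_bc hG r hr ξ hξ H ?_ ?_,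
    hol_bc hG' r' hr' ν hν K ?_ ?_⟩
  · intro i; fin_cases i <;> simp [hs]
  · intro i; fin_cases i <;> simp [es]
  · intro i; fin_cases i <;> simp [ht]
  · intro i; fin_cases i <;> simp [et]

/-- Pullbacks of an object over the base scheme. -/
theorem exists_base (hG : _root_.FibCat.IsFibGrpd 𝒴.p) (y₀ : 𝒴.obj) (hy₀ : 𝒴.p.obj y₀ = 𝟙_ (Over S)) :
    ∃ (B : Neutral.Base 𝒴) (σ : ∀ V, B.obj V ⟶ y₀), ∀ V, 𝒴.p.IsHomLift (toUnit V) (σ V) := by
  choose o σ hσ using fun V : Over S => IsFibGrpd.exists_lift_of_eq hG hy₀ (toUnit V)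
  have hm : ∀ {W V : Over S} (r : W ⟶ V), ∃! m : o W ⟶ o V, 𝒴.p.IsHomLift r m ∧ m ≫ σ V = σ W := fun {W V} r => by
    have := hσ V
    have := hσ W
    have : 𝒴.p.IsHomLift (r ≫ toUnit V) (σ W) := by rw [toUnit_unique (r ≫ toUnit V) (toUnit W)]; infer_instance
    exact IsFibGrpd.existsUnique_lift hG (toUnit V) r (σ V) (σ W)
  choose m hm hu using @hm
  refine ⟨⟨o, m, fun r => (hm r).1, fun V => (hu (𝟙 V) _ ⟨IsHomLift.id (IsHomLift.domain_eq 𝒴.p (toUnit V) (σ V)),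
    Category.id_comp _⟩).symm, fun {U W V} s r => (hu (s ≫ r) _ ⟨?_, ?_⟩).symm⟩, σ, hσ⟩
  · have := (hm s).1
    have := (hm r).1
    infer_instance
  · rw [Category.assoc, (hm r).2, (hm s).2]

section BG

variable {G : Over S} [GrpObj G]

/-- The only point of the base over `V`. -/
noncomputable abbrev bgPt (V : Over S) : (_root_.AlgSt.ofSch (𝟙_ (Over S))).obj := ⟨V, ⟨toUnit V⟩⟩

/-- The morphisms of the points of the base. -/
noncomputable abbrev bgPtMap {W V : Over S} (r : W ⟶ V) : bgPt W ⟶ bgPt V :=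
  ⟨r, congrArg ULift.up (toUnit_unique _ _)⟩

/-- The trivial torsors. -/
noncomputable def bgBase (G : Over S) [GrpObj G] : Neutral.Base (_root_.AlgSt.BG Scheme.fppfPrecoverage G) where
  obj V := (_root_.AlgSt.quotMap Scheme.fppfPrecoverage G (trivAction G)).obj (bgPt V)
  map {W V} r := (_root_.AlgSt.quotMap Scheme.fppfPrecoverage G (trivAction G)).map (bgPtMap r)
  lift {W V} r := IsHomLift.map (_root_.AlgSt.BG Scheme.fppfPrecoverage G).p
    ((_root_.AlgSt.quotMap Scheme.fppfPrecoverage G (trivAction G)).map (bgPtMap r))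
  map_id V := (_root_.AlgSt.quotMap Scheme.fppfPrecoverage G (trivAction G)).map_id (bgPt V)
  map_comp {U W V} s r :=
    (_root_.AlgSt.quotMap Scheme.fppfPrecoverage G (trivAction G)).map_comp (bgPtMap s) (bgPtMap r)

theorem vertComm_bgBase [IsCommMonObj G] (V : Over S) : VertComm ((bgBase G).obj V) := by
  intro a b ha hb
  let o : (_root_.AlgSt.ofSch (𝟙_ (Over S))).obj := bgPt V
  change (_root_.AlgSt.quotMap Scheme.fppfPrecoverage G (trivAction G)).obj o ⟶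
    (_root_.AlgSt.quotMap Scheme.fppfPrecoverage G (trivAction G)).obj o at a b
  change a.base = 𝟙 _ at ha
  change b.base = 𝟙 _ at hb
  refine QuotSt.hom_ext_point ?_
  obtain ⟨g, hg, -⟩ := QuotSt.exists_trans a
  obtain ⟨h, hh, -⟩ := QuotSt.exists_trans b
  rw [ha] at hg
  rw [hb] at hh
  have key : ∀ (p q : (_root_.AlgSt.quotMap Scheme.fppfPrecoverage G (trivAction G)).obj o ⟶
      (_root_.AlgSt.quotMap Scheme.fppfPrecoverage G (trivAction G)).obj o) (i j : V ⟶ G),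
      QuotSt.point p = lift i (𝟙 V) → QuotSt.point q = lift j (𝟙 V) →
        QuotSt.point (p ≫ q) = lift (i * j) (𝟙 V) := by
    intro p q i j hi hj
    change QuotSt.unitSec V ≫ p.top ≫ q.top = _
    rw [← Category.assoc]
    change QuotSt.point p ≫ q.top = _
    rw [hi, QuotSt.top_eq q, hj]
    change lift i (𝟙 V) ≫ (G ◁ lift j (𝟙 V)) ≫ (_root_.AlgSt.leftMul G V).act = _
    apply CartesianMonoidalCategory.hom_ext <;> simp [_root_.AlgSt.leftMul, comp_mul]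
  rw [key a b g h hg hh, key b a h g hh hg, mul_comm]

theorem trivSieve_bgBase (a : (_root_.AlgSt.BG Scheme.fppfPrecoverage G).obj) (T : Over S)
    (ha : (_root_.AlgSt.BG Scheme.fppfPrecoverage G).p.obj a = T) :
    Neutral.trivSieve (bgBase G) a T ∈ AlgSp.J S T := by
  subst ha
  obtain ⟨R, hR, hs⟩ := a.loc
  change _ ∈ (Scheme.fppfTopology.over S) a.base
  rw [GrothendieckTopology.mem_over_iff]
  refine Scheme.fppfTopology.superset_covering ?_ (Precoverage.generate_mem_toGrothendieck hR)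
  rw [Sieve.generate_le_iff]
  intro Z f hf
  obtain ⟨s, hs⟩ := hs f hf
  rw [Sieve.overEquiv_iff]
  let p : Over.mk (f ≫ a.base.hom) ⟶ a.P := Over.homMk s (by
    change s ≫ a.P.hom = f ≫ a.base.hom
    rw [← Over.w a.π, ← hs, Category.assoc]; rfl)
  have e : p ≫ a.π = Over.homMk f := Over.OverMorphism.ext hs
  let h := QuotSt.homOfPoint (K := Scheme.fppfPrecoverage) (aX := trivAction G)
    (bgPt (Over.mk (f ≫ a.base.hom))) a p (toUnit_unique _ _)
  exact ⟨⟨h, e ▸ IsHomLift.map (_root_.AlgSt.BG Scheme.fppfPrecoverage G).p h⟩⟩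

end BG

theorem exists_isEquivOver_of_fIso (hst : _root_.Stk.IsStack (AlgSp.J S) 𝒳) (hst' : _root_.Stk.IsStack (AlgSp.J S) 𝒴)
    (hd : RepByAlgSpWith AlgSp.IsSeparatedMor (_root_.FibCat.diag (_root_.FibCat.toSelf 𝒳)))
    (hd' : RepByAlgSpWith AlgSp.IsSeparatedMor (_root_.FibCat.diag (_root_.FibCat.toSelf 𝒴)))
    (φ : _root_.IsoNat.FIso 𝒳 𝒴) (A : Neutral.Base 𝒳)
    (hloc : ∀ (a : 𝒳.obj) (T : Over S), 𝒳.p.obj a = T → Neutral.trivSieve A a T ∈ AlgSp.J S T)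
    (hc : ∀ V, VertComm (A.obj V)) : ∃ e : 𝒳 ⥤ᵇ 𝒴, _root_.FibCat.IsEquivOver e := by
  have hG := hst.1
  have hG' := hst'.1
  obtain ⟨ψ, hψ⟩ := exists_fiso_symm hG hG' φ
  have hψ' : ∀ T, φ.toEquiv T = (ψ.toEquiv T).symm := fun T => by rw [hψ, Equiv.symm_symm]
  obtain ⟨y₀, hy₀⟩ := Corr.exists_right φ (A.lies (𝟙_ (Over S)))
  obtain ⟨-, hy₀T, -⟩ := id hy₀
  obtain ⟨B, σ, hσ⟩ := exists_base hG' y₀ hy₀T
  have hC : ∀ V, Corr φ V (A.obj V) (B.obj V) := fun V => by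
    obtain ⟨y, hy⟩ := Corr.exists_right φ (A.lies V)
    obtain ⟨v, hv⟩ := hy.transfer hy₀ _ _ (A.lift (toUnit V))
    have := hσ V
    obtain ⟨i, hi, -⟩ := IsFibGrpd.exists_iso_of_lifts hG' (toUnit V) (σ V) v
    obtain ⟨hx, hyT, e⟩ := hy
    refine ⟨hx, B.lies V, e.trans (Quotient.sound ?_)⟩
    have := IsFibGrpd.isGroupoid_fiber hG' V
    let f : Functor.Fiber.mk hyT ⟶ Functor.Fiber.mk (B.lies V) := ⟨i.hom, hi⟩
    exact ⟨asIso f⟩
  have hcB : ∀ V, VertComm (B.obj V) := fun V =>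
    vertComm_of_corr hst' hst hd' hd ((hC V).symm ψ hψ) (hc V)
  have hMv : ∀ V (s : Neutral.Vert A V), ∃! t : Neutral.Vert B V, Match φ V (A.obj V) (B.obj V) s.1 t.1 :=
    fun V s => by
      obtain ⟨t, ht, m⟩ := Match.exists hst hst' hd' (hC V) s.1 (map_vert hG s.2)
      exact ⟨⟨t, vert_lift hG' (B.lies V) ht⟩, m, fun t' m' =>
        Subtype.ext (Match.unique hst hst' hd' (hC V) (hcB V) m' m)⟩
  choose θ hθ hθu using hMv
  let M : Neutral.AutMatch A B :=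
    { θ := fun V => Equiv.ofBijective (θ V) ⟨fun s s' e => Subtype.ext (Match.unique hst' hst hd
          ((hC V).symm ψ hψ) (hc V) ((hθ V s).symm ψ hψ) (e ▸ (hθ V s').symm ψ hψ)), fun t => by
        obtain ⟨s, hs, m⟩ := Match.exists hst' hst hd ((hC V).symm ψ hψ) t.1 (map_vert hG' t.2)
        exact ⟨⟨s, vert_lift hG (A.lies V) hs⟩, (hθu V _ t (m.symm φ hψ')).symm⟩⟩
      map_comp := fun V s s' => (hθu V _ _ (Match.mul hst hst' hd' (hC V) (hcB V) (map_vert hG s.2) (map_vert hG s'.2)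
        (hθ V s) (hθ V s'))).symm
      natural := fun {W V} r s' s e => by
        obtain ⟨t, ht⟩ := B.exists_res hG' r (θ V s)
        have m := match_bc hst hst' (hθ V s) (A.map r) (A.lift r) (B.map r) (B.lift r) (map_vert hG s'.2)
          (map_vert hG' t.2) e ht
        rw [Equiv.ofBijective_apply, Equiv.ofBijective_apply, ← hθu W s' t m]
        exact ht }
  refine Neutral.exists_isEquivOver_of_autMatch hst hst' hloc ?_ M
  intro b T hb
  obtain ⟨a, ha⟩ := Corr.exists_right ψ hb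
  obtain ⟨-, haT, -⟩ := id ha
  refine (AlgSp.J S).superset_covering ?_ (hloc a T haT)
  intro V g hg
  obtain ⟨κ⟩ := hg
  obtain ⟨ξ, hξ⟩ := (hC V).transfer (ha.symm φ hψ') g κ.1 κ.2
  exact ⟨⟨ξ, hξ⟩⟩

end GrothLib.IsoNat
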