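import Groth.Agent.Lib.AlgSt.SepDense
import Groth.Agent.Lib.FibCat.Yoneda

/-!
# Representing sheaves of fibre products of two objects, described by their points
-/

set_option backward.isDefEq.respectTransparency false
set_option backward.isDefEq.respectTransparency.types false

universe u

open CategoryTheory CategoryTheory.Limits AlgebraicGeometry Opposite

namespace GrothLib.IsoNat

open _root_.AlgSt GrothLib.FibCat GrothLib.AlgSt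

variable {S : Scheme.{u}}

theorem eq_of_lifts {C D : Type*} [Category C] [Category D] (p : D ⥤ C) {R T : C} {x x' : D} (φ : x ⟶ x')
    {f f' : R ⟶ T} (h : p.IsHomLift f φ) (h' : p.IsHomLift f' φ) : f = f' := by
  have h1 := IsHomLift.fac p f φ
  have h2 := IsHomLift.fac p f' φ
  exact h1.trans h2.symm

section Obj

variable {𝒲 : _root_.AlgSt.Cat S} {F : AlgSp.Sp S} (e : ofSp F ⥤ᵇ 𝒲)

/-- The map `m` corresponds to the object `o`. -/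
def Rep {T : Over S} (m : (AlgSp.yon S).obj T ⟶ F) (o : 𝒲.obj) : Prop :=
  ∃ i : e.obj ⟨T, (AlgSp.J S).uliftYonedaEquiv.{u + 1} m⟩ ≅ o, 𝒲.p.IsHomLift (𝟙 T) i.hom

theorem Rep.obj_eq {T : Over S} {m : (AlgSp.yon S).obj T ⟶ F} {o : 𝒲.obj} (h : Rep e m o) : 𝒲.p.obj o = T :=
  let ⟨i, hi⟩ := h; IsHomLift.codomain_eq 𝒲.p (𝟙 T) i.hom

theorem exists_rep_obj {T : Over S} (m : (AlgSp.yon S).obj T ⟶ F) : ∃ o, Rep e m o :=
  ⟨_, Iso.refl _, IsHomLift.id (e.w_obj _)⟩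

variable (he : _root_.FibCat.IsEquivOver e)
include he

theorem exists_rep_map {T : Over S} (o : 𝒲.obj) (ho : 𝒲.p.obj o = T) :
    ∃ m : (AlgSp.yon S).obj T ⟶ F, Rep e m o := by
  obtain ⟨s, i, hi⟩ := exists_section_of_obj he o ho
  refine ⟨(AlgSp.J S).uliftYonedaEquiv.{u + 1}.symm s, ?_⟩
  rw [Rep, Equiv.apply_symm_apply]
  exact ⟨i, hi⟩

theorem Rep.map_eq {T' T : Over S} {m' : (AlgSp.yon S).obj T' ⟶ F} {m : (AlgSp.yon S).obj T ⟶ F} {o' o : 𝒲.obj}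
    (h' : Rep e m' o') (h : Rep e m o) {g : T' ⟶ T} (κ : o' ⟶ o) [𝒲.p.IsHomLift g κ] :
    (AlgSp.yon S).map g ≫ m = m' := by
  obtain ⟨i', hi'⟩ := h'
  obtain ⟨i, hi⟩ := h
  have := IsEquivOver.full he
  have : 𝒲.p.IsHomLift (𝟙 T) i.inv := IsHomLift.lift_id_inv _ _ _
  have : 𝒲.p.IsHomLift g (κ ≫ i.inv) := IsHomLift.comp_lift_id_right' _ _ _ T _
  have : 𝒲.p.IsHomLift g (i'.hom ≫ κ ≫ i.inv) := IsHomLift.comp_lift_id_left' _ T' i'.hom _ _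
  obtain ⟨ψ, hψ⟩ := e.toFunctor.map_surjective (i'.hom ≫ κ ≫ i.inv)
  have hl : 𝒲.p.IsHomLift g (e.map ψ) := by rwa [hψ]
  have h2 := (e.isHomLift_iff _ ψ).1 hl
  have h3 : ψ.hom = g := (IsHomLift.fac' (ofSp F).p g ψ).trans ((Category.id_comp _).trans (Category.comp_id _))
  have h4 := ψ.map_sec
  rw [h3] at h4
  apply (AlgSp.J S).uliftYonedaEquiv.{u + 1}.injective
  rw [← GrothendieckTopology.uliftYonedaEquiv_naturality]
  exact h4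

omit he in
theorem Rep.exists_hom {T' T : Over S} {m' : (AlgSp.yon S).obj T' ⟶ F} {m : (AlgSp.yon S).obj T ⟶ F} {o' o : 𝒲.obj}
    (h' : Rep e m' o') (h : Rep e m o) {g : T' ⟶ T} (hg : (AlgSp.yon S).map g ≫ m = m') :
    ∃ κ : o' ⟶ o, 𝒲.p.IsHomLift g κ := by
  obtain ⟨i', hi'⟩ := h'
  obtain ⟨i, hi⟩ := h
  let ψ : (⟨T', (AlgSp.J S).uliftYonedaEquiv.{u + 1} m'⟩ : (ofSp F).obj) ⟶
      ⟨T, (AlgSp.J S).uliftYonedaEquiv.{u + 1} m⟩ :=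
    ⟨g, (GrothendieckTopology.uliftYonedaEquiv_naturality _ _ _).trans (congrArg _ hg)⟩
  have : (ofSp F).p.IsHomLift g ψ := IsHomLift.map (ofSp F).p ψ
  have : 𝒲.p.IsHomLift g (e.map ψ) := BasedFunctor.preserves_isHomLift e g ψ
  have : 𝒲.p.IsHomLift (𝟙 T') i'.inv := IsHomLift.lift_id_inv _ _ _
  have : 𝒲.p.IsHomLift g (e.map ψ ≫ i.hom) := IsHomLift.comp_lift_id_right' _ _ _ T _
  exact ⟨i'.inv ≫ e.map ψ ≫ i.hom, IsHomLift.comp_lift_id_left' _ T' i'.inv _ _⟩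

end Obj

section Model

variable {𝒴 : _root_.AlgSt.Cat S}

/-- A sheaf over `V` whose points are the pairs of morphisms of objects into `w₀` and `y₀`. -/
structure Model {V : Over S} (F : AlgSp.Sp S) (φ : F ⟶ (AlgSp.yon S).obj V) (w₀ y₀ : 𝒴.obj) where
  /-- A point and a pair of morphisms correspond. -/
  R : ∀ {T : Over S}, ((AlgSp.yon S).obj T ⟶ F) → ∀ z : 𝒴.obj, (z ⟶ w₀) → (z ⟶ y₀) → Prop
  base : ∀ {T : Over S} {m : (AlgSp.yon S).obj T ⟶ F} {z v u}, R m z v u →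
    ∃ b : T ⟶ V, 𝒴.p.IsHomLift b v ∧ m ≫ φ = (AlgSp.yon S).map b
  surj : ∀ {T : Over S} (m : (AlgSp.yon S).obj T ⟶ F), ∃ z v u, R m z v u
  tot : ∀ {T : Over S} (z : 𝒴.obj) (v : z ⟶ w₀) (u : z ⟶ y₀), 𝒴.p.obj z = T →
    ∃ m : (AlgSp.yon S).obj T ⟶ F, R m z v u
  map_eq : ∀ {T' T : Over S} {m' : (AlgSp.yon S).obj T' ⟶ F} {m : (AlgSp.yon S).obj T ⟶ F} {z' z v' v u' u},
    R m' z' v' u' → R m z v u → ∀ (g : T' ⟶ T) (κ : z' ⟶ z), 𝒴.p.IsHomLift g κ → κ ≫ v = v' → κ ≫ u = u' →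
      (AlgSp.yon S).map g ≫ m = m'
  exists_hom : ∀ {T' T : Over S} {m' : (AlgSp.yon S).obj T' ⟶ F} {m : (AlgSp.yon S).obj T ⟶ F} {z' z v' v u' u},
    R m' z' v' u' → R m z v u → ∀ (g : T' ⟶ T), (AlgSp.yon S).map g ≫ m = m' →
      ∃ κ : z' ⟶ z, 𝒴.p.IsHomLift g κ ∧ κ ≫ v = v' ∧ κ ≫ u = u'

theorem Model.obj_eq {V : Over S} {F : AlgSp.Sp S} {φ : F ⟶ (AlgSp.yon S).obj V} {w₀ y₀ : 𝒴.obj}
    (M : Model F φ w₀ y₀) {T : Over S} {m : (AlgSp.yon S).obj T ⟶ F} {z : 𝒴.obj} {v : z ⟶ w₀} {u : z ⟶ y₀}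
    (h : M.R m z v u) : 𝒴.p.obj z = T :=
  let ⟨b, hb, _⟩ := M.base h; IsHomLift.domain_eq 𝒴.p b v

variable {U V : Over S} (w : _root_.FibCat.overCat V ⥤ᵇ 𝒴) (y : _root_.FibCat.overCat U ⥤ᵇ 𝒴)
  {F : AlgSp.Sp S} (e : ofSp F ⥤ᵇ _root_.FibCat.fp w y)

/-- An object of the fibre product gives the pair `(v, u)`. -/
def PairRel (o : (_root_.FibCat.fp w y).obj) (z : 𝒴.obj) (v : z ⟶ w.obj (Yon.idObj V)) (u : z ⟶ y.obj (Yon.idObj U)) :
    Prop :=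
  ∃ θ : z ⟶ w.obj o.obj.fst, 𝒴.p.IsHomLift (𝟙 o.obj.fst.left) θ ∧ θ ≫ w.map (Yon.toId o.obj.fst) = v ∧
    θ ≫ o.obj.iso.hom ≫ y.map (Yon.toId o.obj.snd) = u

variable (hG : _root_.FibCat.IsFibGrpd 𝒴.p)
include hG

theorem pairRel_exists_obj {T : Over S} (z : 𝒴.obj) (v : z ⟶ w.obj (Yon.idObj V)) (u : z ⟶ y.obj (Yon.idObj U))
    (hz : 𝒴.p.obj z = T) : ∃ o, (_root_.FibCat.fp w y).p.obj o = T ∧ PairRel w y o z v u := by
  subst hz
  let b : 𝒴.p.obj z ⟶ V := 𝒴.p.map v ≫ eqToHom (w.w_obj _)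
  let a : 𝒴.p.obj z ⟶ U := 𝒴.p.map u ≫ eqToHom (y.w_obj _)
  have hb : 𝒴.p.IsHomLift b v := IsHomLift.of_fac 𝒴.p _ _ rfl (w.w_obj _) (by simp [b])
  have ha : 𝒴.p.IsHomLift a u := IsHomLift.of_fac 𝒴.p _ _ rfl (y.w_obj _) (by simp [a])
  have := Yon.toId_lift (U := V) (Over.mk b)
  have := Yon.toId_lift (U := U) (Over.mk a)
  have h1 : 𝒴.p.IsHomLift b (w.map (Yon.toId (Over.mk b))) :=
    BasedFunctor.preserves_isHomLift w (Over.mk b).hom _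
  have h2 : 𝒴.p.IsHomLift a (y.map (Yon.toId (Over.mk a))) :=
    BasedFunctor.preserves_isHomLift y (Over.mk a).hom _
  obtain ⟨θ, hθ, hθv⟩ := IsFibGrpd.exists_iso_of_lifts hG b (w.map (Yon.toId (Over.mk b))) v
  obtain ⟨κ, hκ, hκu⟩ := IsFibGrpd.exists_iso_of_lifts hG a (y.map (Yon.toId (Over.mk a))) u
  have : 𝒴.p.IsHomLift (𝟙 (𝒴.p.obj z)) θ.inv := IsHomLift.lift_id_inv _ _ _
  have hl : 𝒴.p.IsHomLift (𝟙 ((_root_.FibCat.overCat V).p.obj (Over.mk b))) (θ.symm ≪≫ κ).hom :=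
    IsHomLift.comp_lift_id_right' 𝒴.p (𝟙 (𝒴.p.obj z)) θ.inv (𝒴.p.obj z) κ.hom
  refine ⟨Fp.mk (F := w) (G := y) (Over.mk b) (Over.mk a) (θ.symm ≪≫ κ) hl, rfl, θ.hom, hθ, hθv, ?_⟩
  change θ.hom ≫ (θ.inv ≫ κ.hom) ≫ y.map (Yon.toId (Over.mk a)) = u
  rw [Category.assoc, Iso.hom_inv_id_assoc, hκu]

omit hG in
theorem pairRel_exists_pair (o : (_root_.FibCat.fp w y).obj) : ∃ z v u, PairRel w y o z v u :=
  ⟨_, _, _, 𝟙 _, IsHomLift.id (w.w_obj _), rfl, rfl⟩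

theorem pairRel_hom_of_hom {o' o : (_root_.FibCat.fp w y).obj} {z' z : 𝒴.obj} {v' u' v u}
    (h' : PairRel w y o' z' v' u') (h : PairRel w y o z v u) {T' T : Over S} {g : T' ⟶ T} (χ : o' ⟶ o)
    [(_root_.FibCat.fp w y).p.IsHomLift g χ] : ∃ κ : z' ⟶ z, 𝒴.p.IsHomLift g κ ∧ κ ≫ v = v' ∧ κ ≫ u = u' := by
  obtain ⟨θ', hθ', rfl, rfl⟩ := h'
  obtain ⟨θ, hθ, rfl, rfl⟩ := h
  have hχ : (_root_.FibCat.overCat V).p.IsHomLift g χ.hom.fst := (Fp.isHomLift_iff χ g).1 ‹_›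
  obtain rfl := IsHomLift.domain_eq (_root_.FibCat.overCat V).p g χ.hom.fst
  obtain rfl := IsHomLift.codomain_eq (_root_.FibCat.overCat V).p g χ.hom.fst
  have : 𝒴.p.IsHomLift (𝟙 ((_root_.FibCat.overCat V).p.obj o.obj.fst)) θ := hθ
  have : 𝒴.p.IsHomLift (𝟙 ((_root_.FibCat.overCat V).p.obj o'.obj.fst)) θ' := hθ'
  have := IsFibGrpd.isIso_of_isHomLift_id hG (R := (_root_.FibCat.overCat V).p.obj o.obj.fst) θ
  have : 𝒴.p.IsHomLift g (w.map χ.hom.fst) := BasedFunctor.preserves_isHomLift w g _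
  have : 𝒴.p.IsHomLift (𝟙 o.obj.fst.left) (inv θ) := IsHomLift.lift_id_inv_isIso _ _ _
  have : 𝒴.p.IsHomLift g (w.map χ.hom.fst ≫ inv θ) := IsHomLift.comp_lift_id_right' _ _ _ o.obj.fst.left _
  refine ⟨θ' ≫ w.map χ.hom.fst ≫ inv θ, IsHomLift.comp_lift_id_left' _ o'.obj.fst.left θ' _ _, ?_, ?_⟩
  · simp only [Category.assoc, IsIso.inv_hom_id_assoc]
    rw [← w.map_comp, Yon.map_comp_toId]
  · simp only [Category.assoc, IsIso.inv_hom_id_assoc]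
    rw [reassoc_of% (Fp.w χ), ← y.map_comp, Yon.map_comp_toId]

theorem pairRel_obj_hom_of_hom {o' o : (_root_.FibCat.fp w y).obj} {z' z : 𝒴.obj} {v' u' v u}
    (h' : PairRel w y o' z' v' u') (h : PairRel w y o z v u) {T' T : Over S} {g : T' ⟶ T} (κ : z' ⟶ z)
    [𝒴.p.IsHomLift g κ] (hv : κ ≫ v = v') (hu : κ ≫ u = u') :
    ∃ χ : o' ⟶ o, (_root_.FibCat.fp w y).p.IsHomLift g χ := by
  obtain ⟨θ', hθ', rfl, rfl⟩ := h'
  obtain ⟨θ, hθ, rfl, rfl⟩ := h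
  obtain rfl : o'.obj.fst.left = T' :=
    (IsHomLift.domain_eq 𝒴.p (𝟙 o'.obj.fst.left) θ').symm.trans (IsHomLift.domain_eq 𝒴.p g κ)
  obtain rfl : o.obj.fst.left = T :=
    (IsHomLift.domain_eq 𝒴.p (𝟙 o.obj.fst.left) θ).symm.trans (IsHomLift.codomain_eq 𝒴.p g κ)
  have := IsFibGrpd.isIso_of_isHomLift_id hG (R := o'.obj.fst.left) θ'
  have : 𝒴.p.IsHomLift (𝟙 o'.obj.fst.left) (inv θ') := IsHomLift.lift_id_inv_isIso _ _ _
  let k : w.obj o'.obj.fst ⟶ w.obj o.obj.fst := inv θ' ≫ κ ≫ θ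
  have hk : 𝒴.p.IsHomLift g k := by
    have : 𝒴.p.IsHomLift g (κ ≫ θ) := IsHomLift.comp_lift_id_right' _ _ _ o.obj.fst.left _
    exact IsHomLift.comp_lift_id_left' _ o'.obj.fst.left (inv θ') _ _
  have hv' : k ≫ w.map (Yon.toId o.obj.fst) = w.map (Yon.toId o'.obj.fst) := by
    simp only [k, Category.assoc, IsIso.inv_comp_eq]
    exact hv
  have hu' : k ≫ o.obj.iso.hom ≫ y.map (Yon.toId o.obj.snd) = o'.obj.iso.hom ≫ y.map (Yon.toId o'.obj.snd) := by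
    simp only [k, Category.assoc, IsIso.inv_comp_eq]
    exact hu
  have hto : ∀ {U : Over S} (G : _root_.FibCat.overCat U ⥤ᵇ 𝒴) (a : (_root_.FibCat.overCat U).obj),
      𝒴.p.IsHomLift a.hom (G.map (Yon.toId a)) := fun G a => by
    have := Yon.toId_lift a
    exact BasedFunctor.preserves_isHomLift G a.hom _
  have := hto w o.obj.fst
  have := hto w o'.obj.fst
  have := hto y o.obj.snd
  have := hto y o'.obj.snd
  have e1 : g ≫ o.obj.fst.hom = o'.obj.fst.hom := by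
    have h1 : 𝒴.p.IsHomLift (g ≫ o.obj.fst.hom) (w.map (Yon.toId o'.obj.fst)) := by
      rw [← hv']; infer_instance
    exact eq_of_lifts 𝒴.p _ h1 (hto w o'.obj.fst)
  have hs' : o'.obj.snd.left = o'.obj.fst.left :=
    have : 𝒴.p.IsHomLift (𝟙 o'.obj.fst.left) o'.obj.iso.hom := Fp.iso_lift o'
    (y.w_obj _).symm.trans (IsHomLift.codomain_eq 𝒴.p (𝟙 o'.obj.fst.left) o'.obj.iso.hom)
  have hs : o.obj.snd.left = o.obj.fst.left :=
    have : 𝒴.p.IsHomLift (𝟙 o.obj.fst.left) o.obj.iso.hom := Fp.iso_lift o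
    (y.w_obj _).symm.trans (IsHomLift.codomain_eq 𝒴.p (𝟙 o.obj.fst.left) o.obj.iso.hom)
  obtain ⟨⟨O1', O2', Oi'⟩, hO'⟩ := o'
  obtain ⟨⟨O1, O2, Oi⟩, hO⟩ := o
  obtain ⟨A, ⟨⟩, a⟩ := O2'
  obtain ⟨B, ⟨⟩, b⟩ := O2
  obtain rfl : A = O1'.left := hs'
  obtain rfl : B = O1.left := hs
  have hi' : 𝒴.p.IsHomLift (𝟙 O1'.left) Oi'.hom := hO'
  have hi : 𝒴.p.IsHomLift (𝟙 O1.left) Oi.hom := hO
  have e2 : g ≫ b = a := by
    have : 𝒴.p.IsHomLift a (y.map (Yon.toId (Over.mk a))) := hto y (Over.mk a)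
    have : 𝒴.p.IsHomLift b (y.map (Yon.toId (Over.mk b))) := hto y (Over.mk b)
    have h3 : 𝒴.p.IsHomLift a (Oi'.hom ≫ y.map (Yon.toId (Over.mk a))) :=
      IsHomLift.comp_lift_id_left' 𝒴.p O1'.left Oi'.hom a _
    have h4 : 𝒴.p.IsHomLift (g ≫ b) (Oi'.hom ≫ y.map (Yon.toId (Over.mk a))) := by
      have : 𝒴.p.IsHomLift b (Oi.hom ≫ y.map (Yon.toId (Over.mk b))) :=
        IsHomLift.comp_lift_id_left' 𝒴.p O1.left Oi.hom b _
      rw [show Oi'.hom ≫ y.map (Yon.toId (Over.mk a)) = k ≫ Oi.hom ≫ y.map (Yon.toId (Over.mk b)) from hu'.symm]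
      infer_instance
    exact eq_of_lifts 𝒴.p _ h4 h3
  let φ₁ : O1' ⟶ O1 := Over.homMk g e1
  let φ₂ : Over.mk a ⟶ Over.mk b := Over.homMk g e2
  have hw1 : 𝒴.p.IsHomLift g (w.map φ₁) :=
    have : (_root_.FibCat.overCat V).p.IsHomLift g φ₁ := IsHomLift.map (_root_.FibCat.overCat V).p φ₁
    BasedFunctor.preserves_isHomLift w g φ₁
  have hw2 : 𝒴.p.IsHomLift g (y.map φ₂) :=
    have : (_root_.FibCat.overCat U).p.IsHomLift g φ₂ := IsHomLift.map (_root_.FibCat.overCat U).p φ₂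
    BasedFunctor.preserves_isHomLift y g φ₂
  have hk1 : k = w.map φ₁ := @IsFibGrpd.hom_ext _ _ _ _ _ hG _ _ _ g O1.hom _ _ _ (w.map (Yon.toId O1)) ‹_› _ _ hk hw1
    (by rw [← w.map_comp, Yon.map_comp_toId]; exact hv')
  refine ⟨Fp.homMk φ₁ φ₂ ?_, (Fp.isHomLift_iff _ _).2 (IsHomLift.map (_root_.FibCat.overCat V).p φ₁)⟩
  refine @IsFibGrpd.hom_ext _ _ _ _ _ hG _ _ _ g b _ _ _ (y.map (Yon.toId (Over.mk b))) ‹_› _ _ ?_ ?_ ?_
  · exact IsHomLift.comp_lift_id_right' 𝒴.p g (w.map φ₁) O1.left Oi.hom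
  · exact IsHomLift.comp_lift_id_left' 𝒴.p O1'.left Oi'.hom g (y.map φ₂)
  · rw [Category.assoc, ← hk1]
    refine hu'.trans (Eq.trans ?_ (Category.assoc _ _ _).symm)
    exact congrArg (fun q => Oi'.hom ≫ q) ((congrArg y.map (Yon.map_comp_toId φ₂).symm).trans (y.map_comp _ _))

/-- The representing sheaf of a fibre product of two charts is a model. -/
theorem exists_model (he : _root_.FibCat.IsEquivOver e) :
    Nonempty (Model F (spMapOfOver (BasedFunctor.comp e (_root_.FibCat.fpFst w y)))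
      (w.obj (Yon.idObj V)) (y.obj (Yon.idObj U))) := by
  refine ⟨⟨fun {T} m z v u => ∃ o, Rep e m o ∧ PairRel w y o z v u, ?_, ?_, ?_, ?_, ?_⟩⟩
  · rintro T m z v u ⟨o, ⟨i, hi⟩, θ, hθ, rfl, -⟩
    have hT : o.obj.fst.left = T := IsHomLift.codomain_eq (_root_.FibCat.fp w y).p (𝟙 T) i.hom
    subst hT
    refine ⟨o.obj.fst.hom, ?_, ?_⟩
    · have := Yon.toId_lift o.obj.fst
      have : 𝒴.p.IsHomLift o.obj.fst.hom (w.map (Yon.toId o.obj.fst)) :=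
        BasedFunctor.preserves_isHomLift w o.obj.fst.hom _
      exact IsHomLift.comp_lift_id_left' 𝒴.p o.obj.fst.left θ _ _
    · apply (AlgSp.J S).uliftYonedaEquiv.{u + 1}.injective
      rw [GrothendieckTopology.uliftYonedaEquiv_comp, spMapOfOver_app]
      refine congrArg ULift.up ?_
      have hl := (Fp.isHomLift_iff i.hom _).1 hi
      have hw' : i.hom.hom.fst.left ≫ o.obj.fst.hom = _ := Over.w i.hom.hom.fst
      have hlf := IsHomLift.fac' (_root_.FibCat.overCat V).p (𝟙 o.obj.fst.left) i.hom.hom.fst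
      change eqToHom _ ≫ ((e.obj _).obj.fst).hom = _
      rw [← hw', show i.hom.hom.fst.left = _ from hlf]
      simp
  · intro T m
    obtain ⟨o, ho⟩ := exists_rep_obj e m
    obtain ⟨z, v, u, h⟩ := pairRel_exists_pair w y o
    exact ⟨z, v, u, o, ho, h⟩
  · intro T z v u hz
    obtain ⟨o, ho, h⟩ := pairRel_exists_obj w y hG z v u hz
    obtain ⟨m, hm⟩ := exists_rep_map e he o ho
    exact ⟨m, o, hm, h⟩
  · rintro T' T m' m z' z v' v u' u ⟨o', ho', h'⟩ ⟨o, ho, h⟩ g κ hκ hv hu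
    obtain ⟨χ, hχ⟩ := pairRel_obj_hom_of_hom w y hG h' h (g := g) κ hv hu
    exact Rep.map_eq e he ho' ho χ
  · rintro T' T m' m z' z v' v u' u ⟨o', ho', h'⟩ ⟨o, ho, h⟩ g hg
    obtain ⟨χ, hχ⟩ := Rep.exists_hom e ho' ho hg
    exact pairRel_hom_of_hom w y hG h' h χ

end Model

end GrothLib.IsoNat
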