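import Groth.Agent.Lib.AlgSt.IsoNat.Surj
import Groth.Prelude.Def_AlgSt3

/-!
# Squares of charts read on isomorphism classes
-/

set_option backward.isDefEq.respectTransparency false
set_option backward.isDefEq.respectTransparency.types false

universe u

open CategoryTheory CategoryTheory.Limits AlgebraicGeometry Opposite

namespace GrothLib.IsoNat

open _root_.AlgSt GrothLib.FibCat GrothLib.AlgSt GrothLib.AlgSp GrothLib.Axes

variable {S : Scheme.{u}} {𝒳 𝒴 𝒳' 𝒴' : _root_.AlgSt.Cat S}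

theorem nonempty_iso_square (hst : _root_.Stk.IsStack (AlgSp.J S) 𝒳) (hst2 : _root_.Stk.IsStack (AlgSp.J S) 𝒴)
    (hst' : _root_.Stk.IsStack (AlgSp.J S) 𝒴') {f : 𝒳 ⥤ᵇ 𝒴} {f' : 𝒳' ⥤ᵇ 𝒴'} (φ : _root_.IsoNat.FIsoSq f f')
    {U V : Over S} {x : _root_.FibCat.overCat U ⥤ᵇ 𝒳} {y : _root_.FibCat.overCat V ⥤ᵇ 𝒴} {h : U ⟶ V}
    (α : BasedFunctor.comp x f ≅ BasedFunctor.comp (_root_.AlgSt.overMap h) y)
    {x' : _root_.FibCat.overCat U ⥤ᵇ 𝒳'} {y' : _root_.FibCat.overCat V ⥤ᵇ 𝒴'}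
    (hx : φ.src.toEquiv U (_root_.IsoNat.objCls x) = _root_.IsoNat.objCls x')
    (hy : φ.tgt.toEquiv V (_root_.IsoNat.objCls y) = _root_.IsoNat.objCls y') :
    Nonempty (BasedFunctor.comp x' f' ≅ BasedFunctor.comp (_root_.AlgSt.overMap h) y') := by
  have hG := hst'.1
  let a := (_root_.AlgSt.overMap h).obj (Yon.idObj U)
  have haU : (_root_.FibCat.overCat V).p.obj a = U := rfl
  have ha : (_root_.FibCat.overCat V).p.IsHomLift (𝟙 U ≫ h) (Yon.toId a) := Yon.toId_lift a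
  rw [Category.id_comp] at ha
  -- the classes of the images
  obtain ⟨w', hw'⟩ := Corr.exists_right φ.tgt (T := U) (x := y.obj a) (y.w_obj a)
  obtain ⟨v, hv⟩ := hw'.transfer (corr_of_objCls hy) h (y.map (Yon.toId a))
    (BasedFunctor.preserves_isHomLift y h (Yon.toId a))
  have hy' : 𝒴'.p.IsHomLift h (y'.map (Yon.toId a)) := BasedFunctor.preserves_isHomLift y' h (Yon.toId a)
  obtain ⟨θ, hθ, -⟩ := IsFibGrpd.exists_iso_of_lifts hG h (y'.map (Yon.toId a)) v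
  obtain ⟨hya, hw'U, e1⟩ := hw'
  let fx : 𝒴.p.Fiber U := ⟨f.obj (x.obj (Yon.idObj U)), (f.w_obj _).trans (x.w_obj _)⟩
  have hαl : 𝒴.p.IsHomLift (𝟙 U) (α.hom.toNatTrans.app (Yon.idObj U)) :=
    α.hom.isHomLift' (Yon.idObj U)
  have e2 : _root_.IsoNat.cls fx = _root_.IsoNat.cls ⟨y.obj a, hya⟩ :=
    Quotient.sound (nonempty_fiber_iso hst2.1 (α.hom.toNatTrans.app (Yon.idObj U)) hαl)
  have e3 : _root_.IsoNat.mapCls f' U (_root_.IsoNat.objCls x') = _root_.IsoNat.cls ⟨w', hw'U⟩ := by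
    rw [← hx, ← φ.comm]
    exact (congrArg (φ.tgt.toEquiv U) e2).trans e1
  obtain ⟨i⟩ := Quotient.exact e3
  have hi : 𝒴'.p.IsHomLift (𝟙 U) i.hom.1 := i.hom.2
  let j : (BasedFunctor.comp x' f').obj (Yon.idObj U) ≅ (BasedFunctor.comp (_root_.AlgSt.overMap h) y').obj (Yon.idObj U) :=
    Functor.Fiber.fiberInclusion.mapIso i ≪≫ θ
  have hjl : 𝒴'.p.IsHomLift (𝟙 U) j.hom :=
    IsHomLift.comp_lift_id_left' 𝒴'.p U i.hom.1 (𝟙 U) θ.hom
  exact ⟨Yon.isoOfIdObj hG j hjl⟩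

end GrothLib.IsoNat
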