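import Groth.Agent.Lib.AlgSt.IsoNat.AutExt
import Groth.Agent.Lib.AlgSt.IsoNat.FibModel
import Groth.Agent.Lib.AlgSt.IsoNat.ProperInertia
import Groth.Agent.Lib.AlgSt.IsoNat.Square
import Groth.Agent.Lib.AlgSt.SepComp
import Groth.Agent.Lib.AlgSt.DiagRep
import Groth.Agent.Lib.AlgSt.NoethStack
import Groth.Agent.Lib.AlgSt.LocQRep
import Groth.Agent.Lib.AlgSt.DiagLFP
import Groth.Agent.Lib.AlgSt.FpStack

/-!
# Separatedness read on isomorphism classes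
-/

set_option backward.isDefEq.respectTransparency false
set_option backward.isDefEq.respectTransparency.types false

universe u

open CategoryTheory CategoryTheory.Limits AlgebraicGeometry Opposite

namespace GrothLib.IsoNat

open _root_.AlgSt GrothLib.FibCat GrothLib.AlgSt GrothLib.Axes

variable {S : Scheme.{u}} {𝒳 𝒴 𝒳' 𝒴' : _root_.AlgSt.Cat S}

/-- An isomorphism of two objects given after applying `f` and compatibly on their restrictions along `i` comes from a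
unique-up-to-diagonal isomorphism of the two objects. -/
def IsoExt (f : 𝒳 ⥤ᵇ 𝒴) {V T : Over S} (i : V ⟶ T) : Prop :=
  ∀ ⦃x₁ x₂ z : 𝒳.obj⦄ (β : f.obj x₁ ⟶ f.obj x₂), 𝒴.p.IsHomLift (𝟙 T) β → ∀ (ρ₁ : z ⟶ x₁) (ρ₂ : z ⟶ x₂),
    𝒳.p.IsHomLift i ρ₁ → 𝒳.p.IsHomLift i ρ₂ → f.map ρ₁ ≫ β = f.map ρ₂ →
    ∃ γ : x₁ ⟶ x₂, 𝒳.p.IsHomLift (𝟙 T) γ ∧ f.map γ = β ∧ ρ₁ ≫ γ = ρ₂

theorem corr_map {f : 𝒳 ⥤ᵇ 𝒴} {f' : 𝒳' ⥤ᵇ 𝒴'} (φ : _root_.IsoNat.FIsoSq f f') {T : Over S} {x : 𝒳.obj}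
    {x' : 𝒳'.obj} (h : Corr φ.src T x x') : Corr φ.tgt T (f.obj x) (f'.obj x') := by
  obtain ⟨hx, hx', e⟩ := h
  exact ⟨(f.w_obj x).trans hx, (f'.w_obj x').trans hx',
    (φ.comm T (_root_.IsoNat.cls ⟨x, hx⟩)).trans (congrArg (_root_.IsoNat.mapCls f' T) e)⟩

/-- The extension property only depends on the map of isomorphism classes. -/
theorem isoExt_of_fIsoSq (hst : _root_.Stk.IsStack (AlgSp.J S) 𝒳) (hst₂ : _root_.Stk.IsStack (AlgSp.J S) 𝒴)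
    (hst' : _root_.Stk.IsStack (AlgSp.J S) 𝒳') (hst₂' : _root_.Stk.IsStack (AlgSp.J S) 𝒴')
    {f : 𝒳 ⥤ᵇ 𝒴} {f' : 𝒳' ⥤ᵇ 𝒴'} (φ : _root_.IsoNat.FIsoSq f f')
    (hd : RepByAlgSpWith AlgSp.IsSeparatedMor (_root_.FibCat.diag (_root_.FibCat.toSelf 𝒴')))
    {V T : Over S} (i : V ⟶ T) (hi : IsOpenImmersion i.left) (hdom : IsSchemeTheoreticallyDominant i.left)
    (h : IsoExt f i) : IsoExt f' i := by
  intro x₁ x₂ z β hβ ρ₁ ρ₂ hρ₁ hρ₂ hρ
  have hG := hst.1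
  have hG₂ := hst₂.1
  have hG' := hst'.1
  have hG₂' := hst₂'.1
  obtain ⟨ψ, hψ⟩ := exists_fiso_symm hG hG' φ.src
  have hψ' : ∀ T, φ.src.toEquiv T = (ψ.toEquiv T).symm := fun T => by rw [hψ, Equiv.symm_symm]
  obtain ⟨ψ₂, hψ₂⟩ := exists_fiso_symm hG₂ hG₂' φ.tgt
  obtain ⟨D⟩ := exists_glue V (fun _ => T) (fun _ => i) (fun _ => hi)
  let xs : Bool → 𝒳'.obj := fun b => match b with | false => x₁ | true => x₂
  let k : ∀ b, z ⟶ xs b := fun b => match b with | false => ρ₁ | true => ρ₂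
  have hk : ∀ b, 𝒳'.p.IsHomLift i (k b) := fun b => by cases b; exacts [hρ₁, hρ₂]
  have hxs : ∀ b, 𝒳'.p.obj (xs b) = T := fun b => have := hk b; IsHomLift.codomain_eq 𝒳'.p i (k b)
  obtain ⟨xD, v, hxD, hv, hkv⟩ := D.exists_obj (z := xs) hst' hxs hk (fun _ => hi)
  obtain ⟨hd', hdc⟩ := D.desc (Y := T) (fun _ => 𝟙 T) rfl
  -- descend `β` to the glued object
  have hfx : 𝒴'.p.obj (f'.obj x₂) = T := (f'.w_obj _).trans (hxs true)
  have hfD : 𝒴'.p.obj (f'.obj xD) = D.W := (f'.w_obj _).trans hxD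
  let n : ∀ b, f'.obj (xs b) ⟶ f'.obj x₂ := fun b => match b with | false => β | true => 𝟙 _
  have hn : ∀ b, 𝒴'.p.IsHomLift (𝟙 T) (n b) := fun b => by
    cases b
    · exact hβ
    · exact IsHomLift.id hfx
  have hfv : ∀ b, 𝒴'.p.IsHomLift (D.c b) (f'.map (v b)) := fun b =>
    have := hv b; BasedFunctor.preserves_isHomLift f' _ _
  have hfk : ∀ b, 𝒴'.p.IsHomLift i (f'.map (k b)) := fun b =>
    have := hk b; BasedFunctor.preserves_isHomLift f' _ _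
  obtain ⟨η, hη, -⟩ := D.exists_hom hst₂' (a := f'.obj xD) (b := f'.obj x₂)
    (eqToHom hfD ≫ hd' ≫ eqToHom hfx.symm) (z := fun b => f'.obj (xs b)) (v := fun b => f'.map (v b)) hfv
    (zV := f'.obj z) (k := fun b => f'.map (k b)) hfk (by rw [← f'.map_comp, ← f'.map_comp, hkv]) n
    (fun b => by
      have := hfv b
      have := hn b
      rw [IsHomLift.fac' 𝒴'.p (D.c b) (f'.map (v b)), IsHomLift.fac' 𝒴'.p (𝟙 T) (n b)]
      simp [reassoc_of% (hdc b)]) (by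
      change f'.map ρ₁ ≫ β = f'.map ρ₂ ≫ 𝟙 _
      rw [Category.comp_id, hρ])
  have hηl : 𝒴'.p.IsHomLift hd' η := IsHomLift.of_fac' 𝒴'.p _ _ hfD hfx hη
  -- corresponding objects
  obtain ⟨X₁, hX₁⟩ := Corr.exists_right ψ (hxs false)
  obtain ⟨X₂, hX₂⟩ := Corr.exists_right ψ (hxs true)
  obtain ⟨Z, hZ⟩ := Corr.exists_right ψ (IsHomLift.domain_eq 𝒳'.p i ρ₁)
  obtain ⟨XD, hXD⟩ := Corr.exists_right ψ hxD
  obtain ⟨u₀, hu₀⟩ := hX₁.transfer hXD (D.c false) (v false) (hv false)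
  obtain ⟨u₁, hu₁⟩ := hX₂.transfer hXD (D.c true) (v true) (hv true)
  obtain ⟨R₁, hR₁⟩ := hZ.transfer hX₁ i ρ₁ hρ₁
  obtain ⟨R₂', hR₂'⟩ := hZ.transfer hX₂ i ρ₂ hρ₂
  obtain ⟨η₁, hη₁⟩ := ((corr_map φ (hXD.symm φ.src hψ')).symm ψ₂ hψ₂).transfer
    ((corr_map φ (hX₂.symm φ.src hψ')).symm ψ₂ hψ₂) hd' η hηl
  have h1 : 𝒳.p.IsHomLift (i ≫ D.c false) (R₁ ≫ u₀) := inferInstance
  have h2 : 𝒳.p.IsHomLift (i ≫ D.c true) (R₂' ≫ u₁) := inferInstance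
  obtain ⟨b, hb, hbe⟩ := Axes.exists_over hG (𝟙 V) (i ≫ D.c true) (R₂' ≫ u₁) h2 (R₁ ≫ u₀)
    (by rw [Category.id_comp, ← D.w]; exact h1)
  let R₂ := b ≫ R₂'
  have hR₂ : 𝒳.p.IsHomLift i R₂ := IsHomLift.comp_lift_id_left' 𝒳.p V b i R₂'
  have hRu : R₁ ≫ u₀ = R₂ ≫ u₁ := hbe.symm.trans (Category.assoc _ _ _).symm
  have hfu₀ : 𝒴.p.IsHomLift (D.c false) (f.map u₀) := BasedFunctor.preserves_isHomLift f _ _
  have hfu₁ : 𝒴.p.IsHomLift (D.c true) (f.map u₁) := BasedFunctor.preserves_isHomLift f _ _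
  have hb₀ : 𝒴.p.IsHomLift (𝟙 T) (f.map u₀ ≫ η₁) := by rw [← hdc false]; infer_instance
  have hb₁ : 𝒴.p.IsHomLift (𝟙 T) (f.map u₁ ≫ η₁) := by rw [← hdc true]; infer_instance
  have := IsFibGrpd.isIso_of_isHomLift_id hG₂ (R := T) (f.map u₁ ≫ η₁)
  have : 𝒴.p.IsHomLift (𝟙 T) (inv (f.map u₁ ≫ η₁)) := IsHomLift.lift_id_inv_isIso _ _ _
  let β' := (f.map u₀ ≫ η₁) ≫ inv (f.map u₁ ≫ η₁)
  have hβ' : 𝒴.p.IsHomLift (𝟙 T) β' := IsHomLift.comp_lift_id_left' 𝒴.p T (f.map u₀ ≫ η₁) _ _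
  obtain ⟨γ, hγ, -, hγR⟩ := h β' hβ' R₁ R₂ hR₁ hR₂ (by
    simp only [β']
    rw [← Category.assoc, IsIso.comp_inv_eq, ← f.map_comp_assoc, ← f.map_comp_assoc, hRu])
  -- descend `γ` to the glued object
  obtain ⟨hX₂T, -, -⟩ := hX₂.symm φ.src hψ'
  obtain ⟨hXDW, -, -⟩ := hXD.symm φ.src hψ'
  let Xs : Bool → 𝒳.obj := fun b => match b with | false => X₁ | true => X₂
  let K : ∀ b, Z ⟶ Xs b := fun b => match b with | false => R₁ | true => R₂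
  let U : ∀ b, Xs b ⟶ XD := fun b => match b with | false => u₀ | true => u₁
  let N : ∀ b, Xs b ⟶ X₂ := fun b => match b with | false => γ | true => 𝟙 _
  have hN : ∀ b, 𝒳.p.IsHomLift (𝟙 T) (N b) := fun b => by
    cases b
    · exact hγ
    · exact IsHomLift.id hX₂T
  have hU : ∀ b, 𝒳.p.IsHomLift (D.c b) (U b) := fun b => by cases b; exacts [hu₀, hu₁]
  obtain ⟨η', hη', -⟩ := D.exists_hom hst (a := XD) (b := X₂) (eqToHom hXDW ≫ hd' ≫ eqToHom hX₂T.symm)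
    (z := Xs) (v := U) hU (zV := Z) (k := K) (fun b => by cases b; exacts [hR₁, hR₂]) hRu N
    (fun b => by
      have := hU b
      have := hN b
      rw [IsHomLift.fac' 𝒳.p (D.c b) (U b), IsHomLift.fac' 𝒳.p (𝟙 T) (N b)]
      simp [reassoc_of% (hdc b)]) (by
      change R₁ ≫ γ = R₂ ≫ 𝟙 _
      rw [Category.comp_id, hγR])
  have hη'l : 𝒳.p.IsHomLift hd' η' := IsHomLift.of_fac' 𝒳.p _ _ hXDW hX₂T hη'
  obtain ⟨η'', hη''⟩ := (hXD.symm φ.src hψ').transfer (hX₂.symm φ.src hψ') hd' η' hη'l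
  have hvη : ∀ c, 𝒳'.p.IsHomLift (𝟙 T) (v c ≫ η'') := fun c => by
    have := hv c
    rw [← hdc c]
    infer_instance
  have := hvη false
  have := hvη true
  have := IsFibGrpd.isIso_of_isHomLift_id hG' (R := T) (v true ≫ η'')
  have : 𝒳'.p.IsHomLift (𝟙 T) (inv (v true ≫ η'')) := IsHomLift.lift_id_inv_isIso _ _ _
  let γ' : x₁ ⟶ x₂ := (v false ≫ η'') ≫ inv (v true ≫ η'')
  have hγ' : 𝒳'.p.IsHomLift (𝟙 T) γ' := IsHomLift.comp_lift_id_left' 𝒳'.p T (v false ≫ η'') _ _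
  have hργ : ρ₁ ≫ γ' = ρ₂ := by
    rw [← Category.assoc, IsIso.comp_inv_eq, ← Category.assoc, ← Category.assoc,
      show ρ₁ ≫ v false = ρ₂ ≫ v true from hkv]
  refine ⟨γ', hγ', ?_, hργ⟩
  have := hβ
  have hfγ : 𝒴'.p.IsHomLift (𝟙 T) (f'.map γ') := BasedFunctor.preserves_isHomLift f' _ _
  have := IsFibGrpd.isIso_of_isHomLift_id hG₂' (R := T) β
  have : 𝒴'.p.IsHomLift (𝟙 T) (inv β) := IsHomLift.lift_id_inv_isIso _ _ _
  have : IsSchemeTheoreticallyDominant (𝒴'.p.map (f'.map ρ₁)).left := by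
    have := hfk false
    have := hdom
    rw [IsHomLift.fac' 𝒴'.p i (f'.map ρ₁)]
    simp only [Over.comp_left]
    have h1 : IsIso (eqToHom (IsHomLift.domain_eq 𝒴'.p i (f'.map ρ₁))).left :=
      inferInstanceAs (IsIso ((Over.forget S).map _))
    have h2 : IsIso (eqToHom (IsHomLift.codomain_eq 𝒴'.p i (f'.map ρ₁)).symm).left :=
      inferInstanceAs (IsIso ((Over.forget S).map _))
    infer_instance
  have ha : f'.map γ' ≫ inv β = 𝟙 _ := aut_eq_of_agree hd hG₂' (f'.map ρ₁) _ _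
    (map_eq_id_of_lift (T := T) _ (IsHomLift.comp_lift_id_left' 𝒴'.p T (f'.map γ') _ _)) (𝒴'.p.map_id _) (by
      rw [← Category.assoc, IsIso.comp_inv_eq, Category.comp_id, ← f'.map_comp, hργ, hρ])
  rwa [IsIso.comp_inv_eq, Category.id_comp] at ha

/-- Separated morphisms have the extension property over valuation rings. -/
theorem isoExt_of_separated {f : 𝒳 ⥤ᵇ 𝒴} (hG : _root_.FibCat.IsFibGrpd 𝒳.p) (hG₂ : _root_.FibCat.IsFibGrpd 𝒴.p)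
    (hsep : IsSeparatedMor f)
    {A : Type u} [CommRing A] [IsDomain A] [ValuationRing A] {K : Type u} [Field K] [Algebra A K]
    [IsFractionRing A K] (str : Spec (.of A) ⟶ S) :
    IsoExt f (Over.homMk (Spec.map (CommRingCat.ofHom (algebraMap A K))) rfl :
      Over.mk (Spec.map (CommRingCat.ofHom (algebraMap A K)) ≫ str) ⟶ Over.mk str) := by
  intro x₁ x₂ z β hβ ρ₁ ρ₂ hρ₁ hρ₂ hρ
  let i : Over.mk (Spec.map (CommRingCat.ofHom (algebraMap A K)) ≫ str) ⟶ Over.mk str :=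
    Over.homMk (Spec.map (CommRingCat.ofHom (algebraMap A K))) rfl
  have hx₁ : 𝒳.p.obj x₁ = Over.mk str := IsHomLift.codomain_eq 𝒳.p i ρ₁
  have := IsFibGrpd.isIso_of_isHomLift_id hG₂ (R := Over.mk str) β
  let P : (_root_.FibCat.fp f f).obj := Fp.mk (F := f) (G := f) x₁ x₂ (asIso β) (by rw [hx₁]; exact hβ)
  have hP := Fp.isFibGrpd (F := f) (G := f) hG hG hG₂
  obtain ⟨G, eX, heX⟩ := Yon.exists_functor hP P hx₁
  obtain ⟨F, e, he, hp⟩ := hsep (Over.mk str) G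
  obtain ⟨M⟩ := exists_fibModel G (_root_.FibCat.diag f) e hG hP he
  let τ : (_root_.FibCat.diag f).obj z ⟶ P := Fp.homMk ρ₁ ρ₂ (hρ.trans (Category.id_comp _).symm)
  have hτ : (_root_.FibCat.fp f f).p.IsHomLift i τ := (Fp.isHomLift_iff _ _).2 hρ₁
  have : (_root_.FibCat.fp f f).p.IsHomLift (𝟙 (Over.mk str)) eX.inv := IsHomLift.lift_id_inv _ _ _
  have hτe : (_root_.FibCat.fp f f).p.IsHomLift i (τ ≫ eX.inv) :=
    IsHomLift.comp_lift_id_right' _ i τ (Over.mk str) eX.inv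
  obtain ⟨m, hm⟩ := M.tot z (τ ≫ eX.inv) (IsHomLift.domain_eq 𝒳.p i ρ₁)
  obtain ⟨c, hc, hcφ⟩ := M.base hm
  obtain rfl : c = i := IsoNat.eq_of_lifts (_root_.FibCat.fp f f).p _ hc hτe
  let π : F ⟶ ⟨(AlgSp.yon S).obj (Over.mk str), AlgSp.IsAlgSpace.yon_obj _⟩ := ObjectProperty.homMk
    (spMapOfOver (BasedFunctor.comp e (_root_.FibCat.fpFst G (_root_.FibCat.diag f))))
  have hvc : AlgSp.ExistVC π.hom :=
    Groth.Agent.S10289.result π (GrothLib.AlgSp.isQuasiSeparatedMor_of_isSeparatedMor hp.1) hp.2.2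
  let sq : AlgSp.ValSq π.hom :=
    { A := A, K := K, str := str, top := m, bot := 𝟙 _
      comm := by rw [Category.comp_id]; exact hcφ }
  obtain ⟨l, hl, hlφ⟩ := (Groth.Agent.S10285.result π hp.1).1 hvc sq
  obtain ⟨z', σ, hR⟩ := M.surj l
  obtain ⟨c, hc', hc'φ⟩ := M.base hR
  obtain rfl : c = 𝟙 (Over.mk str) :=
    (AlgSp.yon S).map_injective (hc'φ.symm.trans (hlφ.trans (CategoryTheory.Functor.map_id _ _).symm))
  obtain ⟨κ, hκ, hκσ⟩ := M.exists_hom hm hR i hl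
  let σ' : (_root_.FibCat.diag f).obj z' ⟶ P := σ ≫ eX.hom
  have hσ' : (_root_.FibCat.fp f f).p.IsHomLift (𝟙 (Over.mk str)) σ' :=
    have := hc'; have := heX; IsHomLift.comp_lift_id_left' _ (Over.mk str) σ _ eX.hom
  have hσ₁ : 𝒳.p.IsHomLift (𝟙 (Over.mk str)) σ'.hom.fst := (Fp.isHomLift_iff _ _).1 hσ'
  have hσ₂ : 𝒳.p.IsHomLift (𝟙 (Over.mk str)) σ'.hom.snd := Fp.isHomLift_snd _ _ hσ'
  let σ₁ : z' ⟶ x₁ := σ'.hom.fst
  let σ₂ : z' ⟶ x₂ := σ'.hom.snd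
  have hw : f.map σ₁ ≫ β = f.map σ₂ := (Fp.w σ').trans (Category.id_comp _)
  have hκτ : (_root_.FibCat.diag f).map κ ≫ σ' = τ := by
    rw [← Category.assoc, hκσ, Category.assoc, Iso.inv_hom_id, Category.comp_id]
  have h₁ : κ ≫ σ₁ = ρ₁ := congrArg (fun t => t.hom.fst) hκτ
  have h₂ : κ ≫ σ₂ = ρ₂ := congrArg (fun t => t.hom.snd) hκτ
  have : 𝒳.p.IsHomLift (𝟙 (Over.mk str)) σ₁ := hσ₁
  have : 𝒳.p.IsHomLift (𝟙 (Over.mk str)) σ₂ := hσ₂
  have := IsFibGrpd.isIso_of_isHomLift_id hG (R := Over.mk str) σ₁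
  have : 𝒳.p.IsHomLift (𝟙 (Over.mk str)) (inv σ₁) := IsHomLift.lift_id_inv_isIso _ _ _
  refine ⟨inv σ₁ ≫ σ₂, IsHomLift.comp_lift_id_left' 𝒳.p (Over.mk str) (inv σ₁) _ σ₂, ?_, ?_⟩
  · rw [← cancel_epi (f.map σ₁), ← f.map_comp, IsIso.hom_inv_id_assoc, hw]
  · rw [← h₁, Category.assoc, IsIso.hom_inv_id_assoc, h₂]

/-- Properness of the diagonal over a locally noetherian chart from the extension property. -/
theorem hasRep_proper_diag_of_isoExt {f : 𝒳 ⥤ᵇ 𝒴} (hG : _root_.FibCat.IsFibGrpd 𝒳.p)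
    (hG₂ : _root_.FibCat.IsFibGrpd 𝒴.p)
    (hD : RepByAlgSpWith ((AlgSp.IsSeparatedMor ⊓ AlgSp.IsQuasiCompactMor) ⊓ AlgSp.LocP @LocallyOfFiniteType)
      (_root_.FibCat.diag f))
    (hext : ∀ (A : Type u) [CommRing A] [IsDomain A] [ValuationRing A] [IsDiscreteValuationRing A] (K : Type u)
      [Field K] [Algebra A K] [IsFractionRing A K] (str : Spec (.of A) ⟶ S),
      IsoExt f (Over.homMk (Spec.map (CommRingCat.ofHom (algebraMap A K))) rfl :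
        Over.mk (Spec.map (CommRingCat.ofHom (algebraMap A K)) ≫ str) ⟶ Over.mk str))
    {W : Over S} (hW : IsLocallyNoetherian W.left) (w : _root_.FibCat.overCat W ⥤ᵇ _root_.FibCat.fp f f) :
    HasRep AlgSp.IsProperMor (_root_.FibCat.fpFst w (_root_.FibCat.diag f)) := by
  obtain ⟨F, e, he, ⟨hs, hqc⟩, hl⟩ := hD W w
  have hP := Fp.isFibGrpd (F := f) (G := f) hG hG hG₂
  obtain ⟨M⟩ := exists_fibModel w (_root_.FibCat.diag f) e hG hP he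
  refine ⟨F, e, he, hs, ⟨hl, hqc⟩, GrothLib.AlgSp.isUnivClosedMor_of_dvr F.property
    (AlgSp.IsAlgSpace.yon_obj W) ⟨W, 𝟙 _, AlgSp.repWith_id _ W, AlgSp.repWith_id _ W, hW⟩ hl hqc fun v hA => ?_⟩
  obtain ⟨s, hs'⟩ := (AlgSp.yon S).map_surjective v.bot
  obtain ⟨z, σ, hR⟩ := M.surj v.top
  obtain ⟨c, hc, hcφ⟩ := M.base hR
  obtain rfl : c = v.j ≫ s := (AlgSp.yon S).map_injective (by rw [← hcφ, Functor.map_comp, hs']; exact v.comm)
  obtain ⟨P, ν, hν⟩ := IsFibGrpd.exists_lift_of_eq hP (w.w_obj (Yon.idObj W)) s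
  obtain ⟨τ, hτ, hτν⟩ := Axes.exists_over hP v.j s ν hν σ hc
  have hx₁ : 𝒳.p.obj P.obj.fst = v.ptA := IsHomLift.domain_eq (_root_.FibCat.fp f f).p s ν
  have hβ : 𝒴.p.IsHomLift (𝟙 v.ptA) P.obj.iso.hom := by rw [← hx₁]; exact Fp.iso_lift P
  have := hA
  let τ₁ : z ⟶ P.obj.fst := τ.hom.fst
  let τ₂ : z ⟶ P.obj.snd := τ.hom.snd
  have hτ₁ : 𝒳.p.IsHomLift v.j τ₁ := (Fp.isHomLift_iff τ v.j).1 hτ
  obtain ⟨γ, hγ, hfγ, hτγ⟩ := hext v.A v.K v.str P.obj.iso.hom hβ τ₁ τ₂ hτ₁ (Fp.isHomLift_snd τ v.j hτ)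
    ((Fp.w τ).trans (Category.id_comp _))
  let σA : (_root_.FibCat.diag f).obj P.obj.fst ⟶ P := Fp.homMk (𝟙 _) γ (by
    rw [diag_iso]
    exact (congrArg (· ≫ P.obj.iso.hom) (f.map_id _)).trans ((Category.id_comp _).trans
      (hfγ.symm.trans (Category.id_comp _).symm)))
  obtain ⟨l, hlR⟩ := M.tot P.obj.fst (σA ≫ ν) hx₁
  have hlt : (AlgSp.yon S).map v.j ≫ l = v.top := M.map_eq hR hlR v.j τ₁ hτ₁ (by
    rw [← hτν, ← Category.assoc]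
    congr 1
    exact Fp.hom_ext (Category.comp_id τ₁) hτγ)
  obtain ⟨c', hc', hc'φ⟩ := M.base hlR
  have hσA : (_root_.FibCat.fp f f).p.IsHomLift (𝟙 v.ptA) σA :=
    (Fp.isHomLift_iff _ _).2 (IsHomLift.id hx₁)
  obtain rfl : c' = s := IsoNat.eq_of_lifts (_root_.FibCat.fp f f).p _ hc'
    (IsHomLift.comp_lift_id_left' _ v.ptA σA s ν)
  let d : v.DomExt :=
    { A' := v.A, K' := v.K, φ := RingHom.id _, ψ := RingHom.id _, comm := rfl
      isLocalHom := ⟨fun a ha => ha⟩ }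
  let j : d.ptA' ⟶ v.ptA := Over.homMk (Spec.map (CommRingCat.ofHom d.φ)) rfl
  refine ⟨d, (AlgSp.yon S).map j ≫ l, ?_, ?_⟩
  · rw [← hlt, ← Functor.map_comp_assoc, ← Functor.map_comp_assoc]
    congr 2
    apply Over.OverMorphism.ext
    change Spec.map _ ≫ Spec.map _ = Spec.map _ ≫ Spec.map _
    rw [← Spec.map_comp, ← Spec.map_comp]
    rfl
  · rw [Category.assoc, hc'φ, hs']

/-- The diagonal of a morphism between stacks with separated quasi-compact diagonals. -/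
theorem repByAlgSpWith_sep_qc_diag (h𝒳 : IsAlgStack Scheme.fppfPrecoverage 𝒳)
    (h𝒴 : IsAlgStack Scheme.fppfPrecoverage 𝒴) (f : 𝒳 ⥤ᵇ 𝒴)
    (h𝒳d : RepByAlgSpWith (AlgSp.IsSeparatedMor ⊓ AlgSp.IsQuasiCompactMor)
      (_root_.FibCat.diag (_root_.FibCat.toSelf 𝒳)))
    (h𝒴d : RepByAlgSpWith (AlgSp.IsSeparatedMor ⊓ AlgSp.IsQuasiCompactMor)
      (_root_.FibCat.diag (_root_.FibCat.toSelf 𝒴))) :
    RepByAlgSpWith (AlgSp.IsSeparatedMor ⊓ AlgSp.IsQuasiCompactMor) (_root_.FibCat.diag f) := by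
  let t := _root_.FibCat.toSelf 𝒴
  have hS := (isDM_of_repByAlgSp (repByAlgSp_selfOver (S := S))).1
  have key : ∀ {G H : 𝒳 ⥤ᵇ _root_.FibCat.selfOver (Over S)}, G.toFunctor = H.toFunctor → G = H := by
    rintro ⟨G, hG⟩ ⟨H, hH⟩ (rfl : G = H); rfl
  have heq : BasedFunctor.comp f t = _root_.FibCat.toSelf 𝒳 := key f.w
  have h1 : RepByAlgSpWith (AlgSp.IsSeparatedMor ⊓ AlgSp.IsQuasiCompactMor)
      (_root_.FibCat.diag (BasedFunctor.comp f t)) := by rw [heq]; exact h𝒳d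
  have h2 := repByAlgSpWith_fpToFp h𝒳.isStack.1 f f t
    (repByAlgSpWith_mono (fun _ _ _ _ _ h => h.1) h𝒴d : RepByAlgSpWith AlgSp.IsSeparatedMor _)
  refine (CompStable.inf (compStable_repWith_diagonal @IsClosedImmersion)
    compStable_isQuasiCompactMor).repByAlgSpWith_of_comp h𝒳 (isAlgStack_fp h𝒴.isStack h𝒴.diag h𝒳 h𝒳 f f)
    (isAlgStack_fp hS.isStack hS.diag h𝒳 h𝒳 (BasedFunctor.comp f t) (BasedFunctor.comp f t))
    (_root_.FibCat.diag f) (fpToFp f f t) (repByAlgSpWith_of_iso (diagCompIso f t).symm h1) ?_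
  refine repByAlgSpWith_mono (fun X Y a hX hY (h : AlgSp.RepWith @IsClosedImmersion a) => ?_)
    (repByAlgSpWith_repWith_diag_of @IsClosedImmersion AlgSp.IsSeparatedMor (fun X Y a h => h) h2)
  have hp := GrothLib.AlgSp.isProperMor_of_repWith_isClosedImmersion hY h
  exact ⟨hp.1, hp.2.1.2⟩

theorem isSeparatedMor_of_fIsoSq (h𝒳 : IsAlgStack Scheme.fppfPrecoverage 𝒳)
    (h𝒴 : IsAlgStack Scheme.fppfPrecoverage 𝒴) (h𝒳' : IsAlgStack Scheme.fppfPrecoverage 𝒳')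
    (h𝒴' : IsAlgStack Scheme.fppfPrecoverage 𝒴')
    (h𝒳'd : RepByAlgSpWith (AlgSp.IsSeparatedMor ⊓ AlgSp.IsQuasiCompactMor)
      (_root_.FibCat.diag (_root_.FibCat.toSelf 𝒳')))
    (h𝒴'd : RepByAlgSpWith (AlgSp.IsSeparatedMor ⊓ AlgSp.IsQuasiCompactMor)
      (_root_.FibCat.diag (_root_.FibCat.toSelf 𝒴')))
    (f : 𝒳 ⥤ᵇ 𝒴) (f' : 𝒳' ⥤ᵇ 𝒴') (φ : _root_.IsoNat.FIsoSq f f')
    (hft' : LocQ (AlgSp.LocP @LocallyOfFiniteType) f')
    (hN' : SmoothLocally (fun X => IsLocallyNoetherian X) 𝒴')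
    (hf : IsSeparatedMor f) : IsSeparatedMor f' := by
  have hsq := repByAlgSpWith_sep_qc_diag h𝒳' h𝒴' f' h𝒳'd h𝒴'd
  have hD : RepByAlgSpWith ((AlgSp.IsSeparatedMor ⊓ AlgSp.IsQuasiCompactMor) ⊓ AlgSp.LocP @LocallyOfFiniteType)
      (_root_.FibCat.diag f') := by
    intro U y
    obtain ⟨F, e, he, h1⟩ := hsq U y
    exact ⟨F, e, he, h1, HasRep.mem (repByAlgSpWith_lft_diag h𝒳' h𝒴' f' U y) isoInvariant_locP F e he⟩
  have hfp := isAlgStack_fp h𝒴'.isStack h𝒴'.diag h𝒳' h𝒳' f' f'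
  have hNfp : SmoothLocally (fun X => IsLocallyNoetherian X) (_root_.FibCat.fp f' f') :=
    smoothLocally_isLocallyNoetherian_of_lft hfp h𝒳' (_root_.FibCat.fpFst f' f')
      (locQ_fpFst GrothLib.AlgSp.isSmoothLocalST_lft (stableSp_locP GrothLib.AlgSp.EtLocal.lft) h𝒳'.isStack.1
        h𝒴'.isStack.1 h𝒳' f' hft')
      (smoothLocally_isLocallyNoetherian_of_lft h𝒳' h𝒴' f' hft' hN')
  obtain ⟨W, w, hw, hws⟩ := hfp.atlas
  refine repByAlgSpWith_of_fpFst (isoInvariant_of_stableSp fun X₁ Y₁ X₂ Y₂ hX hY _ hY' a b a' b' sq h =>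
      GrothLib.AlgSp.isProperMor_of_isPullback hX hY hY' sq h)
    descendsToSchemes_isProperMor (repByAlgSp1_of_repByAlgSpWith hD) (z := w)
    (liftsFppf_of_repByAlgSpWith w ?_ ?_ hws) ?_
  · exact repByAlgSpWith_mono (fun X Y a _ _ ha U V p q h pe qe w => by
      have : Smooth h.left := ha p q h pe qe w
      change Flat h.left
      infer_instance) hw
  · exact repByAlgSpWith_mono (fun X Y a _ _ ha U V p q h pe qe w => by
      have : Smooth h.left := ha p q h pe qe w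
      change LocallyOfFinitePresentation h.left
      infer_instance) hw
  · refine repByAlgSpWith_proper_fpFst w
      (hasRep_proper_diag_of_isoExt h𝒳'.isStack.1 h𝒴'.isStack.1 hD ?_ (hNfp W w hw) w)
    intro A _ _ _ _ K _ _ _ str
    exact isoExt_of_fIsoSq h𝒳.isStack h𝒴.isStack h𝒳'.isStack h𝒴'.isStack φ
      (repByAlgSpWith_mono (fun _ _ _ _ _ h => h.1) h𝒴'd) _ (isOpenImmersion_fracSpec A K)
      (GrothLib.Axes.isSchemeTheoreticallyDominant_specMap _ (IsFractionRing.injective A K))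
      (isoExt_of_separated h𝒳.isStack.1 h𝒴.isStack.1 hf str)

end GrothLib.IsoNat
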